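import Cfsg.Agent.Lib.FusionCrit.Pairs

/-
Subsystems of index prime to `p`.
Main results (namespace `Cfsg.Agent.FusionCrit`): `ppAut` (`O^{p'}(Aut_F(R))`), `Gen` (maps generated by
`O^{p'}` of the automizers of centric subgroups and `Inn S`), `TGen`, `exists_frattini`, `gen_of_pElement`.
-/

set_option autoImplicit false

namespace Cfsg.Agent.FusionCrit

open Cfsg Cfsg.FusionSystem Cfsg.Agent.Fusion Cfsg.Agent.FusionChain

variable {Ω : Type*} [Group Ω] {S : Subgroup Ω} {F : FusionSystem S} {p : ℕ}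

/-- The subgroup of `Aut_F(R)` generated by its elements of `p`-power order. -/
def ppAut (F : FusionSystem S) (p : ℕ) (R : Subgroup Ω) : Subgroup (MulAut R) :=
  Subgroup.closure {α : MulAut R | α ∈ F.autGroup R ∧ ∃ k : ℕ, orderOf α = p ^ k}

theorem ppAut_le_autGroup (F : FusionSystem S) (p : ℕ) (R : Subgroup Ω) :
    ppAut F p R ≤ F.autGroup R :=
  (Subgroup.closure_le _).2 fun _ h => h.1

theorem ppAut_eq_map (F : FusionSystem S) (p : ℕ) (R : Subgroup Ω) :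
    (Subgroup.closure {α : ↥(F.autGroup R) | ∃ k : ℕ, orderOf α = p ^ k}).map
      (F.autGroup R).subtype = ppAut F p R := by
  rw [MonoidHom.map_closure, ppAut]
  congr 1
  ext α
  constructor
  · rintro ⟨a, ⟨k, hk⟩, rfl⟩
    exact ⟨a.2, k, (Subgroup.orderOf_coe a).trans hk⟩
  · rintro ⟨h, k, hk⟩
    exact ⟨⟨α, h⟩, ⟨k, (Subgroup.orderOf_mk α h).trans hk⟩, rfl⟩

theorem mem_ppAut_of_isPGroup {R : Subgroup Ω} {K : Subgroup (MulAut R)} [Fact p.Prime]
    (hK : IsPGroup p K) (hle : K ≤ F.autGroup R) : K ≤ ppAut F p R := by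
  intro k hk
  obtain ⟨i, hi⟩ := (IsPGroup.iff_orderOf.1 hK) ⟨k, hk⟩
  exact Subgroup.subset_closure ⟨hle hk, i, (Subgroup.orderOf_mk k hk).symm.trans hi⟩

theorem congr_mem_ppAut {R R' : Subgroup Ω} {f : Ω → Ω} (hf : IsIso F R R' f) {α : MulAut R}
    (hα : α ∈ ppAut F p R) : MulAut.congr hf.equiv α ∈ ppAut F p R' := by
  have h : (ppAut F p R).map (MulAut.congr hf.equiv).toMonoidHom ≤ ppAut F p R' := by
    rw [ppAut, MonoidHom.map_closure, Subgroup.closure_le]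
    rintro _ ⟨β, ⟨hβ, k, hk⟩, rfl⟩
    exact Subgroup.subset_closure ⟨congr_mem_autGroup hf hβ, k,
      (MulEquiv.orderOf_eq (MulAut.congr hf.equiv) β).trans hk⟩
  exact h ⟨α, hα, rfl⟩

theorem conj_mem_ppAut {R : Subgroup Ω} {α β : MulAut R} (hα : α ∈ F.autGroup R)
    (hβ : β ∈ ppAut F p R) : α * β * α⁻¹ ∈ ppAut F p R := by
  have h : (ppAut F p R).map (MulAut.conj α).toMonoidHom ≤ ppAut F p R := by
    rw [ppAut, MonoidHom.map_closure, Subgroup.closure_le]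
    rintro _ ⟨γ, ⟨hγ, k, hk⟩, rfl⟩
    exact Subgroup.subset_closure ⟨mul_mem (mul_mem hα hγ) (Subgroup.inv_mem _ hα), k,
      (MulEquiv.orderOf_eq (MulAut.conj α) γ).trans hk⟩
  exact h ⟨β, hβ, rfl⟩

theorem isCentric_of_isConj {R R' : Subgroup Ω} (hc : F.IsCentric R) (h : F.IsConj R R') :
    F.IsCentric R' :=
  ⟨(isConj_le h).2, fun X hX => hc.2 X (isConj_trans h hX)⟩

/-- Maps generated by the groups `ppAut` of centric subgroups and conjugations by `S`. -/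
inductive Gen (F : FusionSystem S) (p : ℕ) : Subgroup Ω → (Ω → Ω) → Prop
  | aut {R Q : Subgroup Ω} {α : MulAut R} : F.IsCentric R → α ∈ ppAut F p R → Q ≤ R →
      Gen F p Q (autFn α)
  | conj {Q : Subgroup Ω} {s : Ω} : Q ≤ S → s ∈ S → Gen F p Q (fun x => s * x * s⁻¹)
  | comp {Q : Subgroup Ω} {f g : Ω → Ω} : Gen F p Q f → Gen F p (img f Q) g →
      Gen F p Q (fun x => g (f x))
  | congr {Q : Subgroup Ω} {f g : Ω → Ω} : Gen F p Q f → (∀ x ∈ Q, f x = g x) → Gen F p Q g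

theorem Gen.isMap {Q : Subgroup Ω} {f : Ω → Ω} (h : Gen F p Q f) : IsMap F Q f := by
  induction h with
  | aut hc hα hQ => exact ((mem_autGroup_iff hc.1).1 (ppAut_le_autGroup F p _ hα)).mono hQ
  | conj hQ hs => exact Fusion.IsMap.conj hQ hs
  | comp _ _ ih1 ih2 => exact ih1.comp ih2 fun x hx => ih1.mem_img hx
  | congr _ e ih => exact ih.congr e

theorem Gen.id {Q : Subgroup Ω} (hQ : Q ≤ S) : Gen F p Q (fun x => x) :=
  (Gen.conj hQ S.one_mem).congr fun x _ => by group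

theorem Gen.mono {Q : Subgroup Ω} {f : Ω → Ω} (h : Gen F p Q f) :
    ∀ Q' : Subgroup Ω, Q' ≤ Q → Gen F p Q' f := by
  induction h with
  | aut hc hα hQ => exact fun Q' h => Gen.aut hc hα (h.trans hQ)
  | conj hQ hs => exact fun Q' h => Gen.conj (h.trans hQ) hs
  | @comp Q f g h1 _ ih1 ih2 =>
    intro Q' h
    exact Gen.comp (ih1 Q' h) (ih2 _ (h1.isMap.img_le h fun x hx => h1.isMap.mem_img (h hx)))
  | congr _ e ih => exact fun Q' h => (ih Q' h).congr fun x hx => e x (h hx)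

theorem Gen.comp_of_le {Q Q' : Subgroup Ω} {f g : Ω → Ω} (hf : Gen F p Q f) (hg : Gen F p Q' g)
    (h : ∀ x ∈ Q, f x ∈ Q') : Gen F p Q (fun x => g (f x)) :=
  Gen.comp hf (hg.mono _ (hf.isMap.img_le le_rfl h))

theorem img_img_of {Q : Subgroup Ω} {f g : Ω → Ω} (hf : IsMap F Q f) (hg : IsMap F (img f Q) g) :
    img (fun x => g (f x)) Q = img g (img f Q) :=
  (hf.isIso.trans hg.isIso).2

theorem Gen.symm {Q : Subgroup Ω} {f : Ω → Ω} (h : Gen F p Q f) :
    ∀ g : Ω → Ω, (∀ x ∈ Q, g (f x) = x) → Gen F p (img f Q) g := by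
  induction h with
  | @aut R Q α hc hα hQ =>
    intro g hg
    have hm := (mem_autGroup_iff hc.1).1 (ppAut_le_autGroup F p _ hα)
    refine (Gen.aut hc (Subgroup.inv_mem _ hα)
      (hm.img_le hQ fun x hx => autFn_mem α (hQ hx))).congr fun y hy => ?_
    obtain ⟨x, hx, rfl⟩ := (hm.mem_img_iff hQ).1 hy
    rw [hg x hx, autFn_inv_self α (hQ hx)]
  | @conj Q s hQ hs =>
    intro g hg
    have hm : IsMap F Q (fun x => s * x * s⁻¹) := Fusion.IsMap.conj hQ hs
    refine (Gen.conj hm.img_le_S (inv_mem hs)).congr fun y hy => ?_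
    obtain ⟨x, hx, rfl⟩ := (hm.mem_img_iff le_rfl).1 hy
    rw [hg x hx]
    group
  | @comp Q f₁ f₂ h₁ h₂ ih₁ ih₂ =>
    intro k hk
    obtain ⟨i, hi, hil, -⟩ := h₁.isMap.isIso.symm
    obtain ⟨j, hj, hjl, -⟩ := h₂.isMap.isIso.symm
    have c₁ := ih₁ i hil
    rw [img_img_of h₁.isMap h₂.isMap]
    refine ((ih₂ j hjl).comp_of_le c₁ fun y hy => hj.mem hy).congr fun y hy => ?_
    obtain ⟨z, hz, rfl⟩ := (h₂.isMap.mem_img_iff le_rfl).1 hy
    obtain ⟨x, hx, rfl⟩ := (h₁.isMap.mem_img_iff le_rfl).1 hz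
    rw [hjl _ hz, hil x hx, hk x hx]
  | @congr Q f₁ f₂ _ e ih =>
    intro g hg
    rw [← img_congr e]
    exact ih g fun x hx => by rw [e x hx]; exact hg x hx

/-- Automorphisms of `S` act on generated maps. -/
theorem Gen.twist {β : MulAut S} (hβ : β ∈ F.autGroup S) {Q : Subgroup Ω} {f : Ω → Ω}
    (h : Gen F p Q f) : ∀ g : Ω → Ω, (∀ x ∈ Q, g (autFn β x) = autFn β (f x)) →
      Gen F p (img (autFn β) Q) g := by
  have hb : IsMap F S (autFn β) := (mem_autGroup_iff le_rfl).1 hβ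
  induction h with
  | @aut R Q α hc hα hQ =>
    intro g hg
    have hiso : IsIso F R (img (autFn β) R) (autFn β) := ⟨hb.mono hc.1, rfl⟩
    refine (Gen.aut (isCentric_of_isConj hc (isConj_iff.2 ⟨_, hiso⟩)) (congr_mem_ppAut hiso hα)
      (hb.img_le (hQ.trans hc.1) fun x hx => hb.mem_img (hQ hx))).congr fun y hy => ?_
    obtain ⟨x, hx, rfl⟩ := (hb.mem_img_iff (hQ.trans hc.1)).1 hy
    rw [hg x hx, autFn_apply _ (hiso.mem (hQ hx)), autFn_apply α (hQ hx)]
    exact congr_apply_coe hiso α ⟨x, hQ hx⟩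
  | @conj Q s hQ hs =>
    intro g hg
    refine (Gen.conj (hb.img_le hQ fun x hx => hb.mem (hQ hx)) (hb.mem hs)).congr fun y hy => ?_
    obtain ⟨x, hx, rfl⟩ := (hb.mem_img_iff hQ).1 hy
    rw [hg x hx]
    exact (hb.map_conj hs (hQ hx)).symm
  | @comp Q f₁ f₂ h₁ h₂ ih₁ ih₂ =>
    intro g hg
    have hQS := h₁.isMap.le
    have hmid : img f₁ Q ≤ S := h₁.isMap.img_le_S
    have c₁ := ih₁ (fun y => autFn β (f₁ (autFn β⁻¹ y))) fun x hx => by
      show autFn β (f₁ (autFn β⁻¹ (autFn β x))) = _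
      rw [autFn_inv_self β (hQS hx)]
    have c₂ := ih₂ (fun y => autFn β (f₂ (autFn β⁻¹ y))) fun x hx => by
      show autFn β (f₂ (autFn β⁻¹ (autFn β x))) = _
      rw [autFn_inv_self β (hmid hx)]
    refine (c₁.comp_of_le c₂ fun y hy => ?_).congr fun y hy => ?_
    · obtain ⟨x, hx, rfl⟩ := (hb.mem_img_iff hQS).1 hy
      rw [autFn_inv_self β (hQS hx)]
      exact hb.mem_img (h₁.isMap.mem_img hx)
    · obtain ⟨x, hx, rfl⟩ := (hb.mem_img_iff hQS).1 hy
      show autFn β (f₂ (autFn β⁻¹ (autFn β (f₁ (autFn β⁻¹ (autFn β x)))))) = _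
      rw [autFn_inv_self β (hQS hx), autFn_inv_self β (h₁.isMap.mem hx), hg x hx]
  | @congr Q f₁ f₂ _ e ih =>
    intro g hg
    exact ih g fun x hx => by rw [hg x hx, e x hx]

theorem Gen.isMap_of {E : FusionSystem S} (h : ∀ R, F.IsCentric R → ppAut F p R ≤ E.autGroup R)
    {Q : Subgroup Ω} {f : Ω → Ω} (hf : Gen F p Q f) : IsMap E Q f := by
  induction hf with
  | aut hc hα hQ => exact ((mem_autGroup_iff hc.1).1 (h _ hc hα)).mono hQ
  | conj hQ hs => exact Fusion.IsMap.conj hQ hs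
  | comp _ h₂ ih₁ ih₂ => exact ih₁.comp ih₂ fun x hx => ih₁.mem_img hx
  | congr _ e ih => exact ih.congr e

/-- An element of `A` composed with a generated map. -/
def TGen (F : FusionSystem S) (p : ℕ) (A : Subgroup (MulAut S)) (P : Subgroup Ω) (f : Ω → Ω) : Prop :=
  ∃ β ∈ A, ∃ g, Gen F p P g ∧ ∀ x ∈ P, f x = autFn β (g x)

theorem TGen.of_gen {A : Subgroup (MulAut S)} {P : Subgroup Ω} {f : Ω → Ω} (h : Gen F p P f) :
    TGen F p A P f :=
  ⟨1, one_mem _, f, h, fun x hx => by rw [autFn_apply 1 (h.isMap.mem hx)]; rfl⟩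

theorem TGen.congr {A : Subgroup (MulAut S)} {P : Subgroup Ω} {f g : Ω → Ω} (h : TGen F p A P f)
    (e : ∀ x ∈ P, f x = g x) : TGen F p A P g :=
  let ⟨β, hβ, k, hk, hfk⟩ := h
  ⟨β, hβ, k, hk, fun x hx => (e x hx).symm.trans (hfk x hx)⟩

theorem TGen.mono {A : Subgroup (MulAut S)} {P P' : Subgroup Ω} {f : Ω → Ω} (h : TGen F p A P f)
    (hP : P' ≤ P) : TGen F p A P' f :=
  let ⟨β, hβ, k, hk, e⟩ := h
  ⟨β, hβ, k, hk.mono _ hP, fun x hx => e x (hP hx)⟩

theorem TGen.isMap {A : Subgroup (MulAut S)} (hA : A ≤ F.autGroup S) {P : Subgroup Ω} {f : Ω → Ω}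
    (h : TGen F p A P f) : IsMap F P f :=
  let ⟨_, hβ, _, hk, e⟩ := h
  (hk.isMap.comp ((mem_autGroup_iff le_rfl).1 (hA hβ)) fun x hx => hk.isMap.mem hx).congr
    fun x hx => (e x hx).symm

theorem TGen.comp {A : Subgroup (MulAut S)} (hA : A ≤ F.autGroup S) {P P' : Subgroup Ω}
    {f g : Ω → Ω} (hf : TGen F p A P f) (hg : TGen F p A P' g) (h : ∀ x ∈ P, f x ∈ P') :
    TGen F p A P (fun x => g (f x)) := by
  obtain ⟨β, hβ, k, hk, ek⟩ := hf
  obtain ⟨γ, hγ, l, hl, el⟩ := hg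
  have hP' : P' ≤ S := hl.isMap.le
  have hbi : IsMap F S (autFn β⁻¹) := (mem_autGroup_iff le_rfl).1 (hA (Subgroup.inv_mem _ hβ))
  have hl' := hl.twist (hA (Subgroup.inv_mem _ hβ)) (fun y => autFn β⁻¹ (l (autFn β y))) fun x hx => by
    show autFn β⁻¹ (l (autFn β (autFn β⁻¹ x))) = _
    rw [autFn_self_inv β (hP' hx)]
  refine ⟨γ * β, mul_mem hγ hβ, _, hk.comp_of_le hl' fun x hx => ?_, fun x hx => ?_⟩
  · have h1 := hk.isMap.mem hx
    rw [← autFn_inv_self β h1, ← ek x hx]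
    exact hbi.mem_img (h x hx)
  · have h1 := hk.isMap.mem hx
    have h2 : l (f x) ∈ S := hl.isMap.mem (h x hx)
    show g (f x) = autFn (γ * β) (autFn β⁻¹ (l (autFn β (k x))))
    rw [← ek x hx, autFn_mul _ _ (autFn_mem β⁻¹ h2), autFn_self_inv β h2, el _ (h x hx)]

theorem TGen.symm {A : Subgroup (MulAut S)} (hA : A ≤ F.autGroup S) {P : Subgroup Ω} {f : Ω → Ω}
    (hf : TGen F p A P f) (i : Ω → Ω) (hi : ∀ x ∈ P, i (f x) = x) :
    TGen F p A (img f P) i := by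
  have hm := hf.isMap hA
  obtain ⟨β, hβ, k, hk, ek⟩ := hf
  obtain ⟨j, hj, hjl, -⟩ := hk.isMap.isIso.symm
  have hc : img f P ≤ S := hm.img_le_S
  have hb : TGen F p A (img f P) (autFn β⁻¹) :=
    ⟨β⁻¹, inv_mem hβ, fun x => x, Gen.id hc, fun _ _ => rfl⟩
  refine (hb.comp hA (TGen.of_gen (A := A) (hk.symm j hjl)) fun y hy => ?_).congr fun y hy => ?_
  · obtain ⟨x, hx, rfl⟩ := (hm.mem_img_iff le_rfl).1 hy
    rw [ek x hx, autFn_inv_self β (hk.isMap.mem hx)]
    exact hk.isMap.mem_img hx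
  · obtain ⟨x, hx, rfl⟩ := (hm.mem_img_iff le_rfl).1 hy
    show j (autFn β⁻¹ (f x)) = i (f x)
    rw [hi x hx, ek x hx, autFn_inv_self β (hk.isMap.mem hx), hjl x hx]

/-- The system of twisted generated maps. -/
def genSys (F : FusionSystem S) (p : ℕ) (A : Subgroup (MulAut S)) (hA : A ≤ F.autGroup S) :
    FusionSystem S where
  Hom P := {φ | TGen F p A P (toFn φ)}
  le_of_mem h := ⟨(h.isMap hA).le, fun x => by
    have := (h.isMap hA).mem x.2
    rwa [toFn_coe] at this⟩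
  injective_of_mem h a b e := Subtype.ext ((h.isMap hA).inj a.2 b.2 (by rw [toFn_coe, toFn_coe, e]))
  conj_mem {P g} hP hg := (TGen.of_gen (Gen.conj hP hg)).congr fun x hx =>
    ((toFn_apply (conjHom P g) hx).trans rfl).symm
  comp_mem {P Q φ ψ} hφ hψ h := by
    refine (hφ.comp hA hψ fun x hx => (toFn_apply φ hx).symm ▸ h ⟨x, hx⟩).congr fun x hx => ?_
    rw [toFn_apply (ψ.comp (φ.codRestrict Q h)) hx, toFn_apply φ hx, toFn_apply ψ (h ⟨x, hx⟩)]
    rfl
  inv_mem {P φ} hφ := by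
    obtain ⟨ψ, hψ, hinv⟩ := F.inv_mem (mem_of_isMap (hφ.isMap hA) fun x => (toFn_coe φ x).symm)
    refine ⟨ψ, ?_, hinv⟩
    have hs := hφ.symm hA (toFn ψ) fun x hx => by
      rw [toFn_apply φ hx, toFn_apply ψ (show φ ⟨x, hx⟩ ∈ φ.range from ⟨_, rfl⟩)]
      exact hinv ⟨x, hx⟩
    rwa [toFn_img] at hs

theorem isMap_genSys {A : Subgroup (MulAut S)} {hA : A ≤ F.autGroup S} {P : Subgroup Ω}
    {f : Ω → Ω} : IsMap (genSys F p A hA) P f ↔ TGen F p A P f := by
  constructor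
  · rintro ⟨φ, hφ, e⟩
    exact TGen.congr hφ fun x hx => (toFn_apply φ hx).trans (e x hx)
  · intro h
    obtain ⟨φ, -, e⟩ := h.isMap hA
    exact ⟨φ, h.congr fun x hx => ((toFn_apply φ hx).trans (e x hx)).symm, e⟩

variable [Finite S] [Fact p.Prime]

/-- Every map is an automorphism of `S` composed with a generated map. -/
theorem exists_frattini (hS : IsPGroup p S) (hF : F.IsSaturated p) {P : Subgroup Ω} {f : Ω → Ω}
    (hf : IsMap F P f) : TGen F p (F.autGroup S) P f := by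
  refine alperin_induction hS hF (fun P f => TGen F p (F.autGroup S) P f)
    (fun _ _ _ _ h e => h.congr e) (fun _ _ _ _ h' h => h.mono h')
    (fun _ _ _ _ _ _ h h1 h2 => h1.comp le_rfl h2 h) ?_ hf
  intro R hR hc _ α hα ih
  by_cases hRS : R = S
  · subst hRS
    exact ⟨α, hα, fun x => x, Gen.id le_rfl, fun _ _ => rfl⟩
  have := finite_mulAut hR.1
  have hA := fullyAutomized_of_fullyNormalized hS hF hR
  have hsyl := (isFullyAutomized_iff.1 hA).2
  have hBH : autInducedBy S R ≤ ppAut F p R :=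
    mem_ppAut_of_isPGroup (isPGroup_autInducedBy hS) (autInducedBy_le_autGroup F le_rfl hR.1)
  obtain ⟨a, ha, hac⟩ := (hsyl.mono hBH (ppAut_le_autGroup F p R)).exists_conj_le
    ((isPGroup_autInducedBy hS).map (MulAut.conj α).toMonoidHom)
    (by rintro _ ⟨b, hb, rfl⟩; exact conj_mem_ppAut hα (hBH hb))
  have hn : a * α ∈ F.autGroup R := mul_mem (ppAut_le_autGroup F p R ha) hα
  obtain ⟨g, hg, hge⟩ := exists_extension (receptive_of_fullyNormalized hS hF hR) hn le_rfl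
    fun y hy => by
      have hb : normConj S R ⟨y, hy⟩ ∈ autInducedBy S R := range_normConj S R ▸ ⟨_, rfl⟩
      have := hac _ ⟨_, hb, rfl⟩
      simpa [mul_assoc] using this
  have hlt : R < normalizerIn S R := lt_normalizerIn hS le_rfl (lt_of_le_of_ne hR.1 hRS)
  have hle : normalizerIn S R ≤ R ⊔ normalizerIn S R := le_sup_right
  have h1 := (ih _ g (hg.mono hle) (card_lt inf_le_left hlt)).mono hlt.le
  have h2 : TGen F p (F.autGroup S) R (autFn a⁻¹) :=
    TGen.of_gen (Gen.aut hc (Subgroup.inv_mem _ ha) le_rfl)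
  refine (h1.comp le_rfl h2 fun x hx => ?_).congr fun x hx => ?_
  · rw [hge x hx]
    exact autFn_mem _ hx
  · show autFn a⁻¹ (g x) = autFn α x
    rw [hge x hx, ← autFn_mul _ _ hx, inv_mul_cancel_left]

/-- Elements of `p`-power order of every automizer are generated maps. -/
theorem gen_of_pElement (hS : IsPGroup p S) (hF : F.IsSaturated p) {P : Subgroup Ω} (hP : P ≤ S)
    {α : MulAut P} (hα : α ∈ F.autGroup P) {k : ℕ} (hk : orderOf α = p ^ k) :
    Gen F p P (autFn α) := by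
  obtain ⟨R, hPR, hA, -⟩ := hF P hP
  obtain ⟨f₀, hf₀⟩ := isConj_iff.1 hPR
  have := finite_mulAut hA.1
  have := finite_mulAut hP
  have hp : IsPGroup p (Subgroup.zpowers α) :=
    IsPGroup.of_card (n := k) ((Nat.card_zpowers α).trans hk)
  obtain ⟨a, ha, hac⟩ := (isFullyAutomized_iff.1 hA).2.exists_conj_le
    (hp.map (MulAut.congr hf₀.equiv).toMonoidHom) (by
      rintro _ ⟨b, hb, rfl⟩
      exact congr_mem_autGroup hf₀ ((Subgroup.zpowers_le.2 hα) hb))
  obtain ⟨t, ht, hte⟩ := mem_autInducedBy_iff.1 (hac _ ⟨α, Subgroup.mem_zpowers α, rfl⟩)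
  have hf := hf₀.trans (isIso_autFn hA.1 ha)
  set f := fun x => autFn a (f₀ x) with hfd
  have hfα : ∀ x (hx : x ∈ P), f (α ⟨x, hx⟩ : P) = t * f x * t⁻¹ := fun x hx => by
    have h := hte (a (hf₀.equiv ⟨x, hx⟩))
    rw [MulAut.mul_apply, MulAut.mul_apply, MulAut.inv_apply_self] at h
    simp only [hfd]
    rw [autFn_apply a (hf₀.mem (α ⟨x, hx⟩).2), autFn_apply a (hf₀.mem hx)]
    refine Eq.trans ?_ h
    exact congrArg (fun y : R => ((a y : R) : Ω)) (Subtype.ext (congr_apply_coe hf₀ α ⟨x, hx⟩).symm)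
  obtain ⟨β, hβ, g, hg, hfg⟩ := exists_frattini hS hF hf.1
  obtain ⟨i, hi, hil, -⟩ := hg.isMap.isIso.symm
  have hb : IsMap F S (autFn β) := (mem_autGroup_iff le_rfl).1 hβ
  set s := autFn β⁻¹ t
  have hs : s ∈ S := autFn_mem _ ht
  have key : ∀ x (hx : x ∈ P), g (α ⟨x, hx⟩ : P) = s * g x * s⁻¹ := fun x hx => by
    have hgx := hg.isMap.mem hx
    have hgax := hg.isMap.mem (α ⟨x, hx⟩).2
    apply hb.inj hgax (mul_mem (mul_mem hs hgx) (inv_mem hs))
    rw [hb.map_conj hs hgx, autFn_self_inv β ht, ← hfg x hx, ← hfg _ (α ⟨x, hx⟩).2]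
    exact hfα x hx
  have hmem : ∀ x ∈ P, s * g x * s⁻¹ ∈ img g P := fun x hx =>
    key x hx ▸ hg.isMap.mem_img (α ⟨x, hx⟩).2
  have h1 : Gen F p P (fun x => s * g x * s⁻¹) :=
    hg.comp_of_le (Gen.conj hg.isMap.img_le_S hs) fun x hx => hg.isMap.mem_img hx
  refine (h1.comp_of_le (hg.symm i hil) hmem).congr fun x hx => ?_
  show i (s * g x * s⁻¹) = _
  rw [← key x hx, hil _ (α ⟨x, hx⟩).2, autFn_apply α hx]

end Cfsg.Agent.FusionCrit
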