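import Cfsg.Agent.Lib.FusionCrit.Basic
import Cfsg.Agent.Lib.FusionCrit.PrimeIndex
import Cfsg.Agent.Lib.FusionChain.Radical

/-
The least saturated subsystem of index prime to `p`.
Main results (namespace `Cfsg.Agent.FusionCrit`): `exists_eq_conj_of_eqOn_centric`, `isCentric_of_gen`,
`resA`, `isSaturated_genSys`, `resA_le_of`, `isPPrimeResidual_genSys`.
-/

set_option autoImplicit false

namespace Cfsg.Agent.FusionCrit

open Cfsg Cfsg.FusionSystem Cfsg.Agent.Fusion Cfsg.Agent.FusionChain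

variable {Ω : Type*} [Group Ω] {S : Subgroup Ω} {F : FusionSystem S} {p : ℕ}

/-- A subgroup over a centric subgroup is centric. -/
theorem isCentric_of_le {Q N : Subgroup Ω} (hQ : F.IsCentric Q) (hQN : Q ≤ N) (hN : N ≤ S) :
    F.IsCentric N := by
  refine ⟨hN, fun R hR => ?_⟩
  obtain ⟨f, hf⟩ := isConj_iff.1 hR
  intro c hc
  have hle : img f Q ≤ R := hf.1.img_le hQN fun x hx => hf.mem (hQN hx)
  exact hle (hQ.2 _ (isConj_iff.2 ⟨f, hf.mono hQN⟩)
    (mem_centralizerIn.2 ⟨hc.1, fun x hx => (mem_centralizerIn.1 hc).2 x (hle hx)⟩))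

/-- Centricity is detected by generated maps. -/
theorem isCentric_of_gen [Finite S] [Fact p.Prime] (hS : IsPGroup p S) (hF : F.IsSaturated p)
    {P : Subgroup Ω} (hP : P ≤ S)
    (h : ∀ g : Ω → Ω, Gen F p P g → centralizerIn S (img g P) ≤ img g P) : F.IsCentric P := by
  refine ⟨hP, fun Q hQ c hcQ => ?_⟩
  obtain ⟨f, hf⟩ := isConj_iff.1 hQ
  obtain ⟨β, hβ, g, hg, hfg⟩ := exists_frattini hS hF hf.1
  have hb : IsMap F S (autFn β) := (mem_autGroup_iff le_rfl).1 hβ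
  have hcS : c ∈ S := hcQ.1
  set d := autFn β⁻¹ c with hd
  have hdS : d ∈ S := autFn_mem _ hcS
  have hdc : autFn β d = c := autFn_self_inv β hcS
  have hdC : d ∈ centralizerIn S (img g P) := by
    refine mem_centralizerIn_of_conj hdS fun y hy => ?_
    obtain ⟨x, hx, rfl⟩ := (hg.isMap.mem_img_iff le_rfl).1 hy
    have hgx := hg.isMap.mem hx
    apply hb.inj (mul_mem (mul_mem hdS hgx) (inv_mem hdS)) hgx
    rw [hb.map_conj hdS hgx, hdc, ← hfg x hx]
    exact centralizerIn_conj hcQ (hf.mem hx)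
  obtain ⟨x, hx, hxd⟩ := (hg.isMap.mem_img_iff le_rfl).1 (h g hg hdC)
  have hfx := hfg x hx
  rw [hxd, hdc] at hfx
  exact hfx ▸ hf.mem hx

/-- The automorphisms fixing `Q` pointwise. -/
def fixer (R Q : Subgroup Ω) : Subgroup (MulAut R) where
  carrier := {ψ | ∀ x : R, (x : Ω) ∈ Q → ψ x = x}
  one_mem' _ _ := rfl
  mul_mem' {a b} ha hb x hx := by rw [MulAut.mul_apply, hb x hx, ha x hx]
  inv_mem' {a} ha x hx := by
    have h := congrArg (a⁻¹ : MulAut R) (ha x hx)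
    rw [MulAut.inv_apply_self] at h
    exact h.symm

variable [Finite S] [Fact p.Prime]

/-- Maps agreeing on a centric normal subgroup differ by conjugation by an element of it. -/
theorem exists_eq_conj_of_eqOn_centric (hS : IsPGroup p S) (hF : F.IsSaturated p)
    {Q N : Subgroup Ω} (hQ : F.IsCentric Q) (hQN : Q ≤ N) (hN : N ≤ normalizerIn S Q)
    {f g : Ω → Ω} (hf : IsMap F N f) (hg : IsMap F N g) (he : ∀ x ∈ Q, f x = g x) :
    ∃ q ∈ Q, ∀ x ∈ N, f x = g (q * x * q⁻¹) := by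
  set R₁ := img g N with hR₁
  set Q₁ := img g Q with hQ₁
  have hQ₁R : Q₁ ≤ R₁ := hg.img_le hQN fun x hx => hg.mem_img (hQN hx)
  have hcQ₁ : F.IsCentric Q₁ := isCentric_of_isConj hQ (isConj_iff.2 ⟨g, hg.mono hQN, rfl⟩)
  have hR₁S : R₁ ≤ S := hg.img_le_S
  have hC₁ : centralizerIn S Q₁ ≤ Q₁ := centralizerIn_le_of_centric hcQ₁
  have hfR : ∀ y ∈ N, f y ∈ R₁ := by
    intro y hy
    have hc : (g y)⁻¹ * f y ∈ centralizerIn S Q₁ := by
      refine mem_centralizerIn_of_conj (mul_mem (inv_mem (hg.mem hy)) (hf.mem hy)) fun z hz => ?_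
      obtain ⟨x, hx, rfl⟩ := (hg.mem_img_iff hQN).1 hz
      have h1 := hf.map_conj hy (hQN hx)
      rw [he _ (normalizerIn_conj (hN hy) hx), hg.map_conj hy (hQN hx), he x hx] at h1
      calc (g y)⁻¹ * f y * g x * ((g y)⁻¹ * f y)⁻¹
          = (g y)⁻¹ * (f y * g x * (f y)⁻¹) * g y := by group
        _ = g x := by rw [← h1]; group
    have hmul := mul_mem (hg.mem_img hy : g y ∈ R₁) (hQ₁R (hC₁ hc))
    simpa using hmul
  obtain ⟨m, hm, hme⟩ := exists_comm hg hf hfR (Fusion.IsMap.id hR₁S)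
  have hmR : img m R₁ = R₁ := by
    refine eq_of_le_of_card hR₁S (hm.img_le le_rfl fun z hz => ?_) (hm.card_img le_rfl).ge
    obtain ⟨x, hx, rfl⟩ := (hg.mem_img_iff le_rfl).1 hz
    rw [hme x hx]
    exact hfR x hx
  obtain ⟨χ, hχ, hχe⟩ := exists_aut_of_isIso (show IsIso F R₁ R₁ m from ⟨hm, hmR⟩)
  obtain ⟨R₀, hc₀, hA₀, hr₀⟩ := hF R₁ hR₁S
  obtain ⟨R', Q', a, ht, ha, haQ⟩ := exists_pair_target hS hQ₁R ⟨hA₀, hr₀⟩ hc₀
  have hR'S : R' ≤ S := ht.1.2.1
  have hQ'R' : Q' ≤ R' := ht.2.1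
  have := finite_mulAut hR'S
  have hcQ' : F.IsCentric Q' := isCentric_of_isConj hcQ₁ (isConj_iff.2 ⟨a, ha.1.mono hQ₁R, haQ⟩)
  have hQ'n : ∀ r ∈ R', ∀ z ∈ Q', r * z * r⁻¹ ∈ Q' := by
    intro r hr z hz
    obtain ⟨y, hy, rfl⟩ := ha.exists_eq hr
    obtain ⟨w, hw, rfl⟩ := (ha.1.mem_img_iff hQ₁R).1 (haQ.symm ▸ hz : z ∈ img a Q₁)
    rw [← ha.1.map_conj hy (hQ₁R hw), ← haQ]
    refine ha.1.mem_img ?_
    obtain ⟨u, hu, rfl⟩ := (hg.mem_img_iff le_rfl).1 hy
    obtain ⟨v, hv, rfl⟩ := (hg.mem_img_iff hQN).1 hw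
    rw [← hg.map_conj hu (hQN hv)]
    exact hg.mem_img (normalizerIn_conj (hN hu) hv)
  set A := F.autGroup R' ⊓ stab R' Q' with hA
  set K := A ⊓ fixer R' Q' with hK
  have hKn : ∀ b ∈ A, ∀ ψ ∈ K, b * ψ * b⁻¹ ∈ K := by
    rintro b hb ψ ⟨hψA, hψ⟩
    refine ⟨mul_mem (mul_mem hb hψA) (Subgroup.inv_mem _ hb), fun x hx => ?_⟩
    rw [MulAut.mul_apply, MulAut.mul_apply, hψ _ (((inv_mem hb.2 : _ ∈ stab R' Q') x).2 hx),
      MulAut.apply_inv_self]
  have hKp : IsPGroup p K := by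
    rintro ⟨ψ, hψA, hψ⟩
    obtain ⟨k0, hk0⟩ := IsPGroup.iff_card.1 hS
    refine ⟨k0, Subtype.ext (MulEquiv.ext fun r => ?_)⟩
    show (ψ ^ p ^ k0) r = r
    set z : R' := r⁻¹ * ψ r with hz
    have hzQ : (z : Ω) ∈ Q' := centralizerIn_le_of_centric hcQ'
      (mem_centralizerIn_of_conj (hR'S z.2) fun q hq => by
        have h1 := hψ (r * ⟨q, hQ'R' hq⟩ * r⁻¹) (hQ'n r r.2 q hq)
        rw [map_mul, map_mul, map_inv, hψ ⟨q, hQ'R' hq⟩ hq] at h1
        have h2 : z * ⟨q, hQ'R' hq⟩ * z⁻¹ = ⟨q, hQ'R' hq⟩ := by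
          calc z * ⟨q, hQ'R' hq⟩ * z⁻¹ = r⁻¹ * (ψ r * ⟨q, hQ'R' hq⟩ * (ψ r)⁻¹) * r := by
                rw [hz]; group
            _ = ⟨q, hQ'R' hq⟩ := by rw [h1]; group
        exact congrArg Subtype.val h2)
    have hpow : ∀ j : ℕ, (ψ ^ j) r = r * z ^ j := by
      intro j
      induction j with
      | zero => simp
      | succ j ih =>
        rw [pow_succ', MulAut.mul_apply, ih, map_mul, map_pow, hψ z hzQ, pow_succ', ← mul_assoc,
          hz, mul_inv_cancel_left]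
    have hz1 : (z : Ω) ^ p ^ k0 = 1 := by
      have := congrArg Subtype.val (pow_card_eq_one' (x := (⟨(z : Ω), hR'S z.2⟩ : S)))
      simpa [hk0] using this
    rw [hpow, show z ^ p ^ k0 = 1 from Subtype.ext (by simpa using hz1), mul_one]
  obtain ⟨b, hb, hbc⟩ := ht.2.2.exists_conj_le hKp inf_le_left
  have hKB : ∀ ψ ∈ K, ψ ∈ autInducedBy S R' := fun ψ hψ => by
    have h1 := hbc _ (hKn b⁻¹ (Subgroup.inv_mem _ hb) ψ hψ)
    simp [mul_assoc] at h1
    exact h1.1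
  have hfix : ∀ x : R₁, (x : Ω) ∈ Q₁ → χ x = x := fun x hx => by
    obtain ⟨u, hu, hue⟩ := (hg.mem_img_iff hQN).1 hx
    exact Subtype.ext (by rw [hχe, ← hue, hme u (hQN hu), he u hu])
  have hχ' : MulAut.congr ha.equiv χ ∈ K := by
    have hfx : MulAut.congr ha.equiv χ ∈ fixer R' Q' := fun y hy => by
      obtain ⟨x, rfl⟩ := ha.equiv.surjective y
      rw [← haQ, IsIso.equiv_apply, ha.1.mem_img_iff hQ₁R] at hy
      obtain ⟨v, hv, hve⟩ := hy
      have hxQ : (x : Ω) ∈ Q₁ := ha.1.inj (hQ₁R hv) x.2 hve ▸ hv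
      exact Subtype.ext (by rw [congr_apply_coe, hfix x hxQ, IsIso.equiv_apply])
    refine ⟨⟨congr_mem_autGroup ha hχ, fun y => ⟨fun h => ?_, fun h => by rw [hfx y h]; exact h⟩⟩, hfx⟩
    have h2 := (inv_mem hfx : _ ∈ fixer R' Q') _ h
    rw [MulAut.inv_apply_self] at h2
    exact h2 ▸ h
  obtain ⟨t, htS, hte⟩ := mem_autInducedBy_iff.1 (hKB _ hχ')
  have htQ : t ∈ Q' := centralizerIn_le_of_centric hcQ'
    (mem_centralizerIn_of_conj htS fun y hy => by rw [← hte ⟨y, hQ'R' hy⟩, hχ'.2 ⟨y, hQ'R' hy⟩ hy])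
  obtain ⟨w, hw, rfl⟩ := (ha.1.mem_img_iff hQ₁R).1 (haQ.symm ▸ htQ : t ∈ img a Q₁)
  obtain ⟨q, hq, rfl⟩ := (hg.mem_img_iff hQN).1 hw
  refine ⟨q, hq, fun x hx => ?_⟩
  have hgx : g x ∈ R₁ := hg.mem_img hx
  have hgq : g q ∈ R₁ := hQ₁R hw
  have h3 := hte (ha.equiv ⟨g x, hgx⟩)
  rw [congr_apply_coe, hχe, IsIso.equiv_apply] at h3
  have h4 : m (g x) ∈ R₁ := by rw [hme x hx]; exact hfR x hx
  rw [hg.map_conj (hQN hq) hx]
  show f x = g q * g x * (g q)⁻¹
  rw [← show m (g x) = f x from hme x hx]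
  refine ha.1.inj h4 (mul_mem (mul_mem hgq hgx) (inv_mem hgq)) ?_
  rw [ha.1.map_conj hgq hgx]
  exact h3

/-- The automorphisms of `S` generated by those restricting to generated maps on centric subgroups. -/
def resA (F : FusionSystem S) (p : ℕ) : Subgroup (MulAut S) :=
  Subgroup.closure {β : MulAut S | β ∈ F.autGroup S ∧ ∃ P, F.IsCentric P ∧ Gen F p P (autFn β)}

theorem resA_le_autGroup (F : FusionSystem S) (p : ℕ) : resA F p ≤ F.autGroup S :=
  (Subgroup.closure_le _).2 fun _ h => h.1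

theorem isCentric_self : F.IsCentric S := by
  refine ⟨le_rfl, fun Q hQ => ?_⟩
  obtain ⟨f, hf⟩ := isConj_iff.1 hQ
  rw [eq_of_le_of_card le_rfl hf.le_right hf.card_eq.ge]
  exact inf_le_left

theorem isSaturated_genSys (hS : IsPGroup p S) (hF : F.IsSaturated p) {A : Subgroup (MulAut S)}
    (hA : A ≤ F.autGroup S) (hres : resA F p ≤ A) : (genSys F p A hA).IsSaturated p := by
  set E := genSys F p A hA with hE
  have hsub : ∀ {P : Subgroup Ω} {f : Ω → Ω}, IsMap E P f → IsMap F P f := fun h =>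
    (isMap_genSys.1 h).isMap hA
  refine isSaturated_of_family hS {P | F.IsCentric P} (fun P hP Q hQ => ?_) (fun P hP => ?_)
    (fun E' hE' => le_of_isMap fun P f hf => ?_) fun P hP hP' => ?_
  · obtain ⟨f, hf⟩ := isConj_iff.1 hQ
    exact isCentric_of_isConj hP (isConj_iff.2 ⟨f, hsub hf.1, hf.2⟩)
  · have hP' : F.IsCentric P := hP
    obtain ⟨R, hPR, hRA, hRR⟩ := hF P hP'.1
    obtain ⟨f, hf⟩ := isConj_iff.1 hPR
    obtain ⟨β, hβ, g, hg, hfg⟩ := exists_frattini hS hF hf.1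
    set Q := img g P with hQ
    have hbi : IsMap F S (autFn β⁻¹) := (mem_autGroup_iff le_rfl).1 (Subgroup.inv_mem _ hβ)
    have hRS : R ≤ S := hRR.1
    have hbR : img (autFn β⁻¹) R = Q := by
      refine IsIso.img_eq_of hbi hRS (fun y hy => ?_) fun z hz => ?_
      · obtain ⟨x, hx, rfl⟩ := hf.exists_eq hy
        rw [hfg x hx, autFn_inv_self β (hg.isMap.mem hx)]
        exact hg.isMap.mem_img hx
      · obtain ⟨x, hx, rfl⟩ := (hg.isMap.mem_img_iff le_rfl).1 hz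
        exact ⟨f x, hf.mem hx, by rw [hfg x hx, autFn_inv_self β (hg.isMap.mem hx)]⟩
    have hQS : Q ≤ S := hg.isMap.img_le_S
    have hcQ : F.IsCentric Q := isCentric_of_isConj hP' (isConj_iff.2 ⟨g, hg.isMap.isIso⟩)
    have hQn : F.IsFullyNormalized Q := by
      refine ⟨hQS, fun X hX => ?_⟩
      have hRn := fullyNormalized_of_far hS hRA hRR
      have hQR : F.IsConj R Q := isConj_iff.2 ⟨_, hbi.mono hRS, hbR⟩
      refine (hRn.2 X (isConj_trans hQR hX)).trans ?_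
      rw [← hbi.card_img (Q := normalizerIn S R) inf_le_left]
      have := finite_of_le (S := S) (P := normalizerIn S Q) inf_le_left
      exact Subgroup.card_le_of_le (hbi.img_le inf_le_left fun y hy =>
        map_normalizerIn hbi hRS hbR hy.1 hy)
    refine ⟨Q, isConj_iff.2 ⟨g, isMap_genSys.2 (TGen.of_gen hg), rfl⟩, ?_, ?_⟩
    · have := finite_mulAut hQS
      refine isFullyAutomized_iff.2 ⟨hQS, ((isFullyAutomized_iff.1
        (fullyAutomized_of_fullyNormalized hS hF hQn)).2).mono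
          (autInducedBy_le_autGroup E le_rfl hQS) fun α hα => ?_⟩
      exact (mem_autGroup_iff hQS).2 (hsub ((mem_autGroup_iff hQS).1 hα))
    · refine isReceptive_iff.2 ⟨hQS, fun P' φ hφ => ?_⟩
      have hφF : IsIso F P' Q φ := ⟨hsub hφ.1, hφ.2⟩
      obtain ⟨φ', hφ', hee⟩ :=
        (isReceptive_iff.1 (receptive_of_fullyNormalized hS hF hQn)).2 P' φ hφF
      obtain ⟨b, hb, k, hk, hke⟩ := exists_frattini hS hF hφ'
      obtain ⟨b', hb', k', hk', hke'⟩ := isMap_genSys.1 hφ.1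
      refine ⟨φ', isMap_genSys.2 ⟨b, ?_, k, hk, hke⟩, hee⟩
      have hP'N : P' ≤ Nx S P' φ := le_Nx hφF.1
      obtain ⟨i, hi, hil, -⟩ := hk'.isMap.isIso.symm
      have hgen : Gen F p (img k' P') (fun y => k (i y)) :=
        (hk'.symm i hil).comp_of_le hk fun y hy => hP'N (hi.mem hy)
      have hbb : b⁻¹ * b' ∈ resA F p := by
        refine Subgroup.subset_closure ⟨mul_mem (Subgroup.inv_mem _ hb) (hA hb'), img k' P',
          isCentric_of_isConj (isCentric_of_isConj hcQ (isConj_symm (isConj_iff.2 ⟨φ, hφF⟩)))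
            (isConj_iff.2 ⟨k', hk'.isMap.isIso⟩), hgen.congr fun y hy => ?_⟩
        obtain ⟨x, hx, rfl⟩ := (hk'.isMap.mem_img_iff le_rfl).1 hy
        show k (i (k' x)) = _
        rw [hil x hx, autFn_mul _ _ (hk'.isMap.mem hx), ← hke' x hx, ← hee x hx, hke x (hP'N hx),
          autFn_inv_self b (hk.isMap.mem (hP'N hx))]
      have := mul_mem hb' (Subgroup.inv_mem _ (hres hbb))
      simpa using this
  · obtain ⟨β, hβ, g, hg, hfg⟩ := isMap_genSys.1 hf
    have key : ∀ R, F.IsCentric R → ∀ h, IsMap E R h → IsMap E' R h := fun R hR h hh =>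
      let ⟨φ, hφ, e⟩ := hh
      ⟨φ, hE' R hR hφ, e⟩
    have hgE : IsMap E' P g := hg.isMap_of fun R hR α hα => (mem_autGroup_iff hR.1).2
      (key R hR _ (isMap_genSys.2 (TGen.of_gen (Gen.aut hR hα le_rfl))))
    have hbE : IsMap E' S (autFn β) := key S isCentric_self _
      (isMap_genSys.2 ⟨β, hβ, fun x => x, Gen.id le_rfl, fun _ _ => rfl⟩)
    exact (hgE.comp hbE fun x hx => hgE.mem hx).congr fun x hx => (hfg x hx).symm
  · refine absurd (isCentric_of_gen hS hF hP.1 fun g hg => hP.2 _ ?_) hP'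
    exact isConj_iff.2 ⟨g, isMap_genSys.2 (TGen.of_gen hg), rfl⟩

/-- Saturated subsystems over `S` containing the generated maps contain `resA`. -/
theorem resA_le_of (hS : IsPGroup p S) (hF : F.IsSaturated p) {D : FusionSystem S} (hD : D.IsSaturated p)
    (hDF : ∀ P f, IsMap D P f → IsMap F P f)
    (hgen : ∀ P f, Gen F p P f → IsMap D P f) : resA F p ≤ D.autGroup S := by
  rw [resA, Subgroup.closure_le]
  rintro β ⟨hβ, P, hP, hg⟩
  have hb : IsMap F S (autFn β) := (mem_autGroup_iff le_rfl).1 hβ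
  refine (mem_autGroup_iff le_rfl).2 ?_
  suffices H : ∀ n, ∀ P, F.IsCentric P → IsMap D P (autFn β) → Nat.card S - Nat.card P = n →
      IsMap D S (autFn β) from H _ P hP (hgen _ _ hg) rfl
  intro n
  induction n using Nat.strong_induction_on with
  | _ n ih =>
  intro P hP hm hn
  by_cases hPS : P = S
  · exact hPS ▸ hm
  set N := normalizerIn S P with hNdef
  have hlt : P < N := lt_normalizerIn hS le_rfl (lt_of_le_of_ne hP.1 hPS)
  set Q := img (autFn β) P with hQdef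
  have hcQ : F.IsCentric Q := isCentric_of_isConj hP (isConj_iff.2 ⟨_, hb.mono hP.1, rfl⟩)
  have hQfc : D.IsFullyCentralized Q := by
    refine ⟨hcQ.1, fun X hX => ?_⟩
    obtain ⟨h, hh⟩ := isConj_iff.1 hX
    obtain ⟨i, hi, -, -⟩ := hh.symm
    have hXC : centralizerIn S X ≤ X := hcQ.2 X (isConj_iff.2 ⟨h, hDF _ _ hh.1, hh.2⟩)
    rw [← hi.1.card_img hXC]
    have := finite_of_le (S := S) (P := centralizerIn S Q) inf_le_left
    exact Subgroup.card_le_of_le (hi.1.img_le hXC fun c hc =>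
      map_centralizerIn hi.1 le_rfl hi.2 (hXC hc) hc)
  obtain ⟨f', hf', hfe⟩ := (isReceptive_iff.1 (receptive_of_fullyCentralized hS hD hQfc)).2 P
    (autFn β) ⟨hm, rfl⟩
  have hNx : N ≤ Nx S P (autFn β) := fun y hy =>
    mem_Nx.2 ⟨hy, autFn β y, autFn_mem β hy.1, fun x hx => hb.map_conj hy.1 (hP.1 hx)⟩
  obtain ⟨q, hq, hqe⟩ := exists_eq_conj_of_eqOn_centric hS hF hP hlt.le le_rfl
    (hDF _ _ (hf'.mono hNx)) (hb.mono inf_le_left) fun x hx => hfe x hx
  have hqS : q ∈ S := hP.1 hq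
  have hqN : q ∈ N := hlt.le hq
  have hN : IsMap D N (autFn β) := by
    refine ((Fusion.IsMap.conj (inf_le_left : N ≤ S) (inv_mem hqS)).comp (hf'.mono hNx)
      fun x hx => mul_mem (mul_mem (inv_mem hqN) hx) (inv_mem (inv_mem hqN))).congr fun x hx => ?_
    rw [hqe _ (mul_mem (mul_mem (inv_mem hqN) hx) (inv_mem (inv_mem hqN)))]
    exact congrArg (autFn β) (by group)
  have h1 : Nat.card P < Nat.card N := card_lt inf_le_left hlt
  have h2 : Nat.card N ≤ Nat.card S := Subgroup.card_le_of_le inf_le_left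
  exact ih _ (by omega) N (isCentric_of_le hP hlt.le inf_le_left) hN rfl

/-- The least saturated subsystem of index prime to `p`. -/
theorem isPPrimeResidual_genSys (hS : IsPGroup p S) (hF : F.IsSaturated p) :
    F.IsPPrimeResidual p (genSys F p (resA F p) (resA_le_autGroup F p)) := by
  refine ⟨isSaturated_genSys hS hF _ le_rfl, ⟨fun P φ hφ => ?_, fun P hP => ?_⟩, fun D hD hDi => ?_⟩
  · exact mem_of_isMap (TGen.isMap (resA_le_autGroup F p) hφ) fun x => (toFn_coe φ x).symm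
  · rw [ppAut_eq_map, ppAut, Subgroup.closure_le]
    rintro α ⟨hα, k, hk⟩
    exact (mem_autGroup_iff hP).2 (isMap_genSys.2 (TGen.of_gen (gen_of_pElement hS hF hP hα hk)))
  · have hgen : ∀ P f, Gen F p P f → IsMap D P f := fun P f h =>
      h.isMap_of fun R hR => ppAut_eq_map F p R ▸ hDi.2 R hR.1
    have hDF : ∀ P f, IsMap D P f → IsMap F P f := fun P f ⟨φ, hφ, e⟩ => ⟨φ, hDi.1 P hφ, e⟩
    intro P φ hφ
    obtain ⟨β, hβ, g, hg, hfg⟩ := hφ
    have hgD := hgen _ _ hg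
    refine mem_of_isMap ((hgD.comp ((mem_autGroup_iff le_rfl).1 (resA_le_of hS hF hD hDF hgen hβ))
      fun x hx => hgD.mem hx).congr fun x hx => (hfg x hx).symm) fun x => (toFn_coe φ x).symm

end Cfsg.Agent.FusionCrit
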