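import Cfsg.Agent.Lib.FusionCrit.Normal

/-
The `p'`-residual of a weakly normal subsystem is normal and least.
Main results (namespace `Cfsg.Agent.FusionCrit`): `eq_genSys`, `isNormalIn_genSys`, `mem_of_restrict`,
`isSubsystemOf_genSys`.
-/

set_option autoImplicit false

namespace Cfsg.Agent.FusionCrit

open Cfsg Cfsg.FusionSystem Cfsg.Agent.Fusion Cfsg.Agent.FusionChain

variable {Ω : Type*} [Group Ω] {S T : Subgroup Ω} {F : FusionSystem S} {E : FusionSystem T} {p : ℕ}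

/-- Automorphisms of `T` in the big system act on generated maps. -/
theorem gen_transport (hi : E.IsInvariantIn F) {α : MulAut T} (hα : α ∈ F.autGroup T) {Q : Subgroup Ω}
    {f : Ω → Ω} (h : Gen E p Q f) : ∀ g : Ω → Ω, (∀ x ∈ Q, g (autFn α x) = autFn α (f x)) →
      Gen E p (img (autFn α) Q) g := by
  have hb : IsMap F T (autFn α) := (mem_autGroup_iff hi.2.1.1).1 hα
  induction h with
  | @aut R Q γ hc hγ hQ =>
    intro g hg
    have hiso : IsIso F R (img (autFn α) R) (autFn α) := ⟨hb.mono hc.1, rfl⟩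
    refine (Gen.aut (isCentric_transport hi hc hiso) (congr_mem_ppAut_of_invariant hi hiso hc.1 hγ)
      (hb.img_le (hQ.trans hc.1) fun x hx => hb.mem_img (hQ hx))).congr fun y hy => ?_
    obtain ⟨x, hx, rfl⟩ := (hb.mem_img_iff (hQ.trans hc.1)).1 hy
    rw [hg x hx, autFn_apply _ (hiso.mem (hQ hx)), autFn_apply γ (hQ hx)]
    exact congr_apply_coe hiso γ ⟨x, hQ hx⟩
  | @conj Q s hQ hs =>
    intro g hg
    refine (Gen.conj (hb.img_le hQ fun x hx => autFn_mem α (hQ hx)) (autFn_mem α hs)).congr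
      fun y hy => ?_
    obtain ⟨x, hx, rfl⟩ := (hb.mem_img_iff hQ).1 hy
    rw [hg x hx]
    exact (hb.map_conj hs (hQ hx)).symm
  | @comp Q f₁ f₂ h₁ h₂ ih₁ ih₂ =>
    intro g hg
    have hQT := h₁.isMap.le
    have hmid : img f₁ Q ≤ T := h₁.isMap.img_le_S
    have c₁ := ih₁ (fun y => autFn α (f₁ (autFn α⁻¹ y))) fun x hx => by
      show autFn α (f₁ (autFn α⁻¹ (autFn α x))) = _
      rw [autFn_inv_self α (hQT hx)]
    have c₂ := ih₂ (fun y => autFn α (f₂ (autFn α⁻¹ y))) fun x hx => by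
      show autFn α (f₂ (autFn α⁻¹ (autFn α x))) = _
      rw [autFn_inv_self α (hmid hx)]
    refine (c₁.comp_of_le c₂ fun y hy => ?_).congr fun y hy => ?_
    · obtain ⟨x, hx, rfl⟩ := (hb.mem_img_iff hQT).1 hy
      rw [autFn_inv_self α (hQT hx)]
      exact hb.mem_img (h₁.isMap.mem_img hx)
    · obtain ⟨x, hx, rfl⟩ := (hb.mem_img_iff hQT).1 hy
      show autFn α (f₂ (autFn α⁻¹ (autFn α (f₁ (autFn α⁻¹ (autFn α x)))))) = _
      rw [autFn_inv_self α (hQT hx), autFn_inv_self α (h₁.isMap.mem hx), hg x hx]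
  | @congr Q f₁ f₂ _ e ih =>
    intro g hg
    exact ih g fun x hx => by rw [hg x hx, e x hx]

theorem conj_mem_resA (hi : E.IsInvariantIn F) {α β : MulAut T} (hα : α ∈ F.autGroup T)
    (hβ : β ∈ resA E p) : α * β * α⁻¹ ∈ resA E p := by
  have h : (resA E p).map (MulAut.conj α).toMonoidHom ≤ resA E p := by
    rw [resA, MonoidHom.map_closure, Subgroup.closure_le]
    rintro _ ⟨γ, ⟨hγ, P, hP, hg⟩, rfl⟩
    have hb : IsMap F T (autFn α) := (mem_autGroup_iff hi.2.1.1).1 hα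
    refine Subgroup.subset_closure ⟨FusionNormal.conj_mem_autGroup hi le_rfl hα hγ,
      img (autFn α) P, isCentric_transport hi hP ⟨hb.mono hP.1, rfl⟩,
      gen_transport hi hα hg _ fun x hx => ?_⟩
    show autFn (α * γ * α⁻¹) (autFn α x) = _
    rw [← autFn_mul _ _ (hP.1 hx), inv_mul_cancel_right, autFn_mul _ _ (hP.1 hx)]
  exact h ⟨β, hβ, rfl⟩

/-- Pairs of automorphisms of `T C` and `P C` inducing the same modulo `T` on `C`. -/
theorem resA_generator_ext [Finite S] [Fact p.Prime] (hS : IsPGroup p S) (hE : E.IsWeaklyNormalIn F p)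
    {C D M P : Subgroup Ω} (hC : C = centralizerIn S T) (hD : D = P ⊔ C) (hM : M = T ⊔ C)
    {β : MulAut T} (hβ : β ∈ E.autGroup T) (hP : E.IsCentric P) (hg : Gen E p P (autFn β)) :
    ∃ H, IsMap F M H ∧ (∀ x ∈ T, H x = autFn β x) ∧ ∀ c ∈ C, c⁻¹ * H c ∈ T := by
  obtain ⟨hEs, hF, hi⟩ := hE
  have hTS : T ≤ S := hi.2.1.1
  have : Finite T := finite_of_le hTS
  have hCS : C ≤ S := hC ▸ inf_le_left
  have hMS : M ≤ S := hM ▸ sup_le hTS hCS
  have hTM : T ≤ M := hM ▸ le_sup_left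
  have hCM : C ≤ M := hM ▸ le_sup_right
  have hPD : P ≤ D := hD ▸ le_sup_left
  have hCD : C ≤ D := hD ▸ le_sup_right
  have hPT : P ≤ T := hP.1
  have hDM : D ≤ M := hD ▸ sup_le (hPT.trans hTM) hCM
  have hDS : D ≤ S := hDM.trans hMS
  have := finite_mulAut hMS
  have := finite_mulAut hDS
  have := finite_mulAut (le_refl T)
  have hCT : ∀ c ∈ C, c ∈ S ∧ ∀ x ∈ T, c * x = x * c := fun c hc' =>
    mem_centralizerIn.1 (hC ▸ hc' : c ∈ centralizerIn S T)
  have hDT : ∀ d ∈ D, d ∈ T → d ∈ P := by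
    intro d hd hdT
    obtain ⟨u, hu, w, hw, rfl⟩ := mem_sup_centralizer hPT (hC ▸ hD ▸ hd : d ∈ P ⊔ centralizerIn S T)
    have hwT : w ∈ T := by
      have := mul_mem (inv_mem (hPT hu)) hdT
      simpa using this
    exact mul_mem hu (hP.2 P (isConj_refl E hPT)
      (mem_centralizerIn.2 ⟨hwT, fun x hx => (mem_centralizerIn.1 hw).2 x (hPT hx)⟩))
  -- the extension of the inverse of `β` to `M`
  have hTfn : F.IsFullyNormalized T := by
    refine ⟨hTS, fun Q hQ => ?_⟩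
    obtain ⟨e, he⟩ := isConj_iff.1 hQ
    obtain rfl : Q = T := eq_of_le_of_card hTS (le_T_of_iso hi le_rfl he) he.card_eq.ge
    exact le_rfl
  have hβF : β⁻¹ ∈ F.autGroup T :=
    Subgroup.inv_mem _ (FusionNormal.autGroup_le_of_sub hi.1 le_rfl hβ)
  obtain ⟨g₀, hg₀, hg₀e⟩ := exists_extension (receptive_of_fullyNormalized hS hF hTfn) hβF
    (centralizerIn_le_normalizerIn S T) fun c hc' => by
      have : normConj S T ⟨c, centralizerIn_le_normalizerIn S T hc'⟩ = 1 :=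
        (normConj_eq_one_iff _).2 hc'
      rw [this, mul_one, mul_inv_cancel]
      exact Subgroup.one_mem _
  rw [← hC, ← hM] at hg₀
  have hg₀T : img g₀ T = T := by
    rw [img_congr hg₀e]
    exact (isIso_autFn hTS hβF).2
  have hg₀M : img g₀ M = M :=
    eq_of_le_of_card hMS (hg₀.img_le le_rfl fun x hx => hg₀.forall_mem_sup hTM hCM
      (fun y hy => hTM (hg₀T ▸ hg₀.mem_img hy))
      (fun y hy => hCM (hC ▸ map_centralizerIn hg₀ hTM hg₀T (hCM hy) (hC ▸ hy))) (hM ▸ hx))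
      (hg₀.card_img le_rfl).ge
  obtain ⟨g, hgA, hge⟩ := exists_aut_of_isIso (show IsIso F M M g₀ from ⟨hg₀, hg₀M⟩)
  have hgm : IsMap F M (autFn g) := (mem_autGroup_iff hMS).1 hgA
  have hgT : ∀ x ∈ T, autFn g x = autFn β⁻¹ x := fun x hx => by
    rw [autFn_apply g (hTM hx), hge, hg₀e x hx]
  -- stabilisers
  have hstab : ∀ ψ : MulAut M, ψ ∈ stab M T → ∀ c ∈ C, autFn ψ c ∈ C := by
    intro ψ hψ c hc'
    refine hC ▸ mem_centralizerIn_of_conj (hMS (autFn_mem ψ (hCM hc'))) fun x hx => ?_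
    have hx' := stab_maps (inv_mem hψ) hTM hx
    have h1 : c * autFn ψ⁻¹ x * c⁻¹ = autFn ψ⁻¹ x := by
      rw [(hCT c hc').2 _ hx', mul_inv_cancel_right]
    have h2 := congrArg (autFn ψ) h1
    rw [autFn_self_inv ψ (hTM hx)] at h2
    have hmul : ∀ a ∈ M, ∀ b ∈ M, autFn ψ (a * b) = autFn ψ a * autFn ψ b := fun a ha b hb => by
      rw [autFn_apply ψ ha, autFn_apply ψ hb, autFn_apply ψ (mul_mem ha hb), ← Subgroup.coe_mul,
        ← map_mul]
      rfl
    have hinv : autFn ψ c⁻¹ = (autFn ψ c)⁻¹ := by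
      rw [autFn_apply ψ (hCM hc'), autFn_apply ψ (inv_mem (hCM hc')), ← Subgroup.coe_inv, ← map_inv]
      rfl
    rwa [hmul _ (mul_mem (hCM hc') (hTM hx')) _ (inv_mem (hCM hc')), hmul _ (hCM hc') _ (hTM hx'),
      hinv, autFn_self_inv ψ (hTM hx)] at h2
  let R : Subgroup (MulAut M × MulAut D) :=
    { carrier := {x | x.1 ∈ stab M T ∧ x.2 ∈ stab D P ∧
        ∀ c ∈ C, (autFn x.1 c)⁻¹ * autFn x.2 c ∈ T}
      one_mem' := ⟨one_mem _, one_mem _, fun c hc' => by
        show (autFn (1 : MulAut M) c)⁻¹ * autFn (1 : MulAut D) c ∈ T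
        rw [autFn_apply _ (hCM hc'), autFn_apply _ (hCD hc')]
        simp⟩
      mul_mem' := by
        rintro a b ⟨ha₁, ha₂, ha⟩ ⟨hb₁, hb₂, hb⟩
        refine ⟨mul_mem ha₁ hb₁, mul_mem ha₂ hb₂, fun c hc' => ?_⟩
        have hc₁ := hstab _ hb₁ c hc'
        have ht := hb c hc'
        have htP : (autFn b.1 c)⁻¹ * autFn b.2 c ∈ P :=
          hDT _ (mul_mem (inv_mem (hCD hc₁)) (autFn_mem b.2 (hCD hc'))) ht
        show (autFn (a.1 * b.1) c)⁻¹ * autFn (a.2 * b.2) c ∈ T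
        rw [autFn_mul _ _ (hCM hc'), autFn_mul _ _ (hCD hc')]
        have h1 : autFn a.2 (autFn b.2 c) =
            autFn a.2 (autFn b.1 c) * autFn a.2 ((autFn b.1 c)⁻¹ * autFn b.2 c) := by
          rw [autFn_apply a.2 (hCD hc₁), autFn_apply a.2 (hPD htP), ← Subgroup.coe_mul, ← map_mul,
            autFn_apply a.2 (autFn_mem b.2 (hCD hc'))]
          exact congrArg (fun z : D => ((a.2 z : D) : Ω)) (Subtype.ext (by simp))
        rw [h1, ← mul_assoc]
        exact mul_mem (ha _ hc₁) (hPT (stab_maps ha₂ hPD htP))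
      inv_mem' := by
        rintro a ⟨ha₁, ha₂, ha⟩
        refine ⟨inv_mem ha₁, inv_mem ha₂, fun c hc' => ?_⟩
        show (autFn a.1⁻¹ c)⁻¹ * autFn a.2⁻¹ c ∈ T
        have hc₁ := hstab _ (inv_mem ha₁) c hc'
        have ht := ha _ hc₁
        rw [autFn_self_inv a.1 (hCM hc')] at ht
        have htP : c⁻¹ * autFn a.2 (autFn a.1⁻¹ c) ∈ P :=
          hDT _ (mul_mem (inv_mem (hCD hc')) (autFn_mem a.2 (hCD hc₁))) ht
        have h1 : autFn a.1⁻¹ c = autFn a.2⁻¹ c * autFn a.2⁻¹ (c⁻¹ * autFn a.2 (autFn a.1⁻¹ c)) := by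
          conv_lhs => rw [← autFn_inv_self a.2 (hCD hc₁)]
          rw [autFn_apply a.2⁻¹ (hCD hc'), autFn_apply a.2⁻¹ (hPD htP), ← Subgroup.coe_mul, ← map_mul,
            autFn_apply a.2⁻¹ (autFn_mem a.2 (hCD hc₁))]
          exact congrArg (fun z : D => ((a.2⁻¹ z : D) : Ω)) (Subtype.ext (by simp))
        rw [h1, mul_inv_rev, inv_mul_cancel_right]
        exact inv_mem (hPT (stab_maps (inv_mem ha₂) hPD htP)) }
  -- the restriction
  obtain ⟨h, hh, hhe, hhc⟩ := good_of_gen hS ⟨hEs, hF, hi⟩ hg hP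
  rw [← hC, ← hD] at hh
  have hβiso : IsIso E P (img (autFn β) P) (autFn β) := hg.isMap.isIso
  have hcβ : E.IsCentric (img (autFn β) P) := isCentric_of_isConj hP (isConj_iff.2 ⟨_, hβiso⟩)
  have hgP : ∀ y ∈ img (autFn β) P, autFn g y ∈ P := by
    intro y hy
    obtain ⟨x, hx, rfl⟩ := hβiso.exists_eq hy
    rw [hgT _ (autFn_mem β (hPT hx)), autFn_inv_self β (hPT hx)]
    exact hx
  have hhz : ∀ c ∈ C, c⁻¹ * h c ∈ img (autFn β) P := by
    intro c hc'
    refine hcβ.2 _ (isConj_refl E hcβ.1)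
      (mem_centralizerIn_of_conj (hhc c (hC ▸ hc')) fun y hy => ?_)
    obtain ⟨x, hx, rfl⟩ := hβiso.exists_eq hy
    have hxc : c * x * c⁻¹ = x := by rw [(hCT c hc').2 x (hPT hx), mul_inv_cancel_right]
    have h3 := hh.map_conj (hCD hc') (hPD hx)
    rw [hxc, hhe x hx] at h3
    calc c⁻¹ * h c * autFn β x * (c⁻¹ * h c)⁻¹
        = c⁻¹ * (h c * autFn β x * (h c)⁻¹) * c := by group
      _ = c⁻¹ * (autFn β x * c) := by rw [← h3, mul_assoc]
      _ = autFn β x := by rw [← (hCT c hc').2 _ (autFn_mem β (hPT hx)), inv_mul_cancel_left]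
  have hhM : ∀ x ∈ D, h x ∈ M := fun x hx => hh.forall_mem_sup hPD hCD
    (fun y hy => hTM (hhe y hy ▸ autFn_mem β (hPT hy)))
    (fun y hy => by
      have := mul_mem (hCM hy) (hTM (hhc y (hC ▸ hy)))
      simpa using this) (hD ▸ hx)
  have hm : IsMap F D (fun x => autFn g (h x)) := hh.comp hgm hhM
  have hgs : g ∈ stab M T := fun x => ⟨fun hx => ?_, fun hx => by
    rw [← autFn_apply g x.2, hgT _ hx]; exact autFn_mem _ hx⟩
  swap
  · obtain ⟨u, hu, hue⟩ : ∃ u ∈ T, autFn g u = ((g x : M) : Ω) :=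
      ⟨autFn β ((g x : M) : Ω), autFn_mem β hx,
        by rw [hgT _ (autFn_mem β hx), autFn_inv_self β hx]⟩
    rw [autFn_apply g (hTM hu)] at hue
    rw [← congrArg Subtype.val (g.injective (Subtype.ext hue))]
    exact hu
  have hmC : ∀ c ∈ C, autFn g (h c) = autFn g c * autFn g (c⁻¹ * h c) := fun c hc' => by
    rw [← hgm.map_mul (hCM hc') (hTM (hcβ.1 (hhz c hc'))), mul_inv_cancel_left]
  have hmD : img (fun x => autFn g (h x)) D = D :=
    eq_of_le_of_card hDS (hm.img_le le_rfl fun x hx => hm.forall_mem_sup hPD hCD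
      (fun y hy => by
        show autFn g (h y) ∈ D
        rw [hhe y hy]
        exact hPD (hgP _ (hg.isMap.mem_img hy)))
      (fun y hy => by
        show autFn g (h y) ∈ D
        rw [hmC y hy]
        exact mul_mem (hCD (hstab g hgs y hy)) (hPD (hgP _ (hhz y hy)))) (hD ▸ hx))
      (hm.card_img le_rfl).ge
  obtain ⟨δ, hδ, hδe⟩ := exists_aut_of_isIso (show IsIso F D D _ from ⟨hm, hmD⟩)
  have hδfix : δ ∈ fixer D P := fun x hx => Subtype.ext (by
    rw [hδe]
    show autFn g (h x) = x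
    rw [hhe _ hx, hgT _ (autFn_mem β (hPT hx)), autFn_inv_self β (hPT hx)])
  have hfs : ∀ ψ ∈ fixer D P, ψ ∈ stab D P := fun ψ hψ x => ⟨fun hx => by
    have h2 := (inv_mem hψ : _ ∈ fixer D P) _ hx
    rw [MulAut.inv_apply_self] at h2
    exact h2 ▸ hx, fun hx => by rw [hψ x hx]; exact hx⟩
  have hgR : (g, δ) ∈ R := ⟨hgs, hfs δ hδfix, fun c hc' => by
    show (autFn g c)⁻¹ * autFn δ c ∈ T
    rw [autFn_apply δ (hCD hc'), hδe]
    show (autFn g c)⁻¹ * autFn g (h c) ∈ T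
    rw [hmC c hc', inv_mul_cancel_left]
    exact hPT (hgP _ (hhz c hc'))⟩
  -- `p'`-power
  have hp : p.Prime := Fact.out
  obtain ⟨v, q, hq, hqe⟩ := Nat.exists_eq_pow_mul_and_not_dvd (orderOf_pos β).ne' p hp.ne_one
  have hqp : q.Coprime p := ((Nat.Prime.coprime_iff_not_dvd hp).2 hq).symm
  have hTfnE : E.IsFullyNormalized T := fullyNormalized_of_invariant hi le_rfl hTfn hS hF
  have hpβ : IsPGroup p (Subgroup.zpowers (β ^ q)) := by
    obtain ⟨k, -, hk⟩ := (Nat.dvd_prime_pow hp).1 (orderOf_dvd_of_pow_eq_one (x := β ^ q) (n := p ^ v)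
      (by rw [← pow_mul, mul_comm, ← hqe, pow_orderOf_eq_one]))
    exact IsPGroup.of_card (n := k) ((Nat.card_zpowers _).trans hk)
  obtain ⟨a, ha, hac⟩ := (isFullyAutomized_iff.1
    (fullyAutomized_of_fullyNormalized (hS.to_le hTS) hEs hTfnE)).2.exists_conj_le hpβ
      (Subgroup.zpowers_le.2 (pow_mem hβ q))
  obtain ⟨s, hs, hse⟩ := mem_autInducedBy_iff.1 (hac _ (Subgroup.mem_zpowers (β ^ q)))
  set t := autFn a⁻¹ s with ht
  have htT : t ∈ T := autFn_mem _ hs
  have hinner : ∀ x ∈ T, autFn (β ^ q) x = t * x * t⁻¹ := fun x hx => by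
    have h1 := hse (a ⟨x, hx⟩)
    rw [MulAut.mul_apply, MulAut.mul_apply, MulAut.inv_apply_self] at h1
    have h2 : a ((β ^ q) ⟨x, hx⟩) = (⟨s, hs⟩ : T) * a ⟨x, hx⟩ * (⟨s, hs⟩ : T)⁻¹ := Subtype.ext h1
    have h3 := congrArg (a⁻¹ : MulAut T) h2
    rw [MulAut.inv_apply_self, map_mul, map_mul, map_inv, MulAut.inv_apply_self] at h3
    rw [autFn_apply _ hx, h3, ht, autFn_apply _ hs]
    rfl
  have hct : IsMap F M (fun x => t * x * t⁻¹) := Fusion.IsMap.conj hMS (hTS htT)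
  have hctM : img (fun x => t * x * t⁻¹) M = M :=
    eq_of_le_of_card hMS (hct.img_le le_rfl fun x hx =>
      mul_mem (mul_mem (hTM htT) hx) (inv_mem (hTM htT))) (hct.card_img le_rfl).ge
  obtain ⟨ct, hctA, hcte⟩ := exists_aut_of_isIso (show IsIso F M M _ from ⟨hct, hctM⟩)
  have hcts : ct ∈ stab M T := fun x => by
    rw [hcte]
    exact ⟨fun h => by simpa [mul_assoc] using mul_mem (mul_mem (inv_mem htT) h) htT,
      fun h => mul_mem (mul_mem htT h) (inv_mem htT)⟩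
  have hctR : (ct, 1) ∈ R := ⟨hcts, one_mem _, fun c hc' => by
    show (autFn ct c)⁻¹ * autFn (1 : MulAut D) c ∈ T
    rw [autFn_apply _ (hCD hc'), autFn_apply _ (hCM hc'), hcte]
    show (t * c * t⁻¹)⁻¹ * c ∈ T
    rw [← (hCT c hc').2 t htT, mul_inv_cancel_right, inv_mul_cancel]
    exact one_mem _⟩
  have hpow : ∀ (ψ : MulAut M) (γ : MulAut T), (∀ x ∈ T, autFn ψ x = autFn γ x) →
      ∀ j : ℕ, ∀ x ∈ T, autFn (ψ ^ j) x = autFn (γ ^ j) x := by
    intro ψ γ he j
    induction j with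
    | zero => intro x hx; rw [pow_zero, pow_zero, autFn_apply _ (hTM hx), autFn_apply _ hx]; rfl
    | succ j ih =>
      intro x hx
      rw [pow_succ, pow_succ, autFn_mul _ _ (hTM hx), autFn_mul _ _ hx, he x hx,
        ih _ (autFn_mem γ hx)]
  set k := ct * g ^ q with hk
  have hkT : ∀ x ∈ T, autFn k x = x := fun x hx => by
    rw [hk, autFn_mul _ _ (hTM hx), hpow g β⁻¹ hgT q x hx, autFn_apply ct (hTM (autFn_mem _ hx)), hcte]
    show t * autFn (β⁻¹ ^ q) x * t⁻¹ = x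
    rw [← hinner _ (autFn_mem _ hx), inv_pow, autFn_self_inv _ hx]
  have hkR : (k, δ ^ q) ∈ R := by
    have h1 := mul_mem hctR (pow_mem hgR q)
    rwa [Prod.pow_mk, Prod.mk_mul_mk, one_mul] at h1
  obtain ⟨u, w, hw, hwe⟩ := Nat.exists_eq_pow_mul_and_not_dvd (orderOf_pos δ).ne' p hp.ne_one
  obtain ⟨n', hn1, hn2⟩ := Nat.chineseRemainder ((hqp.pow_right u) : q.Coprime (p ^ u)) 0 1
  obtain ⟨i, rfl⟩ := Nat.modEq_zero_iff_dvd.1 hn1
  set δ' := δ * (δ ^ (q * i))⁻¹ with hδ'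
  have hδ'w : δ' ^ w = 1 := by
    have hc' : Commute δ (δ ^ (q * i))⁻¹ := ((Commute.refl δ).pow_right _).inv_right
    rw [hδ', hc'.mul_pow, inv_pow, ← pow_mul]
    have h1 : δ ^ (q * i * w) = δ ^ w := by
      refine pow_eq_pow_iff_modEq.2 ?_
      rw [hwe]
      simpa using Nat.ModEq.mul_right' w hn2
    rw [h1, mul_inv_cancel]
  have hδ'fix : δ' ∈ fixer D P :=
    Subgroup.mul_mem _ hδfix (Subgroup.inv_mem _ (Subgroup.pow_mem _ hδfix _))
  have hδ'A : δ' ∈ F.autGroup D :=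
    Subgroup.mul_mem _ hδ (Subgroup.inv_mem _ (Subgroup.pow_mem _ hδ _))
  subst hC hD hM
  obtain ⟨ε, hε, hεT, hεD⟩ := exists_lift hS hF hi hP hδ'A
    (fun x hx => by rw [autFn_apply δ' (hPD hx), hδ'fix ⟨x, hPD hx⟩ hx])
    ((((Nat.Prime.coprime_iff_not_dvd hp).2 hw).symm).coprime_dvd_left
      (orderOf_dvd_of_pow_eq_one hδ'w))
  have hεs : ε ∈ stab (T ⊔ centralizerIn S T) T := fun x => ⟨fun hx => by
    have h2 : ε x = (⟨((ε x : _) : Ω), hTM hx⟩ : ↥(T ⊔ centralizerIn S T)) := rfl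
    have h3 := hεT _ hx
    rw [autFn_apply ε (hTM hx)] at h3
    exact (congrArg Subtype.val (ε.injective (Subtype.ext h3 : ε _ = ε x))) ▸ hx, fun hx => by
    rw [← autFn_apply ε x.2, hεT _ hx]; exact hx⟩
  have hεR : (ε, δ') ∈ R := ⟨hεs, hfs δ' hδ'fix, fun c hc' => by
    show (autFn ε c)⁻¹ * autFn δ' c ∈ T
    rw [hεD c (hCD hc'), inv_mul_cancel]
    exact one_mem _⟩
  have hall := mul_mem (mul_mem hεR (pow_mem hkR i)) (inv_mem hgR)
  rw [Prod.pow_mk, Prod.inv_mk, Prod.mk_mul_mk, Prod.mk_mul_mk, ← pow_mul, hδ',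
    inv_mul_cancel_right, mul_inv_cancel] at hall
  have hkA : k ∈ F.autGroup (T ⊔ centralizerIn S T) := mul_mem hctA (pow_mem hgA q)
  refine ⟨autFn (ε * k ^ i * g⁻¹), (mem_autGroup_iff hMS).1
    (mul_mem (mul_mem hε (pow_mem hkA i)) (Subgroup.inv_mem _ hgA)), fun x hx => ?_, fun c hc' => ?_⟩
  · have h1 : autFn g⁻¹ x = autFn β x := by
      have h2 := hgT _ (autFn_mem β hx)
      rw [autFn_inv_self β hx] at h2
      have h3 := autFn_inv_self g (hTM (autFn_mem β hx))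
      rwa [h2] at h3
    have hki : ∀ j : ℕ, ∀ z ∈ T, autFn (k ^ j) z = z := by
      intro j z hz
      rw [hpow k 1 (fun y hy => by rw [hkT y hy, autFn_apply _ hy]; rfl) j z hz, one_pow,
        autFn_apply _ hz]
      rfl
    rw [autFn_mul _ _ (hTM hx), autFn_mul _ _ (autFn_mem g⁻¹ (hTM hx)), h1,
      hki i _ (autFn_mem β hx), hεT _ (autFn_mem β hx)]
  · have h1 : (autFn (ε * k ^ i * g⁻¹) c)⁻¹ * autFn (1 : MulAut _) c ∈ T := hall.2.2 c hc'
    rw [autFn_apply (1 : MulAut ↥(P ⊔ centralizerIn S T)) (hCD hc')] at h1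
    have h2 := inv_mem h1
    simpa using h2

variable [Finite S] [Fact p.Prime]

/-- A `p'`-residual subsystem equals the generated one. -/
theorem eq_genSys (hS : IsPGroup p S) (hF : F.IsSaturated p) {D : FusionSystem S}
    (hD : F.IsPPrimeResidual p D) : D = genSys F p (resA F p) (resA_le_autGroup F p) :=
  ext_of_le (hD.2.2 _ (isPPrimeResidual_genSys hS hF).1 (isPPrimeResidual_genSys hS hF).2.1)
    ((isPPrimeResidual_genSys hS hF).2.2 _ hD.1 hD.2.1)

omit [Finite S] in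
theorem isNormalIn_genSys [Finite S] [Finite T] (hS : IsPGroup p S) (hE : E.IsWeaklyNormalIn F p) :
    (genSys E p (resA E p) (resA_le_autGroup E p)).IsNormalIn F p := by
  obtain ⟨hEs, hF, hi⟩ := hE
  have hTS : T ≤ S := hi.2.1.1
  have hT : IsPGroup p T := hS.to_le hTS
  set A := resA E p with hA
  have hAE : A ≤ E.autGroup T := resA_le_autGroup E p
  have hAF : A ≤ F.autGroup T := hAE.trans (FusionNormal.autGroup_le_of_sub hi.1 le_rfl)
  refine ⟨⟨isSaturated_genSys hT hEs _ le_rfl, hF, ?_, hi.2.1, ?_, ?_⟩, ?_⟩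
  · intro P φ hφ
    exact hi.1 P (mem_of_isMap (TGen.isMap hAE hφ) fun x => (toFn_coe φ x).symm)
  · intro P hP φ hφ α hα
    obtain ⟨β, hβ, g, hg, hfg⟩ := hφ
    have hb : IsMap F T (autFn α) := (mem_autGroup_iff hTS).1 hα
    set f' := fun y => autFn α (toFn φ (autFn α⁻¹ y)) with hf'
    have h1 := gen_transport hi hα hg (fun y => autFn α (g (autFn α⁻¹ y))) fun x hx => by
      show autFn α (g (autFn α⁻¹ (autFn α x))) = _
      rw [autFn_inv_self α (hP hx)]
    have h2 : TGen E p A (img (autFn α) P) f' := by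
      refine ⟨α * β * α⁻¹, conj_mem_resA hi hα hβ, _, h1, fun y hy => ?_⟩
      obtain ⟨x, hx, rfl⟩ := (hb.mem_img_iff hP).1 hy
      have hgx := hg.isMap.mem hx
      show autFn α (toFn φ (autFn α⁻¹ (autFn α x))) =
        autFn (α * β * α⁻¹) (autFn α (g (autFn α⁻¹ (autFn α x))))
      rw [autFn_inv_self α (hP hx), hfg x hx, ← autFn_mul (α * β * α⁻¹) α hgx, inv_mul_cancel_right,
        autFn_mul _ _ hgx]
    obtain ⟨χ, hχ, hχe⟩ := isMap_genSys.2 h2
    have hdom : (P.subgroupOf T).map (T.subtype.comp α.toMonoidHom) = img (autFn α) P := by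
      refine le_antisymm ?_ (hb.img_le hP fun x hx => ?_)
      · rintro _ ⟨x, hx, rfl⟩
        exact Subgroup.subset_closure ⟨x, hx, autFn_apply α x.2⟩
      · exact ⟨⟨x, hP hx⟩, hx, (autFn_apply α (hP hx)).symm⟩
    have key : ∀ W, W = img (autFn α) P → ∃ χ ∈ (genSys E p A hAE).Hom W,
        ∀ y (hy : y ∈ W), χ ⟨y, hy⟩ = f' y := by
      rintro W rfl
      exact ⟨χ, hχ, hχe⟩
    obtain ⟨χ', hχ', he'⟩ := key _ hdom
    refine ⟨χ', hχ', fun x hφx hαx => ?_⟩
    rw [he', ← autFn_apply α (hP x.2), hf']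
    show autFn α (toFn φ (autFn α⁻¹ (autFn α x))) = _
    rw [autFn_inv_self α (hP x.2), toFn_coe, autFn_apply α hφx]
  · intro P hP φ hφ
    obtain ⟨α, hα, f₀, hf₀, he⟩ := FusionNormal.frattini_map hi hP (isMap_toFn hφ)
    obtain ⟨β, hβ, g, hg, hfg⟩ := exists_frattini hT hEs hf₀
    obtain ⟨χ, hχ, hχe⟩ := isMap_genSys (hA := hAE).2 (TGen.of_gen (A := A) hg)
    refine ⟨α * β, mul_mem hα (FusionNormal.autGroup_le_of_sub hi.1 le_rfl hβ), χ, hχ,
      fun x hx => ?_⟩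
    rw [← toFn_coe φ x, he x x.2, hfg x x.2, ← autFn_mul α β (hg.isMap.mem x.2)]
    rw [show g x = χ x from (hχe x x.2).symm, autFn_apply _ hx]
  · intro γ hγ
    have hle : A ≤ extAut F hTS := by
      rw [hA, resA, Subgroup.closure_le]
      rintro β ⟨hβ, P, hP, hg⟩
      exact resA_generator_ext hS ⟨hEs, hF, hi⟩ rfl rfl rfl hβ hP hg
    obtain ⟨β, hβ, g, hg, hfg⟩ :=
      isMap_genSys.1 ((mem_autGroup_iff le_rfl).1 hγ)
    obtain ⟨h, hh, he, hc⟩ := good_of_gen hS ⟨hEs, hF, hi⟩ hg isCentric_self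
    have hgT : img g T = T :=
      eq_of_le_of_card le_rfl hg.isMap.img_le_S (hg.isMap.card_img le_rfl).ge
    obtain ⟨γ', hγ', hγe⟩ := exists_aut_of_isIso (show IsIso E T T g from ⟨hg.isMap, hgT⟩)
    have hγ'x : γ' ∈ extAut F hTS :=
      ⟨h, hh, fun x hx => by rw [he x hx, autFn_apply γ' hx, hγe], hc⟩
    have hγeq : γ = β * γ' := MulEquiv.ext fun x => Subtype.ext (by
      rw [← autFn_apply γ x.2, hfg x x.2, show g x = ((γ' x : T) : Ω) from (hγe x).symm,
        autFn_apply β (γ' x).2]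
      rfl)
    obtain ⟨H, hH, hHe, hHc⟩ : γ ∈ extAut F hTS := hγeq ▸ mul_mem (hle hβ) hγ'x
    set M := T ⊔ centralizerIn S T
    have hMS : M ≤ S := sup_le hTS inf_le_left
    have hHM : img H M = M :=
      eq_of_le_of_card hMS (hH.img_le le_rfl fun x hx => hH.forall_mem_sup le_sup_left le_sup_right
        (fun y hy => Subgroup.mem_sup_left (hHe y hy ▸ autFn_mem γ hy))
        (fun y hy => by
          have := mul_mem (Subgroup.mem_sup_right hy : y ∈ M) (Subgroup.mem_sup_left (hHc y hy))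
          simpa using this) hx) (hH.card_img le_rfl).ge
    obtain ⟨η, hη, hηe⟩ := exists_aut_of_isIso (show IsIso F M M H from ⟨hH, hHM⟩)
    refine ⟨η, hη, fun x => ?_, fun c hc' => ?_⟩
    · rw [hηe]
      exact (hHe x x.2).trans (autFn_apply γ x.2)
    · rw [hηe]
      refine ⟨hHc c hc', Subgroup.mem_centralizer_iff.2 fun x hx => ?_⟩
      have hxc : (c : Ω) * x * (c : Ω)⁻¹ = x := centralizerIn_conj hc' hx
      have hHT : img H T = T := by
        rw [img_congr hHe]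
        exact (autFn_isIso ((hH.mono le_sup_left).congr hHe)).2
      have h1 := map_centralizerIn hH le_sup_left hHT (Subgroup.mem_sup_right hc') hc'
      exact ((mem_centralizerIn.1 (mul_mem (inv_mem hc') h1)).2 x hx).symm

/-- An automorphism of `T` of order prime to `p` modulo `Aut_D(T)` that is in `D` on a centric subgroup is
in `D`. -/
theorem mem_of_restrict (hS : IsPGroup p S) {D : FusionSystem T} (hDs : D.IsSaturated p)
    (hi : D.IsInvariantIn F) {P : Subgroup Ω} (hP : D.IsCentric P) {β : MulAut T}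
    (hβ : β ∈ F.autGroup T) {q : ℕ} (hqp : q.Coprime p) (hq : β ^ q ∈ D.autGroup T)
    (hm : IsMap D P (autFn β)) : β ∈ D.autGroup T := by
  have hTS : T ≤ S := hi.2.1.1
  have : Finite T := finite_of_le hTS
  have := finite_mulAut (le_refl T)
  have hT : IsPGroup p T := hS.to_le hTS
  refine (mem_autGroup_iff le_rfl).2 ?_
  induction hn : Nat.card T - Nat.card P using Nat.strong_induction_on generalizing P with
  | _ n ih =>
  by_cases hPT : P = T
  · exact hPT ▸ hm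
  have hb : IsMap F T (autFn β) := (mem_autGroup_iff hTS).1 hβ
  set N := normalizerIn T P with hN
  have hlt : P < N := lt_normalizerIn hT le_rfl (lt_of_le_of_ne hP.1 hPT)
  set P' := img (autFn β) P with hP'
  have hcP' : D.IsCentric P' := isCentric_of_isConj hP (isConj_iff.2 ⟨_, hm, rfl⟩)
  have hfc : D.IsFullyCentralized P' := by
    refine ⟨hcP'.1, fun X hX => ?_⟩
    obtain ⟨e, he⟩ := isConj_iff.1 hX
    obtain ⟨i, hi', -, -⟩ := he.symm
    have hXC : centralizerIn T X ≤ X := hcP'.2 X (isConj_iff.2 ⟨e, he⟩)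
    rw [← hi'.1.card_img hXC]
    have := finite_of_le (S := T) (P := centralizerIn T P') inf_le_left
    exact Subgroup.card_le_of_le (hi'.1.img_le hXC fun c hc =>
      map_centralizerIn hi'.1 le_rfl hi'.2 (hXC hc) hc)
  obtain ⟨f, hf, hfe⟩ := (isReceptive_iff.1 (receptive_of_fullyCentralized hT hDs hfc)).2 P
    (autFn β) ⟨hm, rfl⟩
  have hNx : N ≤ Nx T P (autFn β) := fun y hy =>
    mem_Nx.2 ⟨hy, autFn β y, autFn_mem β hy.1, fun x hx => hb.map_conj hy.1 (hP.1 hx)⟩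
  have hfN : IsMap D N f := hf.mono hNx
  have hNT : N ≤ T := inf_le_left
  set d := fun x => autFn β⁻¹ (f x) with hd
  have hbi : IsMap F T (autFn β⁻¹) := (mem_autGroup_iff hTS).1 (Subgroup.inv_mem _ hβ)
  have hdm : IsMap F N d := (FusionNormal.isMap_of_sub hi.1 hfN).comp hbi fun x hx => hfN.mem hx
  have hdP : ∀ x ∈ P, d x = x := fun x hx => by
    show autFn β⁻¹ (f x) = x
    rw [hfe x hx, autFn_inv_self β (hP.1 hx)]
  have hdz : ∀ y ∈ N, y⁻¹ * d y ∈ P := by
    intro y hy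
    refine hP.2 P (isConj_refl D hP.1) (mem_centralizerIn_of_conj
      (mul_mem (inv_mem (hNT hy)) (autFn_mem _ (hfN.mem hy))) fun x hx => ?_)
    have h1 := hdm.map_conj hy (hlt.le hx)
    rw [hdP x hx, hdP _ (normalizerIn_conj hy hx)] at h1
    calc y⁻¹ * d y * x * (y⁻¹ * d y)⁻¹ = y⁻¹ * (d y * x * (d y)⁻¹) * y := by group
      _ = x := by rw [← h1]; group
  have hdN : img d N = N := eq_of_le_of_card (hNT.trans hTS) (hdm.img_le le_rfl fun y hy => by
    have := mul_mem hy (hlt.le (hdz y hy))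
    rwa [mul_inv_cancel_left] at this) (hdm.card_img le_rfl).ge
  obtain ⟨δ, hδ, hδe⟩ := exists_aut_of_isIso (show IsIso F N N d from ⟨hdm, hdN⟩)
  have hδd : ∀ x ∈ N, autFn δ x = d x := fun x hx => by rw [autFn_apply δ hx, hδe]
  have key : ∀ j : ℕ, ∃ m, IsMap D N m ∧ ∀ x ∈ N, autFn (β ^ j) (autFn (δ ^ j) x) = m x := by
    intro j
    induction j with
    | zero =>
      refine ⟨fun x => x, Fusion.IsMap.id hNT, fun x hx => ?_⟩
      rw [pow_zero, pow_zero, autFn_apply (1 : MulAut N) hx, autFn_apply (1 : MulAut T)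
        (hNT ((1 : MulAut N) ⟨x, hx⟩).2)]
      rfl
    | succ j ihj =>
      obtain ⟨m, hm', hme⟩ := ihj
      obtain ⟨m₂, hm₂, hm₂e⟩ :=
        FusionNormal.transport_map hi hNT hfN (pow_mem hβ j : β ^ j ∈ F.autGroup T)
      have hbj : IsMap F T (autFn (β ^ j)) := (mem_autGroup_iff hTS).1 (pow_mem hβ j)
      refine ⟨fun x => m₂ (m x), hm'.comp hm₂ fun x hx => ?_, fun x hx => ?_⟩
      · rw [← hme x hx]
        exact hbj.mem_img (autFn_mem _ hx)
      · show _ = m₂ (m x)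
        have hy : autFn (δ ^ j) x ∈ N := autFn_mem _ hx
        rw [← hme x hx, hm₂e _ hy, pow_succ' δ, autFn_mul _ _ hx, hδd _ hy, pow_succ,
          autFn_mul _ _ (hNT (hδd _ hy ▸ autFn_mem δ hy))]
        show autFn (β ^ j) (autFn β (autFn β⁻¹ (f (autFn (δ ^ j) x)))) = _
        rw [autFn_self_inv β (hfN.mem hy)]
  obtain ⟨k0, hk0⟩ := IsPGroup.iff_card.1 hS
  have hδ1 : ∀ x ∈ N, autFn (δ ^ p ^ k0) x = x := by
    intro x hx
    have hzN : x⁻¹ * d x ∈ N := hlt.le (hdz x hx)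
    have h1 := autFn_pow_fix δ hx hzN (by rw [hδd x hx, mul_inv_cancel_left])
      (by rw [hδd _ hzN, hdP _ (hdz x hx)]) (p ^ k0)
    have h2 := congrArg Subtype.val (pow_card_eq_one' (x := (⟨_, hTS (hNT hzN)⟩ : S)))
    have h3 : (x⁻¹ * d x) ^ p ^ k0 = 1 := by simpa [hk0] using h2
    rw [h1, h3, mul_one]
  obtain ⟨m, hm', hme⟩ := key (p ^ k0)
  have hpk : IsMap D N (autFn (β ^ p ^ k0)) := hm'.congr fun x hx => by rw [← hme x hx, hδ1 x hx]
  have hstep : ∀ a ∈ F.autGroup T, ∀ b : MulAut T, IsMap D N (autFn a) → IsMap D N (autFn b) →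
      IsMap D N (autFn (a * b)) := by
    intro a ha b h1 h2
    obtain ⟨b', hb', hb'e⟩ := FusionNormal.transport_map hi hNT h2 ha
    refine (h1.comp hb' fun x hx => h1.mem_img hx).congr fun x hx => ?_
    show b' (autFn a x) = _
    rw [hb'e x hx, autFn_mul _ _ (hNT hx)]
  have hpows : ∀ a ∈ F.autGroup T, IsMap D N (autFn a) → ∀ j : ℕ, IsMap D N (autFn (a ^ j)) := by
    intro a ha h1 j
    induction j with
    | zero =>
      refine (Fusion.IsMap.id hNT).congr fun x hx => ?_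
      rw [pow_zero, autFn_apply _ (hNT hx)]
      rfl
    | succ j ihj => rw [pow_succ']; exact hstep a ha _ h1 ihj
  have hN' : IsMap D N (autFn β) := by
    have hqm : IsMap D N (autFn (β ^ q)) := ((mem_autGroup_iff le_rfl).1 hq).mono hNT
    have hp : p.Prime := Fact.out
    have hq0 : 0 < q := Nat.pos_of_ne_zero fun e => hp.ne_one (by subst e; simpa using hqp)
    obtain ⟨a, ha1, ha2⟩ := Nat.chineseRemainder (hqp.pow_right k0) 0 1
    obtain ⟨i, rfl⟩ := Nat.modEq_zero_iff_dvd.1 ha1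
    obtain ⟨j, hj⟩ : p ^ k0 ∣ q * (i + p ^ k0) - 1 := by
      refine (Nat.modEq_iff_dvd' (Nat.one_le_iff_ne_zero.2 (Nat.mul_pos hq0
        (Nat.add_pos_right _ (pow_pos hp.pos _))).ne')).1 ?_
      have h0 : q * p ^ k0 ≡ 0 [MOD p ^ k0] := Nat.modEq_zero_iff_dvd.2 (dvd_mul_left _ _)
      simpa [mul_add] using (ha2.add h0).symm
    have he : q * (i + p ^ k0) = 1 + p ^ k0 * j := by
      have : 0 < q * (i + p ^ k0) := Nat.mul_pos hq0 (Nat.add_pos_right _ (pow_pos hp.pos _))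
      omega
    have h1 := hstep _ (pow_mem (pow_mem hβ q) (i + p ^ k0))
      ((β ^ p ^ k0) ^ (j * (orderOf β - 1))) (hpows _ (pow_mem hβ q) hqm _)
      (hpows _ (pow_mem hβ _) hpk _)
    rwa [← pow_mul, ← pow_mul, ← pow_add, he,
      show 1 + p ^ k0 * j + p ^ k0 * (j * (orderOf β - 1)) = 1 + orderOf β * (p ^ k0 * j) by
        obtain ⟨o, ho⟩ := Nat.exists_eq_succ_of_ne_zero (orderOf_pos β).ne'
        rw [ho]; simp; ring,
      pow_add, pow_mul, pow_orderOf_eq_one, one_pow, mul_one, pow_one] at h1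
  have h1 : Nat.card P < Nat.card N := card_lt hNT hlt
  have h2 : Nat.card N ≤ Nat.card T := Subgroup.card_le_of_le hNT
  exact ih _ (by omega) (isCentric_of_le hP hlt.le hNT) hN' rfl

/-- The `p'`-residual of a weakly normal subsystem lies in every invariant saturated subsystem over `T`. -/
theorem isSubsystemOf_genSys [Finite T] (hS : IsPGroup p S) (hE : E.IsWeaklyNormalIn F p) {D : FusionSystem T}
    (hDs : D.IsSaturated p) (hiD : D.IsInvariantIn F) :
    (genSys E p (resA E p) (resA_le_autGroup E p)).IsSubsystemOf D := by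
  obtain ⟨hEs, hF, hi⟩ := hE
  have hTS : T ≤ S := hi.2.1.1
  have hT : IsPGroup p T := hS.to_le hTS
  have hpp : ∀ R, R ≤ T → ∀ α ∈ E.autGroup R, ∀ k, orderOf α = p ^ k → α ∈ D.autGroup R := by
    intro R hR α hα k hk
    obtain ⟨R₀, f, hR₀, hf, hfR, -⟩ := exists_fullyNormalized_map hS hF (hR.trans hTS)
    have hiso : IsIso F R R₀ f := ⟨hf.mono (le_normalizerIn (hR.trans hTS)), hfR⟩
    have hR₀T : R₀ ≤ T := le_T_of_iso hi hR hiso
    have := finite_mulAut hR₀.1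
    have hA := fullyAutomized_of_fullyNormalized hT hEs
      (fullyNormalized_of_invariant hi hR₀T hR₀ hS hF)
    have hα₀ := FusionNormal.congr_mem_autGroup hi hiso hR hα
    have hp : IsPGroup p (Subgroup.zpowers (MulAut.congr hiso.equiv α)) :=
      IsPGroup.of_card (n := k)
        ((Nat.card_zpowers _).trans ((MulEquiv.orderOf_eq (MulAut.congr hiso.equiv) α).trans hk))
    obtain ⟨a, ha, hac⟩ :=
      (isFullyAutomized_iff.1 hA).2.exists_conj_le hp (Subgroup.zpowers_le.2 hα₀)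
    have haF := FusionNormal.autGroup_le_of_sub hi.1 hR₀T ha
    have h1 := FusionNormal.conj_mem_autGroup hiD hR₀T (Subgroup.inv_mem _ haF)
      (autInducedBy_le_autGroup D le_rfl hR₀T (hac _ (Subgroup.mem_zpowers _)))
    simp [mul_assoc] at h1
    exact (FusionNormal.congr_mem_autGroup_iff hiD hiso hR).1 h1
  have hgen : ∀ Q f, Gen E p Q f → IsMap D Q f := fun Q f h => h.isMap_of fun R hR => by
    rw [ppAut, Subgroup.closure_le]
    rintro α ⟨hα, k, hk⟩
    exact hpp R hR.1 α hα k hk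
  have hA : resA E p ≤ D.autGroup T := by
    rw [resA, Subgroup.closure_le]
    rintro β ⟨hβ, P, hP, hg⟩
    have hPD : D.IsCentric P := ⟨hP.1, fun X hX => by
      obtain ⟨e, he⟩ := isConj_iff.1 hX
      have hX' := isCentric_transport hi hP (FusionNormal.isIso_of_sub hiD.1 he)
      exact hX'.2 X (isConj_refl E hX'.1)⟩
    have := finite_mulAut (le_refl T)
    have hp : p.Prime := Fact.out
    obtain ⟨v, q, hq, hqe⟩ := Nat.exists_eq_pow_mul_and_not_dvd (orderOf_pos β).ne' p hp.ne_one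
    obtain ⟨k, -, hk⟩ := (Nat.dvd_prime_pow hp).1 (orderOf_dvd_of_pow_eq_one (x := β ^ q) (n := p ^ v)
      (by rw [← pow_mul, mul_comm, ← hqe, pow_orderOf_eq_one]))
    exact mem_of_restrict hS hDs hiD hPD (FusionNormal.autGroup_le_of_sub hi.1 le_rfl hβ)
      ((Nat.Prime.coprime_iff_not_dvd hp).2 hq).symm
      (hpp T le_rfl _ (pow_mem hβ q) k hk) (hgen _ _ hg)
  intro P φ hφ
  obtain ⟨β, hβ, g, hg, hfg⟩ := hφ
  have hgD := hgen _ _ hg
  exact mem_of_isMap ((hgD.comp ((mem_autGroup_iff le_rfl).1 (hA hβ))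
    fun x hx => hgD.mem hx).congr fun x hx => (hfg x hx).symm) fun x => (toFn_coe φ x).symm

end Cfsg.Agent.FusionCrit
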