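import Cfsg.Agent.Lib.FusionChain.Alperin
import Cfsg.Agent.Lib.Fusion.Criterion

/-
Pairs `Q ≤ R` in a fusion system: stabilisers, receptive targets, lifted groups of automorphisms.
Main results (namespace `Cfsg.Agent.FusionCrit`): `stab`, `lift`, `restr`, `exists_comm`,
`exists_pair_target`, `pair_extension`, `exists_ext_of_conj`.
-/

set_option autoImplicit false

namespace Cfsg.Agent.FusionCrit

open Cfsg Cfsg.FusionSystem Cfsg.Agent.Fusion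

variable {Ω : Type*} [Group Ω] {S : Subgroup Ω} {F : FusionSystem S} {p : ℕ}

/-- Fully automized and receptive. -/
def FAR (F : FusionSystem S) (p : ℕ) (R : Subgroup Ω) : Prop :=
  F.IsFullyAutomized p R ∧ F.IsReceptive R

/-- The automorphisms of `R` mapping `Q ⊓ R` onto itself. -/
def stab (R Q : Subgroup Ω) : Subgroup (MulAut R) where
  carrier := {ψ | ∀ x : R, ((ψ x : R) : Ω) ∈ Q ↔ (x : Ω) ∈ Q}
  one_mem' _ := Iff.rfl
  mul_mem' {a b} ha hb x := (ha (b x)).trans (hb x)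
  inv_mem' {a} ha x := by
    have h := ha (a⁻¹ x)
    rw [MulAut.apply_inv_self] at h
    exact h.symm

theorem mem_stab {R Q : Subgroup Ω} {ψ : MulAut R} :
    ψ ∈ stab R Q ↔ ∀ x : R, ((ψ x : R) : Ω) ∈ Q ↔ (x : Ω) ∈ Q := Iff.rfl

theorem stab_maps {R Q : Subgroup Ω} {ψ : MulAut R} (h : ψ ∈ stab R Q) (hQ : Q ≤ R) {x : Ω}
    (hx : x ∈ Q) : autFn ψ x ∈ Q := by
  rw [autFn_apply ψ (hQ hx)]
  exact (h ⟨x, hQ hx⟩).2 hx

/-- Restriction of automorphisms to a stabilised subgroup. -/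
def restr {R Q : Subgroup Ω} (hQ : Q ≤ R) : stab R Q →* MulAut Q where
  toFun ψ :=
    { toFun := fun x => ⟨((ψ : MulAut R) ⟨x, hQ x.2⟩ : R), (ψ.2 _).2 x.2⟩
      invFun := fun x => ⟨(((ψ : MulAut R)⁻¹) ⟨x, hQ x.2⟩ : R), ((inv_mem ψ.2 : _ ∈ stab R Q) _).2 x.2⟩
      left_inv := fun x => Subtype.ext (congrArg Subtype.val (MulAut.inv_apply_self _ (ψ : MulAut R) ⟨(x : Ω), hQ x.2⟩) :)
      right_inv := fun x => Subtype.ext (congrArg Subtype.val (MulAut.apply_inv_self _ (ψ : MulAut R) ⟨(x : Ω), hQ x.2⟩) :)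
      map_mul' := fun x y => Subtype.ext (congrArg Subtype.val ((ψ : MulAut R).map_mul ⟨(x : Ω), hQ x.2⟩ ⟨(y : Ω), hQ y.2⟩) :) }
  map_one' := rfl
  map_mul' _ _ := rfl

theorem restr_apply {R Q : Subgroup Ω} (hQ : Q ≤ R) (ψ : stab R Q) (x : Q) :
    ((restr hQ ψ x : Q) : Ω) = ((ψ : MulAut R) ⟨x, hQ x.2⟩ : R) := rfl

/-- Automorphisms of `R` stabilising `Q` and acting on it, seen through `w`, as an element of `X`. -/
def lift {R Q U : Subgroup Ω} (hQ : Q ≤ R) (w : Ω → Ω) (hw : ∀ x ∈ Q, w x ∈ U)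
    (X : Subgroup (MulAut U)) : Subgroup (MulAut R) where
  carrier := {ψ | ψ ∈ stab R Q ∧
    ∃ β ∈ X, ∀ (x : Ω) (hx : x ∈ Q), w (autFn ψ x) = ((β ⟨w x, hw x hx⟩ : U) : Ω)}
  one_mem' := ⟨one_mem _, 1, one_mem _, fun x hx => by rw [autFn_apply 1 (hQ hx)]; rfl⟩
  mul_mem' := by
    rintro a b ⟨ha, β, hβ, h⟩ ⟨hb, γ, hγ, k⟩
    refine ⟨mul_mem ha hb, β * γ, mul_mem hβ hγ, fun x hx => ?_⟩
    have hbx : autFn b x ∈ Q := stab_maps hb hQ hx
    rw [show autFn (a * b) x = autFn a (autFn b x) by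
      rw [autFn_apply _ (hQ hx), autFn_apply b (hQ hx), autFn_apply a (b ⟨x, hQ hx⟩).2]; rfl,
      h _ hbx]
    exact congrArg (fun z : U => ((β z : U) : Ω)) (Subtype.ext (k x hx))
  inv_mem' := by
    rintro a ⟨ha, β, hβ, h⟩
    refine ⟨inv_mem ha, β⁻¹, inv_mem hβ, fun x hx => ?_⟩
    have hax : autFn a⁻¹ x ∈ Q := stab_maps (inv_mem ha) hQ hx
    have h1 := h _ hax
    have h2 : autFn a (autFn a⁻¹ x) = x := by
      rw [autFn_apply a⁻¹ (hQ hx), autFn_apply a (a⁻¹ ⟨x, hQ hx⟩).2]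
      simp
    rw [h2] at h1
    have h3 : (⟨w x, hw x hx⟩ : U) = β ⟨w (autFn a⁻¹ x), hw _ hax⟩ := Subtype.ext h1
    rw [h3, MulAut.inv_apply_self]

theorem mem_lift {R Q U : Subgroup Ω} {hQ : Q ≤ R} {w : Ω → Ω} {hw : ∀ x ∈ Q, w x ∈ U}
    {X : Subgroup (MulAut U)} {ψ : MulAut R} : ψ ∈ lift hQ w hw X ↔ ψ ∈ stab R Q ∧
      ∃ β ∈ X, ∀ (x : Ω) (hx : x ∈ Q), w (autFn ψ x) = ((β ⟨w x, hw x hx⟩ : U) : Ω) := Iff.rfl

theorem autFn_mul {R : Subgroup Ω} (α β : MulAut R) {x : Ω} (hx : x ∈ R) :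
    autFn (α * β) x = autFn α (autFn β x) := by
  rw [autFn_apply (α * β) hx, autFn_apply β hx, autFn_apply α (β ⟨x, hx⟩).2]
  rfl

theorem autFn_inv_self {R : Subgroup Ω} (α : MulAut R) {x : Ω} (hx : x ∈ R) :
    autFn α⁻¹ (autFn α x) = x := by
  rw [← autFn_mul _ _ hx, inv_mul_cancel, autFn_apply _ hx]; rfl

theorem autFn_self_inv {R : Subgroup Ω} (α : MulAut R) {x : Ω} (hx : x ∈ R) :
    autFn α (autFn α⁻¹ x) = x := by
  rw [← autFn_mul _ _ hx, mul_inv_cancel, autFn_apply _ hx]; rfl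

/-- The map making a square commute. -/
theorem exists_comm {D : Subgroup Ω} {a b g : Ω → Ω} {D' : Subgroup Ω} (ha : IsMap F D a)
    (hg : IsMap F D g) (hgD : ∀ x ∈ D, g x ∈ D') (hb : IsMap F D' b) :
    ∃ m, IsMap F (img a D) m ∧ ∀ x ∈ D, m (a x) = b (g x) := by
  obtain ⟨i, hi, hil, -⟩ := ha.isIso.symm
  exact ⟨fun y => b (g (i y)), hi.1.comp (hg.comp hb hgD) fun y hy => hi.mem hy,
    fun x hx => by simp only [hil x hx]⟩

theorem lt_img_of_lt [Finite S] {D Q : Subgroup Ω} {a : Ω → Ω} (ha : IsMap F D a) (hQ : Q < D) :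
    img a Q < img a D := by
  refine lt_of_le_of_ne (ha.img_le hQ.le fun x hx => ha.mem_img (hQ.le hx)) fun h => ?_
  have h1 := ha.card_img hQ.le
  rw [h, ha.card_img le_rfl] at h1
  exact hQ.ne (eq_of_le_of_card ha.le hQ.le h1.le)

theorem card_lt [Finite S] {P Q : Subgroup Ω} (hQ : Q ≤ S) (h : P < Q) :
    Nat.card P < Nat.card Q := by
  have := finite_of_le hQ
  exact Set.ncard_lt_ncard h (Set.toFinite _)

theorem stab_congr_img {R Q : Subgroup Ω} {ψ : MulAut R} (hψ : IsMap F R (autFn ψ))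
    (h : ψ ∈ stab R Q) (hQ : Q ≤ R) : img (autFn ψ) Q = Q :=
  IsIso.img_eq_of hψ hQ (fun _ hx => stab_maps h hQ hx)
    fun y hy => ⟨autFn ψ⁻¹ y, stab_maps (inv_mem h) hQ hy, autFn_self_inv ψ (hQ hy)⟩

/-- A target for pairs: fully automized, receptive, with the stabiliser part of `Aut_S` Sylow. -/
def IsTarget (F : FusionSystem S) (p : ℕ) (R Q : Subgroup Ω) : Prop :=
  FAR F p R ∧ Q ≤ R ∧
    IsSylowIn p (autInducedBy S R ⊓ stab R Q) (F.autGroup R ⊓ stab R Q)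

theorem exists_pair_target [Finite S] [Fact p.Prime] (hS : IsPGroup p S) {R Q R₀ : Subgroup Ω}
    (hQR : Q ≤ R) (hR₀ : FAR F p R₀) (hc : F.IsConj R R₀) :
    ∃ (R' Q' : Subgroup Ω) (f : Ω → Ω), IsTarget F p R' Q' ∧ IsIso F R R' f ∧ img f Q = Q' := by
  obtain ⟨f, hf⟩ := isConj_iff.1 hc
  have hR₀S := hR₀.2.1
  have := finite_mulAut (P := R₀) hR₀S
  set Q₀ := img f Q
  have hQ₀ : Q₀ ≤ R₀ := hf.1.img_le hQR fun x hx => hf.mem (hQR hx)
  obtain ⟨X, hX⟩ := exists_isSylowIn p (F.autGroup R₀ ⊓ stab R₀ Q₀)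
  obtain ⟨a, ha, hconj⟩ := (isFullyAutomized_iff.1 hR₀.1).2.exists_conj_le hX.isPGroup
    (hX.le.trans inf_le_left)
  have ham : IsMap F R₀ (autFn a) := (mem_autGroup_iff hR₀S).1 ha
  set Q₁ := img (autFn a) Q₀
  have hQ₁ : Q₁ ≤ R₀ := ham.img_le hQ₀ fun x hx => autFn_mem a (hQ₀ hx)
  have hmemQ₁ : ∀ x : R₀, (x : Ω) ∈ Q₁ ↔ ((a⁻¹ x : R₀) : Ω) ∈ Q₀ := by
    intro x
    rw [ham.mem_img_iff hQ₀]
    constructor
    · rintro ⟨z, hz, e⟩
      rw [autFn_apply a (hQ₀ hz)] at e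
      rw [show x = a ⟨z, hQ₀ hz⟩ from Subtype.ext e.symm, MulAut.inv_apply_self]
      exact hz
    · intro h
      exact ⟨_, h, by rw [autFn_apply a (a⁻¹ x).2]; simp⟩
  have hmap : (F.autGroup R₀ ⊓ stab R₀ Q₀).map (MulAut.conj a).toMonoidHom =
      F.autGroup R₀ ⊓ stab R₀ Q₁ := by
    ext ψ
    constructor
    · rintro ⟨φ, hφ, rfl⟩
      refine ⟨mul_mem (mul_mem ha hφ.1) (Subgroup.inv_mem _ ha), fun x => ?_⟩
      rw [hmemQ₁, hmemQ₁]
      show ((a⁻¹ (a (φ (a⁻¹ x))) : R₀) : Ω) ∈ Q₀ ↔ _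
      rw [MulAut.inv_apply_self]
      exact hφ.2 _
    · rintro ⟨h1, h2⟩
      refine ⟨a⁻¹ * ψ * a, ⟨mul_mem (mul_mem (Subgroup.inv_mem _ ha) h1) ha, fun x => ?_⟩, ?_⟩
      · show ((a⁻¹ (ψ (a x)) : R₀) : Ω) ∈ Q₀ ↔ _
        rw [← hmemQ₁, h2, hmemQ₁, MulAut.inv_apply_self]
      · show a * (a⁻¹ * ψ * a) * a⁻¹ = ψ
        group
  have hX' := hX.map (MulAut.conj a)
  rw [hmap] at hX'
  refine ⟨R₀, Q₁, fun x => autFn a (f x), ⟨hR₀, hQ₁, ?_⟩, hf.trans (isIso_autFn hR₀S ha), ?_⟩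
  · have hle : X.map (MulAut.conj a).toMonoidHom ≤ autInducedBy S R₀ ⊓ stab R₀ Q₁ := by
      refine le_inf ?_ (hX'.le.trans inf_le_right)
      rintro _ ⟨x, hx, rfl⟩
      exact hconj x hx
    rw [hX'.2.2 _ hle (inf_le_inf_right _ (autInducedBy_le_autGroup F le_rfl hR₀S))
      (isPGroup_autInducedBy hS).to_inf_left]
    exact hX'
  · refine IsIso.img_eq_of (hf.trans (isIso_autFn hR₀S ha)).1 hQR
      (fun x hx => ham.mem_img (hf.1.mem_img hx)) fun y hy => ?_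
    obtain ⟨z, hz, rfl⟩ := (ham.mem_img_iff hQ₀).1 hy
    obtain ⟨x, hx, rfl⟩ := (hf.1.mem_img_iff hQR).1 hz
    exact ⟨x, hx, rfl⟩

/-- The common normalizer of a pair. -/
def NN (S R Q : Subgroup Ω) : Subgroup Ω := normalizerIn S R ⊓ normalizerIn S Q

theorem NN_le (S R Q : Subgroup Ω) : NN S R Q ≤ S := inf_le_left.trans inf_le_left

theorem le_NN {R Q : Subgroup Ω} (hRQ : R ≤ normalizerIn S Q) : R ≤ NN S R Q :=
  le_inf (le_normalizerIn (hRQ.trans inf_le_left)) hRQ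

theorem lt_NN [Finite S] [Fact p.Prime] (hS : IsPGroup p S) {R Q : Subgroup Ω}
    (hRQ : R < normalizerIn S Q) : R < NN S R Q := by
  refine (lt_normalizerIn hS inf_le_left hRQ).trans_le fun g hg => ?_
  exact ⟨⟨hg.1.1, hg.2⟩, hg.1⟩

/-- Extension to the common normalizer for a map of pairs into a target. -/
theorem pair_extension [Finite S] [Fact p.Prime] (hS : IsPGroup p S) {R Q R' Q' : Subgroup Ω}
    (ht : IsTarget F p R' Q') {f : Ω → Ω} (hf : IsIso F R R' f) (hQR : Q ≤ R)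
    (hfQ : img f Q = Q') (hRQ : R ≤ normalizerIn S Q) :
    ∃ h, IsMap F (NN S R Q) h ∧ img h R = R' ∧ img h Q = Q' ∧
      ∀ y ∈ NN S R Q, h y ∈ NN S R' Q' := by
  have hL : ∀ α ∈ stab R Q, MulAut.congr hf.equiv α ∈ stab R' Q' := by
    intro α hα y
    obtain ⟨x, hx, hxy⟩ := hf.exists_eq y.2
    obtain rfl : hf.equiv ⟨x, hx⟩ = y := Subtype.ext hxy
    have key : ∀ z : R, (f z ∈ Q') ↔ ((z : Ω) ∈ Q) := fun z => by
      rw [← hfQ, hf.1.mem_img_iff hQR]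
      exact ⟨fun ⟨q, hq, e⟩ => hf.1.inj (hQR hq) z.2 e ▸ hq, fun h => ⟨z, h, rfl⟩⟩
    show ((hf.equiv (α (hf.equiv.symm (hf.equiv ⟨x, hx⟩))) : R') : Ω) ∈ Q' ↔ _
    rw [MulEquiv.symm_apply_apply, hf.equiv_apply, hf.equiv_apply, key, key]
    exact hα _
  obtain ⟨χ, hχ, f', hf', e⟩ := exists_KExtension hS ht.1.2 ht.2.2 hf (stab R Q) hL
  have hle : NN S R Q ≤ R ⊔ NK S R (stab R Q) := fun g hg => Subgroup.mem_sup_right <| mem_NK.2
    ⟨hg.1.1, normConj S R ⟨g, hg.1⟩, fun x => by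
      rw [normConj_apply]
      exact ⟨fun h => by simpa [mul_assoc] using normalizerIn_conj_inv hg.2 h,
        fun h => normalizerIn_conj hg.2 h⟩, fun x => rfl⟩
  have hm := hf'.mono hle
  have hR : R ≤ NN S R Q := le_NN hRQ
  have himgR : img f' R = R' := by
    rw [img_congr e]
    exact (hf.trans (isIso_autFn ht.1.2.1 hχ.1)).2
  have himgQ : img f' Q = Q' := by
    rw [img_congr fun x hx => e x (hQR hx)]
    refine IsIso.img_eq_of (hf.trans (isIso_autFn ht.1.2.1 hχ.1)).1 hQR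
      (fun x hx => stab_maps hχ.2 ht.2.1 (hfQ ▸ hf.1.mem_img hx)) fun y hy => ?_
    have h1 := stab_maps (inv_mem hχ.2) ht.2.1 hy
    obtain ⟨x, hx, hxe⟩ := (hf.1.mem_img_iff hQR).1 (hfQ.symm ▸ h1)
    exact ⟨x, hx, (congrArg (autFn χ) hxe).trans (autFn_self_inv χ (ht.2.1 hy))⟩
  exact ⟨f', hm, himgR, himgQ, fun y hy => ⟨map_normalizerIn hm hR himgR hy hy.1,
    map_normalizerIn hm (hQR.trans hR) himgQ hy hy.2⟩⟩

/-- An automorphism conjugating `Aut_M(R)` into `Aut_S(R)` extends to `M` when `R` is receptive. -/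
theorem exists_ext_of_conj {R M : Subgroup Ω} (hR : F.IsReceptive R) {n : MulAut R}
    (hn : n ∈ F.autGroup R) (hM : M ≤ normalizerIn S R)
    (h : ∀ (g : Ω) (hg : g ∈ M), n * normConj S R ⟨g, hM hg⟩ * n⁻¹ ∈ autInducedBy S R) :
    ∃ f, IsMap F M f ∧ ∀ x ∈ R ⊓ M, f x = autFn n x := by
  obtain ⟨f, hf, e⟩ := (isReceptive_iff.1 hR).2 R (autFn n) (isIso_autFn hR.1 hn)
  refine ⟨f, hf.mono fun g hg => ?_, fun x hx => e x hx.1⟩
  obtain ⟨t, ht, hte⟩ := mem_autInducedBy_iff.1 (h g hg)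
  refine mem_Nx.2 ⟨hM hg, t, ht, fun x hx => ?_⟩
  have := hte (n ⟨x, hx⟩)
  rw [MulAut.mul_apply, MulAut.mul_apply, MulAut.inv_apply_self] at this
  rw [autFn_apply n hx, ← this, ← normConj_apply (⟨g, hM hg⟩ : normalizerIn S R) ⟨x, hx⟩,
    autFn_apply n (normConj S R ⟨g, hM hg⟩ ⟨x, hx⟩).2]

end Cfsg.Agent.FusionCrit
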