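import Cfsg.Agent.Lib.FusionCrit.Extend
import Cfsg.Agent.Lib.Fusion.KSystem

/-
The saturation criterion: saturation on a generating family.
Main results (namespace `Cfsg.Agent.FusionCrit`): `exists_FAR_of_class`, `isSaturated_of_family`.
-/

set_option autoImplicit false

namespace Cfsg.Agent.FusionCrit

open Cfsg Cfsg.FusionSystem Cfsg.Agent.Fusion Cfsg.Agent.FusionChain

variable {Ω : Type*} [Group Ω] {S : Subgroup Ω} {F : FusionSystem S} {p : ℕ} {P : Subgroup Ω}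

/-- Transport of `O_p(Aut_F)` along an isomorphism of the system. -/
theorem congr_mem_pCoreAut {Q U : Subgroup Ω} {u : Ω → Ω} (hu : IsIso F Q U u) {α : MulAut Q}
    (hα : α ∈ pCoreAut F p Q) : MulAut.congr hu.equiv α ∈ pCoreAut F p U := by
  have hle : (pCoreAut F p Q).map (MulAut.congr hu.equiv).toMonoidHom ≤ pCoreAut F p U := by
    refine le_pCoreAut ((isPGroup_pCoreAut p Q).map _) ?_ ?_
    · rintro _ ⟨β, hβ, rfl⟩
      exact congr_mem_autGroup hu (pCoreAut_le_autGroup p Q hβ)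
    · rintro γ hγ _ ⟨β, hβ, rfl⟩
      rw [← map_autGroup hu] at hγ
      obtain ⟨γ', hγ', rfl⟩ := hγ
      exact ⟨γ' * β * γ'⁻¹, conj_mem_pCoreAut hγ' hβ, by
        simp only [MulEquiv.coe_toMonoidHom, map_mul, map_inv]⟩
  exact hle ⟨α, hα, rfl⟩

theorem isCentric_of_conj {Q R : Subgroup Ω} (hc : F.IsCentric R) (h : F.IsConj Q R) :
    F.IsCentric Q :=
  ⟨(isConj_le h).1, fun X hX => hc.2 X (isConj_trans (isConj_symm h) hX)⟩

variable [Finite S] [Fact p.Prime]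

/-- The data for the extension argument exist on a universal member. -/
theorem exists_extData (h : ClassHyp F p P) {U : Subgroup Ω} (hU : IsUniversal F P U)
    (hstar : F.IsCentric P →
      ∃ Q, F.IsConj P Q ∧ ¬ (autInducedBy S Q ⊓ pCoreAut F p Q ≤ Cfsg.Inn Q)) :
    ∃ X, ExtData F p P U X := by
  have hUS : U ≤ S := ClassHyp.le_left hU.1
  by_cases hC : centralizerIn S U ≤ U
  · have hcen : F.IsCentric U := by
      refine ⟨hUS, fun Q hQ c hc => ?_⟩
      have hcQ : F.IsConj P Q := isConj_trans hU.1 hQ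
      obtain ⟨u, hu, hue⟩ := hU.2 Q hcQ
      have hQN : Q ≤ normalizerIn S Q := le_normalizerIn (ClassHyp.le_left hcQ)
      have hcN := centralizerIn_le_normalizerIn S Q hc
      obtain ⟨x, hx, e⟩ := (hu.mem_img_iff hQN).1
        (hue.symm ▸ hC (map_centralizerIn hu hQN hue hcN hc) : u c ∈ img u Q)
      exact hu.inj (hQN hx) hcN e ▸ hx
    obtain ⟨Q, hQ, hne⟩ := hstar (isCentric_of_conj hcen hU.1)
    obtain ⟨α, hα, hαn⟩ := SetLike.not_le_iff_exists.1 hne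
    obtain ⟨g, hg, hge⟩ := mem_autInducedBy_iff.1 hα.1
    obtain ⟨u, hu, hue⟩ := hU.2 Q hQ
    have hQN : Q ≤ normalizerIn S Q := le_normalizerIn (ClassHyp.le_left hQ)
    have hgN : g ∈ normalizerIn S Q := mem_normalizerIn_of_aut hg hge
    have hiso : IsIso F Q U u := ⟨hu.mono hQN, hue⟩
    have hX : ∀ x : U, ((MulAut.congr hiso.equiv α x : U) : Ω) = u g * x * (u g)⁻¹ := by
      intro x
      obtain ⟨y, rfl⟩ := hiso.equiv.surjective x
      rw [congr_apply_coe, hge, IsIso.equiv_apply]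
      exact hu.map_conj hgN (hQN y.2)
    have hle : U ≤ NK S U (pCoreAut F p U) := fun x hx =>
      mem_NK.2 ⟨hUS hx, MulAut.conj (⟨x, hx⟩ : U), inn_le_pCoreAut h.isPGroup hUS ⟨⟨x, hx⟩, rfl⟩,
        fun _ => rfl⟩
    refine ⟨pCoreAut F p U, h, hU, pCoreAut_le_autGroup p U, fun γ hγ β hβ => conj_mem_pCoreAut hγ hβ,
      inn_le_pCoreAut h.isPGroup hUS, Or.inr ⟨isPGroup_pCoreAut p U, hcen⟩,
      lt_of_le_of_ne hle fun e => ?_⟩
    have hug : u g ∈ U := e.symm.le (mem_NK.2 ⟨hu.mem hgN, _, congr_mem_pCoreAut hiso hα.2, hX⟩)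
    obtain ⟨x, hx, hxe⟩ := (hu.mem_img_iff hQN).1 (hue.symm ▸ hug : u g ∈ img u Q)
    have hgQ : g ∈ Q := hu.inj (hQN hx) hgN hxe ▸ hx
    exact hαn ⟨⟨g, hgQ⟩, MulEquiv.ext fun x => Subtype.ext (hge x).symm⟩
  · obtain ⟨c, hc, hcU⟩ := SetLike.not_le_iff_exists.1 hC
    have hle : U ≤ NK S U (Cfsg.Inn U) := fun x hx =>
      mem_NK.2 ⟨hUS hx, MulAut.conj (⟨x, hx⟩ : U), ⟨⟨x, hx⟩, rfl⟩, fun _ => rfl⟩
    exact ⟨Cfsg.Inn U, h, hU, inn_le_autGroup F hUS,
      fun γ _ β hβ => (Cfsg.innNormal U).conj_mem β hβ γ, le_rfl,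
      Or.inl (inn_le_autInducedBy hUS),
      lt_of_le_of_ne hle fun e => hcU (e.symm.le (centralizerIn_le_NK S U _ hc))⟩

/-- A class all of whose maps come from larger subgroups has a good member. -/
theorem exists_FAR_of_class (h : ClassHyp F p P)
    (hstar : F.IsCentric P →
      ∃ Q, F.IsConj P Q ∧ ¬ (autInducedBy S Q ⊓ pCoreAut F p Q ≤ Cfsg.Inn Q)) :
    ∃ Q, F.IsConj P Q ∧ FAR F p Q := by
  have hS := h.isPGroup
  obtain ⟨U, hU⟩ := h.exists_universal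
  obtain ⟨X, d⟩ := exists_extData h hU hstar
  set M := NK S U X with hM
  have hMS : M ≤ S := NK_le S U X
  have hMN : M ≤ normalizerIn S U := NK_le_normalizerIn S U X
  have := finite_of_le hMS
  obtain ⟨M₀, hMc, hfar⟩ := h.big M hMS (ClassHyp.card_lt_of_lt hU.1 hMS d.lt)
  obtain ⟨M', Q', a, ht, ha, haQ⟩ := exists_pair_target hS d.U_le_M hfar hMc
  obtain ⟨hf, hhf, hhM, hhQ, hhN⟩ := pair_extension hS ht ha d.U_le_M haQ hMN
  have hNle : normalizerIn S U ≤ NN S M U := fun g hg =>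
    ⟨mem_normalizerIn_of_conj hg.1 fun y hy => d.conj_mem_M hg hy, hg⟩
  have hh : IsMap F (normalizerIn S U) hf := hhf.mono hNle
  have hUN : U ≤ normalizerIn S U := le_normalizerIn d.U_le
  have hQ'M' : Q' ≤ M' := ht.2.1
  have hM'S : M' ≤ S := ht.1.2.1
  have hQ'S : Q' ≤ S := hQ'M'.trans hM'S
  have hQ'N : Q' ≤ normalizerIn S Q' := le_normalizerIn hQ'S
  have hiUQ : IsIso F U Q' hf := ⟨hh.mono hUN, hhQ⟩
  have hcQ' : F.IsConj P Q' := isConj_trans hU.1 (isConj_iff.2 ⟨hf, hiUQ⟩)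
  obtain ⟨w, hw, hwU⟩ := hU.2 Q' hcQ'
  have hNM : normalizerIn S Q' ≤ normalizerIn S M' := by
    have h1 : img w (normalizerIn S Q') ≤ normalizerIn S U :=
      hw.img_le le_rfl fun y hy => map_normalizerIn hw hQ'N hwU hy hy
    have := finite_of_le (S := S) (P := normalizerIn S U) inf_le_left
    have h2 := Subgroup.card_le_of_le h1
    rw [hw.card_img le_rfl, ← hh.card_img le_rfl] at h2
    have h3 : img hf (normalizerIn S U) ≤ NN S M' Q' := hh.img_le le_rfl fun y hy => hhN y (hNle hy)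
    have h4 : img hf (normalizerIn S U) = normalizerIn S Q' :=
      eq_of_le_of_card inf_le_left (h3.trans inf_le_right) h2
    exact h4 ▸ h3.trans inf_le_left
  have huniv : ∀ Q, F.IsConj P Q → ∃ u, IsMap F (normalizerIn S Q) u ∧ img u Q = Q' := by
    intro Q hQ
    obtain ⟨u, hu, hue⟩ := hU.2 Q hQ
    have hQN : Q ≤ normalizerIn S Q := le_normalizerIn (ClassHyp.le_left hQ)
    refine ⟨fun x => hf (u x), hu.comp hh fun x hx => map_normalizerIn hu hQN hue hx hx, ?_⟩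
    rw [img_comp (hu.mono hQN) (by rw [hue]; exact hh.mono hUN), hue, hhQ]
  -- automorphisms of `Q'` extend to `M'`
  have hext : ∀ β ∈ F.autGroup Q', ∃ χ ∈ F.autGroup M' ⊓ stab M' Q',
      ∀ x ∈ Q', autFn χ x = autFn β x := by
    intro β hβ
    obtain ⟨i, hi, hil, hir⟩ := hiUQ.symm
    have hg : IsIso F U U (fun x => i (autFn β (hf x))) :=
      (hiUQ.trans (isIso_autFn hQ'S hβ)).trans hi
    obtain ⟨k, hk, hke⟩ := d.ext_all hg
    have hkU : img k U = U := (img_congr hke).trans hg.2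
    have hkM := d.img_M hk hkU
    obtain ⟨m, hm, hme⟩ := exists_comm (hh.mono hMN) hk
      (fun x hx => d.mem_M_of_map hk d.U_le_M hkU hx hx) (hh.mono hMN)
    rw [hhM] at hm
    have hmM : img m M' = M' := by
      refine eq_of_le_of_card hM'S (hm.img_le le_rfl fun y hy => ?_) (hm.card_img le_rfl).ge
      obtain ⟨x, hx, rfl⟩ := (hh.mem_img_iff hMN).1 (hhM.symm ▸ hy : y ∈ img hf M)
      rw [hme x hx, ← hhM]
      exact hh.mem_img (d.mem_M_of_map hk d.U_le_M hkU hx hx)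
    obtain ⟨χ, hχ, hχe⟩ := exists_aut_of_isIso (show IsIso F M' M' m from ⟨hm, hmM⟩)
    refine ⟨χ, ⟨hχ, fun z => ?_⟩, fun y hy => ?_⟩
    · obtain ⟨x, hx, hxz⟩ := (hh.mem_img_iff hMN).1 (hhM.symm ▸ z.2 : (z : Ω) ∈ img hf M)
      have hkx : k x ∈ M := d.mem_M_of_map hk d.U_le_M hkU hx hx
      have key : ∀ z ∈ M, hf z ∈ Q' ↔ z ∈ U := fun z hz => by
        rw [← hhQ, hh.mem_img_iff hUN]
        exact ⟨fun ⟨v, hv, e⟩ => hh.inj (hUN hv) (hMN hz) e ▸ hv, fun h => ⟨z, h, rfl⟩⟩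
      have key2 : k x ∈ U ↔ x ∈ U := by
        refine ⟨fun h => ?_, fun h => hkU ▸ hk.mem_img h⟩
        obtain ⟨v, hv, e⟩ := (hk.mem_img_iff d.U_le_M).1 (hkU.symm ▸ h : k x ∈ img k U)
        exact hk.inj (d.U_le_M hv) hx e ▸ hv
      rw [hχe, ← hxz, hme x hx, key _ hkx, key2, key x hx]
    · obtain ⟨x, hx, rfl⟩ := hiUQ.exists_eq hy
      rw [autFn_apply χ (hQ'M' hy), hχe, hme x (d.U_le_M hx), hke x hx]
      exact hir _ (autFn_mem β (hiUQ.mem hx))
  set A := F.autGroup M' ⊓ stab M' Q' with hA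
  set B := autInducedBy S M' ⊓ stab M' Q' with hB
  have := finite_mulAut hM'S
  have := finite_mulAut hQ'S
  -- restriction of elements of `B`
  have hBres : ∀ b ∈ B, ∃ γ ∈ autInducedBy S Q', ∀ x ∈ Q', autFn b x = autFn γ x := by
    intro b hb
    obtain ⟨t, ht', hte⟩ := mem_autInducedBy_iff.1 hb.1
    have := finite_of_le hQ'S
    have htQ : t ∈ normalizerIn S Q' := mem_normalizerIn_of_conj ht' fun x hx => by
      rw [← hte ⟨x, hQ'M' hx⟩]
      exact (hb.2 _).2 hx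
    refine ⟨normConj S Q' ⟨t, htQ⟩, range_normConj S Q' ▸ ⟨_, rfl⟩, fun x hx => ?_⟩
    rw [autFn_apply b (hQ'M' hx), autFn_apply _ hx, hte, normConj_apply]
  refine ⟨Q', hcQ', isFullyAutomized_iff.2 ⟨hQ'S, ?_⟩, isReceptive_iff.2 ⟨hQ'S, fun Q φ hφ => ?_⟩⟩
  · -- fully automized
    have hres : ∀ (ψ : stab M' Q') (γ : MulAut Q'),
        (∀ x ∈ Q', autFn (ψ : MulAut M') x = autFn γ x) → restr hQ'M' ψ = γ := fun ψ γ e =>
      MulEquiv.ext fun x => Subtype.ext (by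
        rw [restr_apply, ← autFn_apply (ψ : MulAut M') (hQ'M' x.2), e x x.2, autFn_apply γ x.2])
    have h1 := (ht.2.2.subgroupOf (W := stab M' Q') inf_le_right).image (restr hQ'M')
    convert h1 using 1
    · ext γ
      constructor
      · intro hγ
        obtain ⟨t, ht', hte⟩ := mem_autInducedBy_iff.1 hγ
        have htQ : t ∈ normalizerIn S Q' := mem_normalizerIn_of_aut ht' hte
        have hs : normConj S M' ⟨t, hNM htQ⟩ ∈ stab M' Q' := fun z => by
          rw [normConj_apply]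
          exact ⟨fun h => by simpa [mul_assoc] using normalizerIn_conj_inv htQ h,
            fun h => normalizerIn_conj htQ h⟩
        refine ⟨⟨_, hs⟩, ⟨range_normConj S M' ▸ ⟨_, rfl⟩, hs⟩, hres _ _ fun x hx => ?_⟩
        rw [autFn_apply _ (hQ'M' hx), autFn_apply _ hx, normConj_apply, hte]
      · rintro ⟨ψ, hψ, rfl⟩
        obtain ⟨γ, hγ, e⟩ := hBres ψ hψ
        rwa [hres ψ γ e]
    · ext γ
      constructor
      · intro hγ
        obtain ⟨χ, hχ, e⟩ := hext γ hγ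
        exact ⟨⟨χ, hχ.2⟩, hχ, hres _ _ e⟩
      · rintro ⟨ψ, hψ, rfl⟩
        refine (mem_autGroup_iff hQ'S).2 ((((mem_autGroup_iff hM'S).1 hψ.1).mono hQ'M').congr
          fun x hx => ?_)
        rw [autFn_apply _ (hQ'M' hx), autFn_apply _ hx, restr_apply]
        rfl
  · -- receptive
    have hcQ : F.IsConj P Q := isConj_trans hcQ' (isConj_symm (isConj_iff.2 ⟨φ, hφ⟩))
    obtain ⟨u, hu, hue⟩ := huniv Q hcQ
    have hQS : Q ≤ S := hφ.le_left
    have hQN : Q ≤ normalizerIn S Q := le_normalizerIn hQS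
    have huQ : IsIso F Q Q' u := ⟨hu.mono hQN, hue⟩
    obtain ⟨i, hi, hil, -⟩ := huQ.symm
    obtain ⟨β, hβ, hβe⟩ := exists_aut_of_isIso (hi.trans hφ)
    obtain ⟨χ, hχ, hχe⟩ := hext β hβ
    have hχu : ∀ x ∈ Q, autFn χ (u x) = φ x := fun x hx => by
      rw [hχe _ (huQ.mem hx), autFn_apply β (huQ.mem hx), hβe]
      exact congrArg φ (hil x hx)
    set N := Nx S Q φ
    have hNN : N ≤ normalizerIn S Q := Nx_le_normalizerIn S Q φ
    set N' := img u N with hN'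
    have hN'Q : N' ≤ normalizerIn S Q' :=
      hu.img_le hNN fun y hy => map_normalizerIn hu hQN hue (hNN hy) (hNN hy)
    have hN'M : N' ≤ normalizerIn S M' := hN'Q.trans hNM
    set K := lift hQ'M' (fun x => x) (fun _ hx => hx) (autInducedBy S Q') ⊓ A with hK
    have hBK : B ≤ K := by
      intro b hb
      obtain ⟨γ, hγ, e⟩ := hBres b hb
      refine ⟨mem_lift.2 ⟨hb.2, γ, hγ, fun x hx => ?_⟩,
        autInducedBy_le_autGroup F le_rfl hM'S hb.1, hb.2⟩
      exact (e x hx).trans (autFn_apply γ hx)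
    have hBs : IsSylowIn p B K := ht.2.2.mono hBK inf_le_right
    have hHK : (autInducedBy N' M').map (MulAut.conj χ).toMonoidHom ≤ K := by
      rintro _ ⟨b, hb, rfl⟩
      show χ * b * χ⁻¹ ∈ K
      obtain ⟨y, hy, hye⟩ := mem_autInducedBy_iff.1 hb
      obtain ⟨g, hg, rfl⟩ := (hu.mem_img_iff hNN).1 hy
      obtain ⟨hgN, t, ht', hte⟩ := mem_Nx.1 hg
      have hbs : b ∈ stab M' Q' := fun z => by
        rw [hye]
        exact ⟨fun h => by simpa [mul_assoc] using normalizerIn_conj_inv (hN'Q hy) h,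
          fun h => normalizerIn_conj (hN'Q hy) h⟩
      have hbA : b ∈ F.autGroup M' :=
        autInducedBy_le_autGroup F (hN'M.trans inf_le_left) hM'S hb
      refine ⟨mem_lift.2 ⟨mul_mem (mul_mem hχ.2 hbs) (Subgroup.inv_mem _ hχ.2), ?_⟩,
        mul_mem (mul_mem hχ.1 hbA) (Subgroup.inv_mem _ hχ.1),
        mul_mem (mul_mem hχ.2 hbs) (Subgroup.inv_mem _ hχ.2)⟩
      have := finite_of_le hQ'S
      have htQ : t ∈ normalizerIn S Q' := mem_normalizerIn_of_conj ht' fun z hz => by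
        obtain ⟨x, hx, rfl⟩ := hφ.exists_eq hz
        rw [← hte x hx]
        exact hφ.mem (normalizerIn_conj hgN hx)
      refine ⟨normConj S Q' ⟨t, htQ⟩, range_normConj S Q' ▸ ⟨_, rfl⟩, fun z hz => ?_⟩
      rw [normConj_apply]
      have hz' := stab_maps (Subgroup.inv_mem _ hχ.2) hQ'M' hz
      obtain ⟨x, hx, hxe⟩ := huQ.exists_eq hz'
      have hzx : z = φ x := by
        rw [← hχu x hx, hxe, autFn_self_inv χ (hQ'M' hz)]
      show autFn (χ * b * χ⁻¹) z = t * z * t⁻¹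
      rw [autFn_mul _ _ (hQ'M' hz), autFn_mul _ _ (hQ'M' hz'), autFn_apply b (hQ'M' hz'), hye]
      show autFn χ (u g * autFn χ⁻¹ z * (u g)⁻¹) = t * z * t⁻¹
      rw [← hxe, ← hu.map_conj hgN (hQN hx), hχu _ (normalizerIn_conj hgN hx), hte x hx, hzx]
    obtain ⟨κ, hκ, hκc⟩ := hBs.exists_conj_le
      (((isPGroup_autInducedBy hS).to_le (autInducedBy_le_of_le (hN'M.trans inf_le_left))).map _) hHK
    have hν : κ * χ ∈ A := mul_mem hκ.2 hχ
    obtain ⟨f, hfm, hfe⟩ := exists_ext_of_conj ht.1.2 hν.1 hN'M fun y hy => by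
      have hb : normConj S M' ⟨y, hN'M hy⟩ ∈ autInducedBy N' M' :=
        mem_autInducedBy_iff.2 ⟨y, hy, fun x => rfl⟩
      have := (hκc _ ⟨_, hb, rfl⟩).1
      simpa [mul_assoc] using this
    obtain ⟨hκs, γ, hγ, hγe⟩ := hκ.1
    obtain ⟨t, ht', hte⟩ := mem_autInducedBy_iff.1 hγ
    have hQN' : Q ≤ N := le_Nx hφ.1
    refine ⟨fun x => t⁻¹ * f (u x) * t⁻¹⁻¹, ((hu.mono hNN).comp hfm fun x hx => hu.mem_img hx).comp
      (Fusion.IsMap.conj le_rfl (inv_mem ht')) (fun x hx => hfm.mem (hu.mem_img hx)), fun x hx => ?_⟩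
    have hux : u x ∈ Q' := huQ.mem hx
    show t⁻¹ * f (u x) * t⁻¹⁻¹ = φ x
    rw [hfe (u x) ⟨hQ'M' hux, hu.mem_img (hQN' hx)⟩, autFn_mul _ _ (hQ'M' hux), hχu x hx,
      show autFn κ (φ x) = _ from hγe _ (hφ.mem hx), hte]
    group

/-- The system of maps of `F` whose restriction to the class of `P` decomposes through larger subgroups. -/
def chainSys (F : FusionSystem S) (hP : P < S) : FusionSystem S where
  Hom R := {φ | φ ∈ F.Hom R ∧ (F.IsConj P R → Chain F R (toFn φ))}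
  le_of_mem h := F.le_of_mem h.1
  injective_of_mem h := F.injective_of_mem h.1
  conj_mem := by
    intro R g hR hg
    refine ⟨F.conj_mem hR hg, fun hc => ?_⟩
    have hlt : R < S := lt_of_le_of_ne hR fun e => by
      have h1 := card_lt le_rfl hP
      rw [← ClassHyp.card_eq hc, e] at h1
      exact lt_irrefl _ h1
    exact (Chain.step (Fusion.IsMap.conj le_rfl hg) hlt).congr fun x hx => ((toFn_apply (conjHom R g) hx).trans rfl).symm
  comp_mem := by
    rintro R Q φ ψ ⟨hφ, hφc⟩ ⟨hψ, hψc⟩ h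
    refine ⟨F.comp_mem hφ hψ h, fun hR => ?_⟩
    have hm := isMap_toFn hφ
    have hle : img (toFn φ) R ≤ Q := hm.img_le le_rfl fun x hx => (toFn_apply φ hx).symm ▸ h ⟨x, hx⟩
    have hcR : F.IsConj P (img (toFn φ) R) := isConj_trans hR (isConj_iff.2 ⟨_, hm.isIso⟩)
    have c2 : Chain F (img (toFn φ) R) (toFn ψ) := by
      rcases hle.lt_or_eq with hlt | heq
      · exact Chain.step (isMap_toFn hψ) hlt
      · rw [heq] at hcR ⊢
        exact hψc hcR
    refine (Chain.comp (hφc hR) c2).congr fun x hx => ?_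
    rw [toFn_apply (ψ.comp (φ.codRestrict Q h)) hx, toFn_apply φ hx, toFn_apply ψ (h ⟨x, hx⟩)]
    rfl
  inv_mem := by
    rintro R φ ⟨hφ, hφc⟩
    obtain ⟨ψ, hψ, hinv⟩ := F.inv_mem hφ
    refine ⟨ψ, ⟨hψ, fun hc => ?_⟩, hinv⟩
    have hR : F.IsConj P R := isConj_trans hc (isConj_symm ⟨φ, hφ, rfl⟩)
    have hs := (hφc hR).symm (toFn ψ) fun x hx => by
      rw [toFn_apply φ hx, toFn_apply ψ (show φ ⟨x, hx⟩ ∈ φ.range from ⟨_, rfl⟩)]
      exact hinv ⟨x, hx⟩
    rwa [toFn_img] at hs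

/-- Saturation on a conjugacy-closed generating family gives saturation. -/
theorem isSaturated_of_family (hS : IsPGroup p S) (ℋ : Set (Subgroup Ω))
    (hℋconj : ∀ P ∈ ℋ, ∀ Q, F.IsConj P Q → Q ∈ ℋ)
    (hsat : ∀ P ∈ ℋ, ∃ Q, F.IsConj P Q ∧ F.IsFullyAutomized p Q ∧ F.IsReceptive Q)
    (hgen : ∀ E : FusionSystem S, (∀ P ∈ ℋ, F.Hom P ⊆ E.Hom P) → F ≤ E)
    (hstar : ∀ P : Subgroup Ω, F.IsCentric P → P ∉ ℋ → ∃ Q, F.IsConj P Q ∧
      ¬ (autInducedBy S Q ⊓ pCoreAut F p Q ≤ Cfsg.Inn Q)) :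
    F.IsSaturated p := by
  suffices H : ∀ n, ∀ P : Subgroup Ω, P ≤ S → Nat.card S - Nat.card P = n →
      ∃ Q, F.IsConj P Q ∧ FAR F p Q from fun P hP => H _ P hP rfl
  intro n
  induction n using Nat.strong_induction_on with
  | _ n ih =>
  intro P hPS hn
  by_cases hP : P ∈ ℋ
  · exact hsat P hP
  have hSℋ : S ∈ ℋ := by
    by_contra hS'
    have hc : F.IsCentric S := ⟨le_rfl, fun Q hQ => by
      obtain ⟨f, hf⟩ := isConj_iff.1 hQ
      rw [eq_of_le_of_card le_rfl hf.le_right hf.card_eq.ge]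
      exact inf_le_left⟩
    obtain ⟨Q, hQ, hne⟩ := hstar S hc hS'
    obtain ⟨f, hf⟩ := isConj_iff.1 hQ
    obtain rfl : Q = S := eq_of_le_of_card le_rfl hf.le_right hf.card_eq.ge
    refine hne (inf_le_left.trans fun α hα => ?_)
    obtain ⟨g, hg, hge⟩ := mem_autInducedBy_iff.1 hα
    exact ⟨⟨g, hg⟩, MulEquiv.ext fun x => Subtype.ext (hge x).symm⟩
  have hlt : P < S := lt_of_le_of_ne hPS fun e => hP (e ▸ hSℋ)
  have hE : F ≤ chainSys F hlt := hgen _ fun Q hQ φ hφ =>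
    ⟨hφ, fun hc => absurd (hℋconj Q hQ P (isConj_symm hc)) hP⟩
  refine exists_FAR_of_class ⟨hS, hlt, fun R hR hRc => ?_, fun Q f hQ hf => ?_⟩ fun hc => hstar P hc hP
  · have h1 := Subgroup.card_le_of_le hR
    exact ih _ (by omega) R hR rfl
  · obtain ⟨φ, hφ, e⟩ := hf
    exact ((hE Q hφ).2 hQ).congr fun x hx => (toFn_apply φ hx).trans (e x hx)

end Cfsg.Agent.FusionCrit
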