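import Cfsg.Agent.Lib.FusionCrit.Pairs

/-
A conjugacy class of subgroups all of whose maps are composites of maps on larger subgroups.
Main results (namespace `Cfsg.Agent.FusionCrit`): `Chain`, `ClassHyp`, `IsUniversal`,
`ClassHyp.exists_universal`.
-/

set_option autoImplicit false

namespace Cfsg.Agent.FusionCrit

open Cfsg Cfsg.FusionSystem Cfsg.Agent.Fusion

variable {Ω : Type*} [Group Ω] {S : Subgroup Ω} {F : FusionSystem S} {p : ℕ} {P : Subgroup Ω}

/-- Composites of restrictions of maps defined on strictly larger subgroups. -/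
inductive Chain (F : FusionSystem S) : Subgroup Ω → (Ω → Ω) → Prop
  | step {Q R : Subgroup Ω} {f : Ω → Ω} : IsMap F R f → Q < R → Chain F Q f
  | comp {Q : Subgroup Ω} {f g : Ω → Ω} : Chain F Q f → Chain F (img f Q) g →
      Chain F Q (fun x => g (f x))
  | congr {Q : Subgroup Ω} {f g : Ω → Ω} : Chain F Q f → (∀ x ∈ Q, f x = g x) → Chain F Q g

theorem img_comp {Q : Subgroup Ω} {f g : Ω → Ω} (hf : IsMap F Q f) (hg : IsMap F (img f Q) g) :
    img (fun x => g (f x)) Q = img g (img f Q) :=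
  (hf.isIso.trans hg.isIso).2

theorem Chain.isMap {Q : Subgroup Ω} {f : Ω → Ω} (h : Chain F Q f) : IsMap F Q f := by
  induction h with
  | step hf hlt => exact hf.mono hlt.le
  | comp _ _ ih1 ih2 => exact ih1.comp ih2 fun x hx => ih1.mem_img hx
  | congr _ e ih => exact ih.congr e

theorem Chain.symm [Finite S] {Q : Subgroup Ω} {f : Ω → Ω} (h : Chain F Q f) :
    ∀ g : Ω → Ω, (∀ x ∈ Q, g (f x) = x) → Chain F (img f Q) g := by
  induction h with
  | @step Q R f hf hlt =>
    intro g hg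
    obtain ⟨i, hi, hil, -⟩ := hf.isIso.symm
    refine (Chain.step hi.1 (lt_img_of_lt hf hlt)).congr fun y hy => ?_
    obtain ⟨x, hx, rfl⟩ := (hf.mem_img_iff hlt.le).1 hy
    rw [hil x (hlt.le hx), hg x hx]
  | @comp Q f₁ f₂ h₁ h₂ ih₁ ih₂ =>
    intro k hk
    obtain ⟨i, hi, hil, -⟩ := h₁.isMap.isIso.symm
    obtain ⟨j, hj, hjl, -⟩ := h₂.isMap.isIso.symm
    have c₂ := ih₂ j hjl
    have c₁ := ih₁ i hil
    rw [← hj.2] at c₁
    rw [img_comp h₁.isMap h₂.isMap]
    refine (Chain.comp c₂ c₁).congr fun y hy => ?_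
    obtain ⟨z, hz, rfl⟩ := (h₂.isMap.mem_img_iff le_rfl).1 hy
    obtain ⟨x, hx, rfl⟩ := (h₁.isMap.mem_img_iff le_rfl).1 hz
    rw [hjl _ hz, hil x hx, hk x hx]
  | @congr Q f₁ f₂ _ e ih =>
    intro g hg
    rw [← img_congr e]
    exact ih g fun x hx => by rw [e x hx]; exact hg x hx

/-- The hypotheses on the class of `P`. -/
structure ClassHyp (F : FusionSystem S) (p : ℕ) (P : Subgroup Ω) : Prop where
  isPGroup : IsPGroup p S
  lt : P < S
  big : ∀ R : Subgroup Ω, R ≤ S → Nat.card P < Nat.card R → ∃ R₀, F.IsConj R R₀ ∧ FAR F p R₀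
  chain : ∀ (Q : Subgroup Ω) (f : Ω → Ω), F.IsConj P Q → IsMap F Q f → Chain F Q f

/-- One step of size at least `r`. -/
def Step (F : FusionSystem S) (r : ℕ) (Q Q' : Subgroup Ω) : Prop :=
  ∃ (R : Subgroup Ω) (f : Ω → Ω), IsMap F R f ∧ Q < R ∧ R ≤ normalizerIn S Q ∧
    r ≤ Nat.card R ∧ img f Q = Q'

/-- Connected by steps of size at least `r`. -/
def Conn (F : FusionSystem S) (r : ℕ) : Subgroup Ω → Subgroup Ω → Prop :=
  Relation.ReflTransGen (Step F r)

/-- Every member of the class of `P` reaches `U` by a map on its normalizer. -/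
def IsUniversal (F : FusionSystem S) (P U : Subgroup Ω) : Prop :=
  F.IsConj P U ∧ ∀ Q : Subgroup Ω, F.IsConj P Q →
    ∃ u, IsMap F (normalizerIn S Q) u ∧ img u Q = U

theorem img_le_normalizerIn {R Q Q' : Subgroup Ω} {f : Ω → Ω} (hf : IsMap F R f) (hQ : Q ≤ R)
    (hR : R ≤ normalizerIn S Q) (he : img f Q = Q') : img f R ≤ normalizerIn S Q' :=
  hf.img_le le_rfl fun x hx => map_normalizerIn hf hQ he hx (hR hx)

theorem Step.isConj {r : ℕ} {Q Q' : Subgroup Ω} (h : Step F r Q Q') : F.IsConj Q Q' := by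
  obtain ⟨R, f, hf, hlt, -, -, he⟩ := h
  exact isConj_iff.2 ⟨f, hf.mono hlt.le, he⟩

theorem Step.symm [Finite S] {r : ℕ} {Q Q' : Subgroup Ω} (h : Step F r Q Q') : Step F r Q' Q := by
  obtain ⟨R, f, hf, hlt, hR, hr, he⟩ := h
  obtain ⟨i, hi, hil, -⟩ := hf.isIso.symm
  subst he
  refine ⟨img f R, i, hi.1, lt_img_of_lt hf hlt, img_le_normalizerIn hf hlt.le hR rfl,
    (hf.card_img le_rfl).symm ▸ hr, ?_⟩
  refine IsIso.img_eq_of hi.1 (lt_img_of_lt hf hlt).le (fun y hy => ?_)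
    fun x hx => ⟨f x, hf.mem_img hx, hil x (hlt.le hx)⟩
  obtain ⟨x, hx, rfl⟩ := (hf.mem_img_iff hlt.le).1 hy
  rwa [hil x (hlt.le hx)]

theorem conn_mono {r r' : ℕ} (h : r' ≤ r) {Q Q' : Subgroup Ω} (hc : Conn F r Q Q') : Conn F r' Q Q' :=
  Relation.ReflTransGen.mono (fun _ _ ⟨R, f, h1, h2, h3, h4, h5⟩ => ⟨R, f, h1, h2, h3, h.trans h4, h5⟩)
    _ _ hc

namespace ClassHyp

variable [Finite S] [Fact p.Prime]

theorem le_left {Q : Subgroup Ω} (hQ : F.IsConj P Q) : Q ≤ S := (isConj_le hQ).2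

theorem card_eq {Q : Subgroup Ω} (hQ : F.IsConj P Q) : Nat.card Q = Nat.card P := by
  obtain ⟨f, hf⟩ := isConj_iff.1 hQ
  exact hf.card_eq

theorem lt_S (h : ClassHyp F p P) {Q : Subgroup Ω} (hQ : F.IsConj P Q) : Q < S := by
  refine lt_of_le_of_ne (le_left hQ) fun e => ?_
  have h1 := card_lt le_rfl h.lt
  rw [← card_eq hQ, e] at h1
  exact lt_irrefl _ h1

theorem card_lt_of_lt {Q R : Subgroup Ω} (hQ : F.IsConj P Q) (hR : R ≤ S) (hlt : Q < R) :
    Nat.card P < Nat.card R :=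
  card_eq hQ ▸ card_lt hR hlt

theorem conn_of_chain (h : ClassHyp F p P) {Q : Subgroup Ω} {f : Ω → Ω} (hc : Chain F Q f) :
    F.IsConj P Q → Conn F 0 Q (img f Q) := by
  induction hc with
  | @step Q R f hf hlt =>
    intro _
    have hlt' : Q < normalizerIn R Q := lt_normalizerIn h.isPGroup hf.le hlt
    exact Relation.ReflTransGen.single ⟨normalizerIn R Q, f, hf.mono inf_le_left, hlt',
      inf_le_inf_right _ hf.le, Nat.zero_le _, rfl⟩
  | @comp Q f g h₁ h₂ ih₁ ih₂ =>
    intro hQ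
    rw [img_comp h₁.isMap h₂.isMap]
    exact (ih₁ hQ).trans (ih₂ (isConj_trans hQ (isConj_iff.2 ⟨f, h₁.isMap.isIso⟩)))
  | @congr Q f g _ e ih =>
    intro hQ
    rw [← img_congr e]
    exact ih hQ

theorem conn_zero (h : ClassHyp F p P) {Q Q' : Subgroup Ω} (hQ : F.IsConj P Q)
    (hQ' : F.IsConj P Q') : Conn F 0 Q Q' := by
  obtain ⟨f, hf⟩ := isConj_iff.1 (isConj_trans (isConj_symm hQ) hQ')
  exact hf.2 ▸ h.conn_of_chain (h.chain Q f hQ hf.1) hQ

/-- A step between members with large normalizers can be replaced by larger steps. -/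
theorem split (h : ClassHyp F p P) {r : ℕ} {Q Q' : Subgroup Ω} (hQ : F.IsConj P Q)
    (hs : Step F r Q Q') (h1 : r < Nat.card (normalizerIn S Q))
    (h2 : r < Nat.card (normalizerIn S Q')) : Conn F (r + 1) Q Q' := by
  obtain ⟨R, f, hf, hlt, hR, hr, he⟩ := hs
  rcases Nat.lt_or_ge r (Nat.card R) with hr' | hr'
  · exact Relation.ReflTransGen.single ⟨R, f, hf, hlt, hR, hr', he⟩
  have hR1 : R < normalizerIn S Q := lt_of_le_of_ne hR fun e => by rw [← e] at h1; omega
  obtain ⟨R₀, hcR, hfar⟩ := h.big R hf.le (card_lt_of_lt hQ hf.le hlt)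
  obtain ⟨R', Q'', a, ht, ha, haQ⟩ := exists_pair_target h.isPGroup hlt.le hfar hcR
  obtain ⟨h₁, hh₁, -, hh₁Q, -⟩ := pair_extension h.isPGroup ht ha hlt.le haQ hR
  obtain ⟨i, hi, hil, -⟩ := hf.isIso.symm
  have hlt2 : Q' < img f R := he ▸ lt_img_of_lt hf hlt
  have hRn : img f R ≤ normalizerIn S Q' := img_le_normalizerIn hf hlt.le hR he
  have hia : img (fun x => a (i x)) Q' = Q'' := by
    rw [← haQ]
    refine IsIso.img_eq_of (hi.trans ha).1 hlt2.le (fun y hy => ?_) fun z hz => ?_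
    · rw [← he] at hy
      obtain ⟨x, hx, rfl⟩ := (hf.mem_img_iff hlt.le).1 hy
      rw [hil x (hlt.le hx)]
      exact ha.1.mem_img hx
    · obtain ⟨x, hx, rfl⟩ := (ha.1.mem_img_iff hlt.le).1 hz
      exact ⟨f x, he ▸ hf.mem_img hx, by rw [hil x (hlt.le hx)]⟩
  obtain ⟨h₂, hh₂, -, hh₂Q, -⟩ := pair_extension h.isPGroup ht (hi.trans ha) hlt2.le hia hRn
  have hR2 : img f R < normalizerIn S Q' := lt_of_le_of_ne hRn fun e => by
    rw [← e, hf.card_img le_rfl] at h2; omega
  have n1 := lt_NN h.isPGroup hR1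
  have n2 := lt_NN h.isPGroup hR2
  have c1 := card_lt (NN_le S R Q) n1
  have c2 := card_lt (NN_le S (img f R) Q') n2
  rw [hf.card_img le_rfl] at c2
  have s1 : Step F (r + 1) Q Q'' :=
    ⟨_, h₁, hh₁, hlt.trans n1, inf_le_right, by omega, hh₁Q⟩
  have s2 : Step F (r + 1) Q' Q'' :=
    ⟨_, h₂, hh₂, hlt2.trans n2, inf_le_right, by omega, hh₂Q⟩
  exact (Relation.ReflTransGen.single s1).tail s2.symm

theorem upgrade (h : ClassHyp F p P) {r : ℕ} {Q Q' : Subgroup Ω} (hc : Conn F r Q Q') :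
    F.IsConj P Q → r < Nat.card (normalizerIn S Q') →
    Q = Q' ∨ ∃ Q₁, F.IsConj P Q₁ ∧ r < Nat.card (normalizerIn S Q₁) ∧ Step F r Q Q₁ ∧
      Conn F (r + 1) Q₁ Q' := by
  induction hc using Relation.ReflTransGen.head_induction_on with
  | refl => exact fun _ _ => Or.inl rfl
  | @head a b hab _ ih =>
    intro ha hQ'
    have hb : F.IsConj P b := isConj_trans ha hab.isConj
    refine Or.inr ?_
    rcases Nat.lt_or_ge r (Nat.card (normalizerIn S b)) with hb' | hb'
    · refine ⟨b, hb, hb', hab, ?_⟩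
      rcases ih hb hQ' with rfl | ⟨b₁, _, hb₁', hs, hc'⟩
      · exact Relation.ReflTransGen.refl
      · exact (h.split hb hs hb' hb₁').trans hc'
    · rcases ih hb hQ' with rfl | ⟨b₁, hb₁, hb₁', hs, hc'⟩
      · omega
      obtain ⟨R, f, hf, hlt, hR, hr, he⟩ := hab
      obtain ⟨R₂, g, hg, hlt₂, hR₂, hr₂, hge⟩ := hs
      have e1 : img f R = normalizerIn S b := eq_of_le_of_card inf_le_left
        (img_le_normalizerIn hf hlt.le hR he) (by rw [hf.card_img le_rfl]; omega)
      have e2 : R₂ = normalizerIn S b := eq_of_le_of_card inf_le_left hR₂ (by omega)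
      subst e2
      rw [← e1] at hg
      refine ⟨b₁, hb₁, hb₁', ⟨R, fun x => g (f x), hf.comp hg fun x hx => hf.mem_img hx,
        hlt, hR, hr, ?_⟩, hc'⟩
      rw [img_comp (hf.mono hlt.le) (hg.mono (by rw [he]; exact e1 ▸ hlt₂.le)), he, hge]

theorem conn_all (h : ClassHyp F p P) : ∀ (r : ℕ) {Q Q' : Subgroup Ω}, F.IsConj P Q →
    F.IsConj P Q' → r ≤ Nat.card (normalizerIn S Q) → r ≤ Nat.card (normalizerIn S Q') →
    Conn F r Q Q'
  | 0, _, _, hQ, hQ', _, _ => h.conn_zero hQ hQ'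
  | r + 1, Q, Q', hQ, hQ', h1, h2 => by
    rcases h.upgrade (h.conn_all r hQ hQ' (by omega) (by omega)) hQ (by omega) with
      rfl | ⟨Q₁, _, hQ₁', hs, hc⟩
    · exact Relation.ReflTransGen.refl
    · exact (h.split hQ hs (by omega) hQ₁').trans hc

theorem exists_universal (h : ClassHyp F p P) : ∃ U, IsUniversal F P U := by
  obtain ⟨U, hPU, hUn⟩ : ∃ U, F.IsConj P U ∧ F.IsFullyNormalized U := exists_fullyNormalized F h.lt.le
  refine ⟨U, hPU, fun Q hQ => ?_⟩
  induction hn : Nat.card S - Nat.card (normalizerIn S Q) using Nat.strong_induction_on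
    generalizing Q with
  | _ n ih =>
  set m := Nat.card (normalizerIn S Q) with hm
  have hmU : m ≤ Nat.card (normalizerIn S U) := hUn.2 Q (isConj_trans (isConj_symm hPU) hQ)
  have key : ∀ a, Conn F m a U → F.IsConj P a → m ≤ Nat.card (normalizerIn S a) →
      ∃ u, IsMap F (normalizerIn S a) u ∧ img u a = U := by
    intro a hc
    induction hc using Relation.ReflTransGen.head_induction_on with
    | refl =>
      exact fun _ _ => ⟨fun x => x, Fusion.IsMap.id inf_le_left, by rw [img, Set.image_id', Subgroup.closure_eq]⟩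
    | @head a b hab _ ihc =>
      intro ha ham
      have hle : Nat.card (normalizerIn S a) ≤ Nat.card S := Subgroup.card_le_of_le inf_le_left
      rcases Nat.lt_or_ge m (Nat.card (normalizerIn S a)) with hlt' | hlt'
      · exact ih _ (by omega) a ha rfl
      obtain ⟨R, f, hf, hlt, hR, hr, he⟩ := hab
      have hRe : R = normalizerIn S a := eq_of_le_of_card inf_le_left hR (by omega)
      subst hRe
      have hfb : img f (normalizerIn S a) ≤ normalizerIn S b := img_le_normalizerIn hf hlt.le hR he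
      have hb : F.IsConj P b := isConj_trans ha (isConj_iff.2 ⟨f, hf.mono hlt.le, he⟩)
      have hbm : m ≤ Nat.card (normalizerIn S b) := by
        have h1 := hf.card_img (le_refl (normalizerIn S a))
        have := finite_of_le (S := S) (P := normalizerIn S b) inf_le_left
        have := Subgroup.card_le_of_le hfb
        omega
      obtain ⟨u, hu, hue⟩ := ihc hb hbm
      refine ⟨fun x => u (f x), hf.comp hu fun x hx => hfb (hf.mem_img hx), ?_⟩
      rw [img_comp (hf.mono hlt.le) (hu.mono (by rw [he]; exact le_normalizerIn (le_left hb))), he, hue]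
  exact key Q (h.conn_all m hQ hPU le_rfl hmU) hQ le_rfl

end ClassHyp

end Cfsg.Agent.FusionCrit
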