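import Cfsg.Agent.Lib.FusionCrit.Connect

/-
Every automorphism of a universal member extends to `N_S^X`.
Main results (namespace `Cfsg.Agent.FusionCrit`): `ExtData`, `ExtData.ext_all`.
-/

set_option autoImplicit false

namespace Cfsg.Agent.FusionCrit

open Cfsg Cfsg.FusionSystem Cfsg.Agent.Fusion

variable {Ω : Type*} [Group Ω] {S : Subgroup Ω} {F : FusionSystem S} {p : ℕ} {P : Subgroup Ω}

theorem isConj_of_img {D Q R : Subgroup Ω} {f : Ω → Ω} (hf : IsMap F D f) (hQ : Q ≤ D)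
    (he : img f Q = R) : F.IsConj Q R :=
  isConj_iff.2 ⟨f, hf.mono hQ, he⟩

theorem mem_Nx_of_aut {R : Subgroup Ω} {n : MulAut R} {g : Ω} (hg : g ∈ normalizerIn S R)
    (h : n * normConj S R ⟨g, hg⟩ * n⁻¹ ∈ autInducedBy S R) : g ∈ Nx S R (autFn n) := by
  obtain ⟨t, ht, hte⟩ := mem_autInducedBy_iff.1 h
  refine mem_Nx.2 ⟨hg, t, ht, fun x hx => ?_⟩
  have := hte (n ⟨x, hx⟩)
  rw [MulAut.mul_apply, MulAut.mul_apply, MulAut.inv_apply_self] at this
  rw [autFn_apply n hx, ← this, ← normConj_apply (⟨g, hg⟩ : normalizerIn S R) ⟨x, hx⟩,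
    autFn_apply n (normConj S R ⟨g, hg⟩ ⟨x, hx⟩).2]

/-- The data for the extension argument on a universal member. -/
structure ExtData (F : FusionSystem S) (p : ℕ) (P U : Subgroup Ω) (X : Subgroup (MulAut U)) : Prop where
  hyp : ClassHyp F p P
  univ : IsUniversal F P U
  le_aut : X ≤ F.autGroup U
  normal : ∀ α ∈ F.autGroup U, ∀ β ∈ X, α * β * α⁻¹ ∈ X
  inn : Cfsg.Inn U ≤ X
  cases : X ≤ autInducedBy S U ∨ (IsPGroup p X ∧ F.IsCentric U)
  lt : U < NK S U X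

/-- `g`, restricted to `U`, extends to `N_S^X(U)`. -/
def Ext (F : FusionSystem S) (U : Subgroup Ω) (X : Subgroup (MulAut U)) (g : Ω → Ω) : Prop :=
  ∃ k, IsMap F (NK S U X) k ∧ ∀ x ∈ U, k x = g x

namespace ExtData

variable [Finite S] [Fact p.Prime] {U : Subgroup Ω} {X : Subgroup (MulAut U)}

theorem U_le (d : ExtData F p P U X) : U ≤ S := ClassHyp.le_left d.univ.1

theorem U_le_M (d : ExtData F p P U X) : U ≤ NK S U X := d.lt.le

theorem mem_M_of_map (d : ExtData F p P U X) {D : Subgroup Ω} {k : Ω → Ω} (hk : IsMap F D k)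
    (hUD : U ≤ D) (hkU : img k U = U) {y : Ω} (hyD : y ∈ D) (hyM : y ∈ NK S U X) :
    k y ∈ NK S U X := by
  obtain ⟨γ, hγ, hγe⟩ := exists_aut_of_isIso (show IsIso F U U k from ⟨hk.mono hUD, hkU⟩)
  obtain ⟨-, α, hα, hαe⟩ := mem_NK.1 hyM
  refine mem_NK.2 ⟨hk.mem hyD, γ * α * γ⁻¹, d.normal γ hγ α hα, fun x => ?_⟩
  have hx' := (γ⁻¹ x).2
  rw [MulAut.mul_apply, MulAut.mul_apply, hγe, hαe, hk.map_conj hyD (hUD hx'), ← hγe,
    MulAut.apply_inv_self]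

theorem img_M (d : ExtData F p P U X) {k : Ω → Ω} (hk : IsMap F (NK S U X) k)
    (hkU : img k U = U) : img k (NK S U X) = NK S U X :=
  eq_of_le_of_card (NK_le S U X) (hk.img_le le_rfl fun _ hy => d.mem_M_of_map hk d.U_le_M hkU hy hy)
    (hk.card_img le_rfl).ge

theorem conj_mem_M (d : ExtData F p P U X) {g y : Ω} (hg : g ∈ normalizerIn S U)
    (hy : y ∈ NK S U X) : g * y * g⁻¹ ∈ NK S U X := by
  refine d.mem_M_of_map (Fusion.IsMap.conj (F := F) (NK_le S U X) hg.1) d.U_le_M ?_ hy hy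
  refine IsIso.img_eq_of (Fusion.IsMap.conj (F := F) d.U_le hg.1) le_rfl (fun x hx => normalizerIn_conj hg hx)
    fun x hx => ⟨g⁻¹ * x * g, normalizerIn_conj_inv hg hx, ?_⟩
  show g * (g⁻¹ * x * g) * g⁻¹ = x
  group

theorem ext_congr {f g : Ω → Ω} (h : Ext F U X f) (e : ∀ x ∈ U, f x = g x) : Ext F U X g :=
  let ⟨k, hk, hke⟩ := h
  ⟨k, hk, fun x hx => (hke x hx).trans (e x hx)⟩

theorem ext_comp (d : ExtData F p P U X) {f g : Ω → Ω} (hf : Ext F U X f) (hg : Ext F U X g)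
    (hfU : img f U = U) : Ext F U X (fun x => g (f x)) := by
  obtain ⟨k, hk, hke⟩ := hf
  obtain ⟨l, hl, hle⟩ := hg
  have hkU : img k U = U := (img_congr hke).trans hfU
  refine ⟨fun x => l (k x), hk.comp hl fun x hx => d.mem_M_of_map hk d.U_le_M hkU hx hx, fun x hx => ?_⟩
  show l (k x) = g (f x)
  have hkx : k x ∈ U := by rw [← hkU]; exact hk.mem_img hx
  rw [hle _ hkx, hke x hx]

theorem ext_inv (d : ExtData F p P U X) {f g : Ω → Ω} (hf : Ext F U X f) (hfU : img f U = U)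
    (hgf : ∀ x ∈ U, g (f x) = x) : Ext F U X g := by
  obtain ⟨k, hk, hke⟩ := hf
  have hkU : img k U = U := (img_congr hke).trans hfU
  obtain ⟨i, hi, hil, -⟩ := (show IsIso F (NK S U X) (NK S U X) k from ⟨hk, d.img_M hk hkU⟩).symm
  refine ⟨i, hi.1, fun y hy => ?_⟩
  obtain ⟨x, hx, rfl⟩ := (hk.mem_img_iff d.U_le_M).1 (hkU.symm ▸ hy : y ∈ img k U)
  rw [hil x (d.U_le_M hx), hke x hx, hgf x hx]

theorem ext_autInduced (d : ExtData F p P U X) {β : MulAut U} (hβ : β ∈ autInducedBy S U) :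
    Ext F U X (autFn β) := by
  obtain ⟨g, hg, he⟩ := mem_autInducedBy_iff.1 hβ
  exact ⟨fun x => g * x * g⁻¹, Fusion.IsMap.conj (NK_le S U X) hg, fun x hx =>
    (he ⟨x, hx⟩).symm.trans (autFn_apply β hx).symm⟩

theorem claim (d : ExtData F p P U X) {R : Subgroup Ω} {g : Ω → Ω} (hg : IsMap F R g) (hUR : U < R)
    (hR : R ≤ normalizerIn S U) (hgU : img g U = U) : Ext F U X g := by
  induction hn : Nat.card S - Nat.card R using Nat.strong_induction_on generalizing R g with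
  | _ n ih =>
  by_cases hMR : NK S U X ≤ R
  · exact ⟨g, hg.mono hMR, fun x _ => rfl⟩
  have hS := d.hyp.isPGroup
  have hRS : R ≤ S := hg.le
  have hRlt : R < normalizerIn S U :=
    lt_of_le_of_ne hR fun e => hMR (e ▸ NK_le_normalizerIn S U X)
  set R₁ := img g R
  have hR₁ : R₁ ≤ normalizerIn S U := img_le_normalizerIn hg hUR.le hR hgU
  have hcR : Nat.card R₁ = Nat.card R := hg.card_img le_rfl
  have hR₁lt : R₁ < normalizerIn S U := lt_of_le_of_ne hR₁ fun e => by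
    have h5 : Nat.card R < Nat.card (normalizerIn S U) := card_lt inf_le_left hRlt
    rw [← e, hcR] at h5
    exact lt_irrefl _ h5
  have hUR₁ : U < R₁ := hgU ▸ lt_img_of_lt hg hUR
  obtain ⟨R₀, hcR₀, hfar⟩ := d.hyp.big R hRS (ClassHyp.card_lt_of_lt d.univ.1 hRS hUR)
  obtain ⟨R', Q', a, ht, ha, haQ⟩ := exists_pair_target hS hUR.le hfar hcR₀
  obtain ⟨h₁, hh₁, hh₁R, hh₁Q, hh₁N⟩ := pair_extension hS ht ha hUR.le haQ hR
  obtain ⟨i, hi, hil, -⟩ := hg.isIso.symm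
  have hia : img (fun x => a (i x)) U = Q' := by
    rw [← haQ]
    refine IsIso.img_eq_of (hi.trans ha).1 hUR₁.le (fun y hy => ?_) fun z hz => ?_
    · rw [← hgU] at hy
      obtain ⟨x, hx, rfl⟩ := (hg.mem_img_iff hUR.le).1 hy
      rw [hil x (hUR.le hx)]
      exact ha.1.mem_img hx
    · obtain ⟨x, hx, rfl⟩ := (ha.1.mem_img_iff hUR.le).1 hz
      exact ⟨g x, hgU ▸ hg.mem_img hx, by rw [hil x (hUR.le hx)]⟩
  obtain ⟨h₂, hh₂, hh₂R, hh₂Q, hh₂N⟩ := pair_extension hS ht (hi.trans ha) hUR₁.le hia hR₁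
  have hQ'R' : Q' ≤ R' := ht.2.1
  have hR'S : R' ≤ S := ht.1.2.1
  have hn1 : R < NN S R U := lt_NN hS hRlt
  have hn2 : R₁ < NN S R₁ U := lt_NN hS hR₁lt
  have hUN1 : U ≤ NN S R U := (hUR.trans hn1).le
  have hUN2 : U ≤ NN S R₁ U := (hUR₁.trans hn2).le
  have hcQ' : F.IsConj P Q' := isConj_trans d.univ.1 (isConj_of_img hh₁ hUN1 hh₁Q)
  obtain ⟨w, hw, hwU⟩ := d.univ.2 Q' hcQ'
  have hQ'N : Q' ≤ normalizerIn S Q' := le_normalizerIn (hQ'R'.trans hR'S)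
  have hwmem : ∀ x ∈ Q', w x ∈ U := fun x hx => hwU ▸ hw.mem_img hx
  have hwN : ∀ y ∈ normalizerIn S Q', w y ∈ normalizerIn S U := fun y hy =>
    map_normalizerIn hw hQ'N hwU hy hy
  have hR'N : R' ≤ normalizerIn S Q' := hh₁R ▸ hh₁.img_le hn1.le fun x hx => (hh₁N x (hn1.le hx)).2
  -- the two extensions
  have hk₁ : IsMap F (NN S R U) (fun x => w (h₁ x)) := hh₁.comp hw fun x hx => (hh₁N x hx).2
  have hk₂ : IsMap F (NN S R₁ U) (fun x => w (h₂ x)) := hh₂.comp hw fun x hx => (hh₂N x hx).2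
  have hk₁U : img (fun x => w (h₁ x)) U = U := by
    rw [img_comp (hh₁.mono hUN1) (hw.mono (by rw [hh₁Q]; exact hQ'N)), hh₁Q, hwU]
  have hk₂U : img (fun x => w (h₂ x)) U = U := by
    rw [img_comp (hh₂.mono hUN2) (hw.mono (by rw [hh₂Q]; exact hQ'N)), hh₂Q, hwU]
  have hcard : Nat.card R < Nat.card S := card_lt le_rfl (hRlt.trans_le inf_le_left)
  have e₁ : Ext F U X (fun x => w (h₁ x)) := by
    have := card_lt (NN_le S R U) hn1
    exact ih _ (by omega) hk₁ (hUR.trans hn1) inf_le_right hk₁U rfl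
  have e₂ : Ext F U X (fun x => w (h₂ x)) := by
    have := card_lt (NN_le S R₁ U) hn2
    exact ih _ (by omega) hk₂ (hUR₁.trans hn2) inf_le_right hk₂U rfl
  -- the loop on the target
  obtain ⟨m, hm, hme⟩ := exists_comm (hh₁.mono hn1.le) hg
    (fun x hx => hn2.le (hg.mem_img hx)) hh₂
  rw [hh₁R] at hm
  have hmR : img m R' = R' := by
    refine IsIso.img_eq_of hm le_rfl (fun y hy => ?_) fun z hz => ?_
    · obtain ⟨x, hx, rfl⟩ := (hh₁.mem_img_iff hn1.le).1 (hh₁R.symm ▸ hy : y ∈ img h₁ R)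
      rw [hme x hx, ← hh₂R]
      exact hh₂.mem_img (hg.mem_img hx)
    · obtain ⟨y, hy, rfl⟩ := (hh₂.mem_img_iff hn2.le).1 (hh₂R.symm ▸ hz : z ∈ img h₂ R₁)
      obtain ⟨x, hx, rfl⟩ := (hg.mem_img_iff le_rfl).1 hy
      exact ⟨h₁ x, hh₁R ▸ hh₁.mem_img hx, hme x hx⟩
  obtain ⟨χ, hχ, hχe⟩ := exists_aut_of_isIso (show IsIso F R' R' m from ⟨hm, hmR⟩)
  have hχfn : ∀ x ∈ R, autFn χ (h₁ x) = h₂ (g x) := fun x hx => by
    rw [autFn_apply χ (show h₁ x ∈ R' from hh₁R ▸ hh₁.mem_img hx), hχe]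
    exact hme x hx
  have hχs : χ ∈ stab R' Q' := by
    intro z
    obtain ⟨x, hx, hxz⟩ := (hh₁.mem_img_iff hn1.le).1 (hh₁R.symm ▸ z.2 : (z : Ω) ∈ img h₁ R)
    rw [hχe, ← hxz, hme x hx]
    constructor
    · intro h
      rw [← hh₂Q, hh₂.mem_img_iff hUN2] at h
      obtain ⟨u, hu, hue⟩ := h
      rw [← hgU, hg.mem_img_iff hUR.le] at hu
      obtain ⟨u', hu', rfl⟩ := hu
      obtain rfl := hg.inj (hUR.le hu') hx (hh₂.inj (hn2.le (hg.mem_img (hUR.le hu')))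
        (hn2.le (hg.mem_img hx)) hue)
      exact hh₁Q ▸ hh₁.mem_img hu'
    · intro h
      rw [← hh₁Q, hh₁.mem_img_iff hUN1] at h
      obtain ⟨u, hu, hue⟩ := h
      obtain rfl := hh₁.inj (hUN1 hu) (hn1.le hx) hue
      exact hh₂Q ▸ hh₂.mem_img (hgU ▸ hg.mem_img hu)
  -- a witness outside `R'`
  obtain ⟨y, hyNN, hyM, hyR⟩ : ∃ y, y ∈ NN S R U ∧ y ∈ NK S U X ∧ y ∉ R := by
    have hnorm : R ≤ Subgroup.normalizer (NK S U X : Set Ω) :=
      Subgroup.le_normalizer_iff.2 fun r hr y hy => d.conj_mem_M (hR hr) hy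
    have hJS : R ⊔ NK S U X ≤ S := sup_le hRS (NK_le S U X)
    have hlt : R < R ⊔ NK S U X := lt_of_le_of_ne le_sup_left fun e => hMR (e ▸ le_sup_right)
    obtain ⟨z, hz, hzR⟩ := SetLike.exists_of_lt (lt_normalizerIn hS hJS hlt)
    have hz1 : z ∈ R ⊔ NK S U X := hz.1
    rw [← SetLike.mem_coe, Subgroup.coe_mul_of_left_le_normalizer_right R _ hnorm] at hz1
    obtain ⟨r, hr, y, hy, rfl⟩ := hz1
    refine ⟨y, ⟨⟨NK_le S U X hy, ?_⟩, NK_le_normalizerIn S U X hy⟩, hy, fun h => hzR (mul_mem hr h)⟩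
    have hrN : r ∈ Subgroup.normalizer (R : Set Ω) := Subgroup.le_normalizer hr
    simpa using mul_mem (Subgroup.inv_mem _ hrN) hz.2
  set y' := h₁ y
  have hy'N := hh₁N y hyNN
  have hy'R : y' ∉ R' := fun h => hyR (by
    rw [← hh₁R] at h
    obtain ⟨x, hx, e⟩ := (hh₁.mem_img_iff hn1.le).1 h
    exact hh₁.inj (hn1.le hx) hyNN e ▸ hx)
  have hwy' : w y' ∈ NK S U X := d.mem_M_of_map hk₁ hUN1 hk₁U hyNN hyM
  -- the groups of automorphisms of the target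
  set A := F.autGroup R' ⊓ stab R' Q'
  set B := autInducedBy S R' ⊓ stab R' Q'
  have := finite_mulAut hR'S
  set L := lift hQ'R' w hwmem X ⊓ A
  have hLn : ∀ b ∈ A, ∀ ψ ∈ L, b * ψ * b⁻¹ ∈ L := by
    rintro b hb ψ ⟨⟨hψs, β, hβ, hβe⟩, hψA⟩
    refine ⟨?_, mul_mem (mul_mem hb hψA) (Subgroup.inv_mem _ hb)⟩
    have hbm : IsMap F R' (autFn b) := (mem_autGroup_iff hR'S).1 hb.1
    obtain ⟨c, hc, hce⟩ := exists_comm (hw.mono hQ'N) (hbm.mono hQ'R')
      (fun x hx => stab_maps hb.2 hQ'R' hx) (hw.mono hQ'N)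
    rw [hwU] at hc
    have hcU : img c U = U := by
      refine IsIso.img_eq_of hc le_rfl (fun z hz => ?_) fun z hz => ?_
      · obtain ⟨x, hx, rfl⟩ := (hw.mem_img_iff hQ'N).1 (hwU.symm ▸ hz : z ∈ img w Q')
        rw [hce x hx]
        exact hwmem _ (stab_maps hb.2 hQ'R' hx)
      · obtain ⟨x, hx, rfl⟩ := (hw.mem_img_iff hQ'N).1 (hwU.symm ▸ hz : z ∈ img w Q')
        have hx' := stab_maps (inv_mem hb.2) hQ'R' hx
        exact ⟨w (autFn b⁻¹ x), hwmem _ hx', by rw [hce _ hx', autFn_self_inv b (hQ'R' hx)]⟩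
    obtain ⟨γ, hγ, hγe⟩ := exists_aut_of_isIso (show IsIso F U U c from ⟨hc, hcU⟩)
    refine mem_lift.2 ⟨mul_mem (mul_mem hb.2 hψs) (Subgroup.inv_mem _ hb.2),
      γ * β * γ⁻¹, d.normal γ hγ β hβ, fun x hx => ?_⟩
    have hx' := stab_maps (inv_mem hb.2) hQ'R' hx
    have hx'' := stab_maps hψs hQ'R' hx'
    rw [autFn_mul _ _ (hQ'R' hx), autFn_mul _ _ (hQ'R' hx'), ← hce _ hx'', hβe _ hx', ← hγe]
    have h3 : γ ⟨w (autFn b⁻¹ x), hwmem _ hx'⟩ = ⟨w x, hwmem x hx⟩ := by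
      refine Subtype.ext ((hγe _).trans ?_)
      show c (w (autFn b⁻¹ x)) = w x
      rw [hce _ hx', autFn_self_inv b (hQ'R' hx)]
    rw [MulAut.mul_apply, MulAut.mul_apply, ← h3, MulAut.inv_apply_self]
  have hBL : IsSylowIn p (B ⊓ L) L := ht.2.2.inf_normal inf_le_right hLn
  obtain ⟨l, hl, hlc⟩ := hBL.exists_conj_le (hBL.isPGroup.map (MulAut.conj χ).toMonoidHom)
    (by rintro _ ⟨b, hb, rfl⟩; exact hLn χ ⟨hχ, hχs⟩ b hb.2)
  set ν := l * χ with hν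
  have hνA : ν ∈ A := mul_mem hl.2 ⟨hχ, hχs⟩
  obtain ⟨ν', hν', hν'e⟩ := (isReceptive_iff.1 ht.1.2).2 R' (autFn ν) (isIso_autFn hR'S hνA.1)
  have hν'R' : R' ≤ Nx S R' (autFn ν) := le_Nx ((mem_autGroup_iff hR'S).1 hνA.1)
  have hy'Nx : y' ∈ Nx S R' (autFn ν) := by
    refine mem_Nx_of_aut hy'N.1 ?_
    have hb : normConj S R' ⟨y', hy'N.1⟩ ∈ B ⊓ L := by
      have hs : normConj S R' ⟨y', hy'N.1⟩ ∈ stab R' Q' := fun x => by
        rw [normConj_apply]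
        exact ⟨fun h => by simpa [y', mul_assoc] using normalizerIn_conj_inv hy'N.2 h,
          fun h => normalizerIn_conj hy'N.2 h⟩
      have hB' : normConj S R' ⟨y', hy'N.1⟩ ∈ autInducedBy S R' := range_normConj S R' ▸ ⟨_, rfl⟩
      obtain ⟨-, β, hβ, hβe⟩ := mem_NK.1 hwy'
      refine ⟨⟨hB', hs⟩, mem_lift.2 ⟨hs, β, hβ, fun x hx => ?_⟩,
        autInducedBy_le_autGroup F le_rfl hR'S hB', hs⟩
      rw [hβe, autFn_apply _ (hQ'R' hx), normConj_apply]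
      exact hw.map_conj hy'N.2 (hQ'N hx)
    have h2 : ν * normConj S R' ⟨y', hy'N.1⟩ * ν⁻¹ =
        l * (χ * normConj S R' ⟨y', hy'N.1⟩ * χ⁻¹) * l⁻¹ := by
      rw [hν]; group
    rw [h2]
    exact (hlc _ ⟨_, hb, rfl⟩).1.1
  set D := Nx S R' (autFn ν) ⊓ normalizerIn S Q'
  have hR'D : R' ≤ D := le_inf hν'R' hR'N
  have hR'Dlt : R' < D := lt_of_le_of_ne hR'D fun e => hy'R (e.symm ▸ ⟨hy'Nx, hy'N.2⟩)
  have hQ'D : Q' ≤ D := hQ'R'.trans hR'D
  have hν'D : IsMap F D ν' := hν'.mono inf_le_left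
  have hν'x : ∀ x ∈ Q', ν' x = autFn ν x := fun x hx => hν'e x (hQ'R' hx)
  have hν'Q : img ν' Q' = Q' := by
    rw [img_congr hν'x]
    exact stab_congr_img ((mem_autGroup_iff hR'S).1 hνA.1) hνA.2 hQ'R'
  obtain ⟨k, hk, hke⟩ := exists_comm (hw.mono inf_le_right) hν'D
    (fun x hx => map_normalizerIn hν'D hQ'D hν'Q hx hx.2) hw
  have hwD : IsMap F D w := hw.mono inf_le_right
  have hUimg : U < img w D := hwU ▸ lt_img_of_lt hwD (lt_of_le_of_lt hQ'R' hR'Dlt)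
  have hkU : img k U = U := by
    refine IsIso.img_eq_of hk hUimg.le (fun z hz => ?_) fun z hz => ?_
    · obtain ⟨x, hx, rfl⟩ := (hw.mem_img_iff hQ'N).1 (hwU.symm ▸ hz : z ∈ img w Q')
      rw [hke x (hQ'D hx), hν'x x hx]
      exact hwmem _ (stab_maps hνA.2 hQ'R' hx)
    · obtain ⟨x, hx, rfl⟩ := (hw.mem_img_iff hQ'N).1 (hwU.symm ▸ hz : z ∈ img w Q')
      have hx' := stab_maps (inv_mem hνA.2) hQ'R' hx
      exact ⟨w (autFn ν⁻¹ x), hwmem _ hx', by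
        rw [hke _ (hQ'D hx'), hν'x _ hx', autFn_self_inv ν (hQ'R' hx)]⟩
  have e₃ : Ext F U X k := by
    have h1 : Nat.card R' = Nat.card R := by rw [← hh₁R]; exact hh₁.card_img hn1.le
    have h2 : Nat.card R' < Nat.card D := card_lt (inf_le_right.trans inf_le_left) hR'Dlt
    have h3 : Nat.card (img w (Nx S R' (autFn ν) ⊓ normalizerIn S Q')) = Nat.card D := hwD.card_img (le_refl D)
    exact ih _ (by omega) hk hUimg (hwD.img_le le_rfl fun x hx => hwN x hx.2) hkU rfl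
  -- the correcting element
  obtain ⟨hls, β, hβ, hβe⟩ := hl.1
  have hβS : β ∈ autInducedBy S U := by
    rcases d.cases with hX | ⟨hXp, hcen⟩
    · exact hX hβ
    have hC : centralizerIn S Q' ≤ Q' :=
      hcen.2 Q' (isConj_trans (isConj_symm d.univ.1) hcQ')
    have hLp : IsPGroup p L := by
      rintro ⟨ψ, hψ⟩
      obtain ⟨⟨-, δ, hδ, hδe⟩, -⟩ := id hψ
      obtain ⟨i, hi'⟩ := hXp ⟨δ, hδ⟩
      have hδi : δ ^ p ^ i = 1 := congrArg Subtype.val hi'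
      obtain ⟨k0, hk0⟩ := IsPGroup.iff_card.1 hS
      have hψfix : ∀ (j : ℕ), ∀ x (hx : x ∈ Q'), autFn (ψ ^ j) x ∈ Q' ∧
          w (autFn (ψ ^ j) x) = ((δ ^ j) ⟨w x, hwmem x hx⟩ : U) := by
        intro j
        induction j with
        | zero => intro x hx; rw [pow_zero, autFn_apply _ (hQ'R' hx)]; exact ⟨hx, rfl⟩
        | succ j ihj =>
          intro x hx
          obtain ⟨h1, h2⟩ := ihj x hx
          rw [pow_succ', autFn_mul _ _ (hQ'R' hx), pow_succ' δ, MulAut.mul_apply]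
          refine ⟨stab_maps hψ.1.1 hQ'R' h1, ?_⟩
          rw [hδe _ h1]
          exact congrArg (fun z : U => ((δ z : U) : Ω)) (Subtype.ext h2)
      have hψ1 : ∀ x ∈ Q', autFn (ψ ^ p ^ i) x = x := by
        intro x hx
        obtain ⟨h1, h2⟩ := hψfix _ x hx
        rw [hδi] at h2
        exact hw.inj (hQ'N h1) (hQ'N hx) h2
      set φ := ψ ^ p ^ i with hφ
      refine ⟨i + k0, Subtype.ext ?_⟩
      show ψ ^ p ^ (i + k0) = 1
      rw [pow_add, pow_mul, ← hφ]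
      have hφR : IsMap F R' (autFn φ) := (mem_autGroup_iff hR'S).1 (pow_mem hψ.2.1 _)
      refine MulEquiv.ext fun r => ?_
      set z := (r : Ω)⁻¹ * autFn φ r with hz
      have hzS : z ∈ S := mul_mem (Subgroup.inv_mem _ (hR'S r.2)) (hR'S (autFn_mem φ r.2))
      have hzQ : z ∈ Q' := hC (mem_centralizerIn_of_conj hzS fun q hq => by
        have hrq : (r : Ω) * q * (r : Ω)⁻¹ ∈ Q' := normalizerIn_conj (hR'N r.2) hq
        have h4 := hφR.map_conj r.2 (hQ'R' hq)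
        rw [hψ1 _ hrq, hψ1 q hq] at h4
        calc z * q * z⁻¹ = (r : Ω)⁻¹ * (autFn φ r * q * (autFn φ r)⁻¹) * r := by rw [hz]; group
          _ = (r : Ω)⁻¹ * ((r : Ω) * q * (r : Ω)⁻¹) * r := by rw [← h4]
          _ = q := by group)
      have hpow : ∀ j : ℕ, autFn (φ ^ j) r = r * z ^ j := by
        intro j
        induction j with
        | zero => rw [pow_zero, autFn_apply _ r.2]; simp
        | succ j ihj =>
          have hzj : z ^ j ∈ Q' := pow_mem hzQ j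
          rw [pow_succ' φ, autFn_mul _ _ r.2, ihj, hφR.map_mul r.2 (hQ'R' hzj), hψ1 _ hzj, pow_succ',
            ← mul_assoc, hz, mul_inv_cancel_left]
      have hz1 : z ^ p ^ k0 = 1 := by
        have := congrArg Subtype.val (pow_card_eq_one' (x := (⟨z, hzS⟩ : S)))
        simpa [hk0] using this
      apply Subtype.ext
      rw [← autFn_apply (φ ^ p ^ k0) r.2, hpow, hz1, mul_one]
      rfl
    obtain ⟨b, hb, hbc⟩ := ht.2.2.exists_conj_le hLp inf_le_right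
    have hlB : l ∈ B := by
      have := hbc _ (hLn b⁻¹ (Subgroup.inv_mem _ hb) l hl)
      simp [mul_assoc] at this
      exact this
    obtain ⟨t, htS, hte⟩ := mem_autInducedBy_iff.1 hlB.1
    have := finite_of_le (S := S) (P := Q') (hQ'R'.trans hR'S)
    have htQ : t ∈ normalizerIn S Q' := mem_normalizerIn_of_conj htS fun x hx => by
      rw [← hte ⟨x, hQ'R' hx⟩]
      exact (hls _).2 hx
    refine mem_autInducedBy_iff.2 ⟨w t, hw.mem htQ, fun z => ?_⟩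
    obtain ⟨x, hx, hxz⟩ := (hw.mem_img_iff hQ'N).1 (hwU.symm ▸ z.2 : (z : Ω) ∈ img w Q')
    obtain rfl : (⟨w x, hwmem x hx⟩ : U) = z := Subtype.ext hxz
    rw [← hβe x hx, autFn_apply l (hQ'R' hx), hte]
    exact hw.map_conj htQ (hQ'N hx)
  have e₄ : Ext F U X (autFn β⁻¹) := d.ext_autInduced (Subgroup.inv_mem _ hβS)
  -- combine
  have hk₁mem : ∀ x ∈ U, h₁ x ∈ Q' := fun x hx => hh₁Q ▸ hh₁.mem_img hx
  obtain ⟨i₂, hi₂, hi₂l, -⟩ := (show IsIso F U U (fun x => w (h₂ x)) from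
    ⟨hk₂.mono hUN2, hk₂U⟩).symm
  have e₂' : Ext F U X i₂ := d.ext_inv e₂ hk₂U hi₂l
  have hβ1U : img (autFn β⁻¹) U = U :=
    (isIso_autFn d.U_le (d.le_aut (Subgroup.inv_mem _ hβ))).2
  refine ext_congr (d.ext_comp (d.ext_comp (d.ext_comp e₁ e₃ hk₁U) e₄ ?_) e₂' ?_) fun x hx => ?_
  · rw [img_comp (hk₁.mono hUN1) (by rw [hk₁U]; exact hk.mono hUimg.le), hk₁U, hkU]
  · have hm1 : IsMap F U (fun x => k (w (h₁ x))) :=
      (hk₁.mono hUN1).comp (hk.mono hUimg.le) fun z hz => hk₁U.le (hk₁.mem_img hz)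
    have h4 : img (fun x => k (w (h₁ x))) U = U := by
      rw [img_comp (hk₁.mono hUN1) (by rw [hk₁U]; exact hk.mono hUimg.le), hk₁U, hkU]
    rw [img_comp hm1 (by rw [h4]; exact (mem_autGroup_iff d.U_le).1 (d.le_aut (Subgroup.inv_mem _ hβ))),
      h4, hβ1U]
  · show i₂ (autFn β⁻¹ (k (w (h₁ x)))) = g x
    have hxQ := hk₁mem x hx
    have hgx : g x ∈ U := hgU ▸ hg.mem_img hx
    have hχx := stab_maps hχs hQ'R' hxQ
    rw [hke _ (hQ'D hxQ), hν'x _ hxQ, hν, autFn_mul _ _ (hQ'R' hxQ), hβe _ hχx,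
      ← autFn_apply β (hwmem _ hχx), ← autFn_mul _ _ (hwmem _ hχx), inv_mul_cancel,
      autFn_apply 1 (hwmem _ hχx), MulAut.one_apply]
    show i₂ (w (autFn χ (h₁ x))) = g x
    rw [hχfn x (hUR.le hx), hi₂l _ hgx]

theorem ext_of_chain (d : ExtData F p P U X) {Q : Subgroup Ω} {f : Ω → Ω} (hc : Chain F Q f) :
    ∀ (u v g : Ω → Ω), F.IsConj P Q → IsMap F (normalizerIn S Q) u → img u Q = U →
      IsMap F (normalizerIn S (img f Q)) v → img v (img f Q) = U →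
      (∀ x ∈ Q, g (u x) = v (f x)) → Ext F U X g := by
  induction hc with
  | @step Q R f hf hlt =>
    intro u v g hQ hu huU hv hvU he
    set D := normalizerIn R Q
    have hD : D ≤ normalizerIn S Q := inf_le_inf_right _ hf.le
    have hlt' : Q < D := lt_normalizerIn d.hyp.isPGroup hf.le hlt
    have hfD : IsMap F D f := hf.mono inf_le_left
    have hfDN : ∀ x ∈ D, f x ∈ normalizerIn S (img f Q) := fun x hx =>
      map_normalizerIn hfD hlt'.le rfl hx (hD hx)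
    have huD : IsMap F D u := hu.mono hD
    obtain ⟨m, hm, hme⟩ := exists_comm huD hfD hfDN hv
    have hmU : img m U = U := by
      refine IsIso.img_eq_of hm (huU ▸ (lt_img_of_lt huD hlt').le) (fun z hz => ?_) fun z hz => ?_
      · obtain ⟨x, hx, rfl⟩ := (huD.mem_img_iff hlt'.le).1 (huU.symm ▸ hz : z ∈ img u Q)
        rw [hme x (hlt'.le hx), ← hvU]
        exact hv.mem_img (hfD.mem_img hx)
      · obtain ⟨y, hy, rfl⟩ := (hv.mem_img_iff (le_normalizerIn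
          ((hfD.mono hlt'.le).img_le_S))).1 (hvU.symm ▸ hz : z ∈ img v (img f Q))
        obtain ⟨x, hx, rfl⟩ := (hfD.mem_img_iff hlt'.le).1 hy
        exact ⟨u x, huU ▸ huD.mem_img hx, hme x (hlt'.le hx)⟩
    refine ext_congr (d.claim hm (huU ▸ lt_img_of_lt huD hlt') (huD.img_le le_rfl fun x hx =>
      map_normalizerIn huD hlt'.le huU hx (hD hx)) hmU) fun z hz => ?_
    obtain ⟨x, hx, rfl⟩ := (huD.mem_img_iff hlt'.le).1 (huU.symm ▸ hz : z ∈ img u Q)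
    rw [hme x (hlt'.le hx), he x hx]
  | @comp Q f₁ f₂ h₁ h₂ ih₁ ih₂ =>
    intro u v g hQ hu huU hv hvU he
    have hf₁ := h₁.isMap
    have hf₂ := h₂.isMap
    rw [img_comp hf₁ hf₂] at hv hvU
    have hmid : F.IsConj P (img f₁ Q) := isConj_trans hQ (isConj_iff.2 ⟨f₁, hf₁.isIso⟩)
    obtain ⟨w, hw, hwU⟩ := d.univ.2 _ hmid
    have hQN := le_normalizerIn (ClassHyp.le_left hQ) (S := S) (P := Q)
    have hmN := le_normalizerIn (ClassHyp.le_left hmid) (S := S) (P := img f₁ Q)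
    obtain ⟨g₁, hg₁, hg₁e⟩ := exists_comm (hu.mono hQN) hf₁ (fun x hx => hf₁.mem_img hx) (hw.mono hmN)
    obtain ⟨g₂, hg₂, hg₂e⟩ := exists_comm (hw.mono hmN) hf₂
      (fun x hx => le_normalizerIn hf₂.img_le_S (hf₂.mem_img hx)) hv
    have hg₁U : img g₁ U = U := by
      rw [huU] at hg₁
      refine IsIso.img_eq_of hg₁ le_rfl (fun z hz => ?_) fun z hz => ?_
      · obtain ⟨x, hx, rfl⟩ := (hu.mem_img_iff hQN).1 (huU.symm ▸ hz : z ∈ img u Q)
        rw [hg₁e x hx, ← hwU]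
        exact hw.mem_img (hf₁.mem_img hx)
      · obtain ⟨y, hy, rfl⟩ := (hw.mem_img_iff hmN).1 (hwU.symm ▸ hz : z ∈ img w (img f₁ Q))
        obtain ⟨x, hx, rfl⟩ := (hf₁.mem_img_iff le_rfl).1 hy
        exact ⟨u x, huU ▸ hu.mem_img hx, hg₁e x hx⟩
    refine ext_congr (d.ext_comp (ih₁ u w g₁ hQ hu huU hw hwU hg₁e)
      (ih₂ w v g₂ hmid hw hwU hv hvU hg₂e) hg₁U) fun z hz => ?_
    obtain ⟨x, hx, rfl⟩ := (hu.mem_img_iff hQN).1 (huU.symm ▸ hz : z ∈ img u Q)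
    rw [hg₁e x hx, hg₂e _ (hf₁.mem_img hx), he x hx]
  | @congr Q f₁ f₂ _ e ih =>
    intro u v g hQ hu huU hv hvU he
    rw [← img_congr e] at hv hvU
    exact ih u v g hQ hu huU hv hvU fun x hx => by rw [he x hx, e x hx]

/-- Every automorphism of `U` extends to `N_S^X(U)`. -/
theorem ext_all (d : ExtData F p P U X) {g : Ω → Ω} (hg : IsIso F U U g) : Ext F U X g := by
  have hid : img (fun x : Ω => x) U = U := by rw [img, Set.image_id', Subgroup.closure_eq]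
  exact d.ext_of_chain (d.hyp.chain U g d.univ.1 hg.1) (fun x => x) (fun x => x) g d.univ.1
    (Fusion.IsMap.id inf_le_left) hid (Fusion.IsMap.id inf_le_left) (by rw [hg.2]; exact hid)
    fun _ _ => rfl

end ExtData

end Cfsg.Agent.FusionCrit
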