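import Cfsg.Agent.Lib.FusionCrit.Residual
import Cfsg.Agent.Lib.FusionNormal.Basic
import Cfsg.Agent.Lib.FusionChain.StronglyClosed

/-
The `p'`-residual of a weakly normal subsystem: extensions to `C_S(T)`.
Main results (namespace `Cfsg.Agent.FusionCrit`): `isCentric_transport`, `ppAut_le_extAut`, `good_of_gen`,
`exists_lift`, `gen_transport`, `resA_le_extAut`.
-/

set_option autoImplicit false

namespace Cfsg.Agent.FusionCrit

open Cfsg Cfsg.FusionSystem Cfsg.Agent.Fusion Cfsg.Agent.FusionChain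

variable {Ω : Type*} [Group Ω] {S T : Subgroup Ω} {F : FusionSystem S} {E : FusionSystem T} {p : ℕ}

theorem le_T_of_iso (hi : E.IsInvariantIn F) {P Q : Subgroup Ω} {f : Ω → Ω} (hP : P ≤ T)
    (hf : IsIso F P Q f) : Q ≤ T := fun y hy => by
  obtain ⟨x, hx, rfl⟩ := hf.exists_eq hy
  exact isMap_mem_of_stronglyClosed hi.2.1 hf.1 hx (hP hx)

/-- Centricity in an invariant subsystem is preserved by the maps of the big system. -/
theorem isCentric_transport (hi : E.IsInvariantIn F) {P Q : Subgroup Ω} {f : Ω → Ω}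
    (hc : E.IsCentric P) (hf : IsIso F P Q f) : E.IsCentric Q := by
  have hQT := le_T_of_iso hi hc.1 hf
  refine ⟨hQT, fun X hX c hcX => ?_⟩
  obtain ⟨e, he⟩ := isConj_iff.1 hX
  have hg := hf.trans (FusionNormal.isIso_of_sub hi.1 he)
  obtain ⟨α, hα, g₀, hg₀, hge⟩ := FusionNormal.frattini_map hi hc.1 hg.1
  have hb : IsMap F T (autFn α) := (mem_autGroup_iff hi.2.1.1).1 hα
  have hcT : c ∈ T := hcX.1
  set d := autFn α⁻¹ c with hd
  have hdT : d ∈ T := autFn_mem _ hcT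
  have hdC : d ∈ centralizerIn T (img g₀ P) := by
    refine mem_centralizerIn_of_conj hdT fun y hy => ?_
    obtain ⟨x, hx, rfl⟩ := (hg₀.mem_img_iff le_rfl).1 hy
    have hgx := hg₀.mem hx
    apply hb.inj (mul_mem (mul_mem hdT hgx) (inv_mem hdT)) hgx
    rw [hb.map_conj hdT hgx, autFn_self_inv α hcT, ← hge x hx]
    exact centralizerIn_conj hcX (hg.mem hx)
  obtain ⟨x, hx, hxd⟩ := (hg₀.mem_img_iff le_rfl).1
    (hc.2 _ (isConj_iff.2 ⟨g₀, hg₀.isIso⟩) hdC)
  have h1 := hge x hx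
  rw [hxd, autFn_self_inv α hcT] at h1
  exact h1 ▸ hg.mem hx

theorem congr_mem_ppAut_of_invariant (hi : E.IsInvariantIn F) {R R' : Subgroup Ω} {f : Ω → Ω}
    (hf : IsIso F R R' f) (hR : R ≤ T) {α : MulAut R} (hα : α ∈ ppAut E p R) :
    MulAut.congr hf.equiv α ∈ ppAut E p R' := by
  have h : (ppAut E p R).map (MulAut.congr hf.equiv).toMonoidHom ≤ ppAut E p R' := by
    rw [ppAut, MonoidHom.map_closure, Subgroup.closure_le]
    rintro _ ⟨β, ⟨hβ, k, hk⟩, rfl⟩
    exact Subgroup.subset_closure ⟨FusionNormal.congr_mem_autGroup hi hf hR hβ, k,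
      (MulEquiv.orderOf_eq (MulAut.congr hf.equiv) β).trans hk⟩
  exact h ⟨α, hα, rfl⟩

/-- The automorphisms of `R` extending to `R C_S(R)` moving `C_S(R)` only modulo `R`. -/
def extAut (F : FusionSystem S) {R : Subgroup Ω} (hR : R ≤ S) [Finite S] : Subgroup (MulAut R) where
  carrier := {α | ∃ h, IsMap F (R ⊔ centralizerIn S R) h ∧ (∀ x ∈ R, h x = autFn α x) ∧
    ∀ c ∈ centralizerIn S R, c⁻¹ * h c ∈ R}
  one_mem' := ⟨fun x => x, Fusion.IsMap.id (sup_le hR inf_le_left),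
    fun x hx => by rw [autFn_apply _ hx]; rfl, fun c _ => by simp⟩
  mul_mem' := by
    rintro a b ⟨h, hh, ha, hac⟩ ⟨k, hk, hb, hbc⟩
    have hmaps : ∀ x ∈ R ⊔ centralizerIn S R, k x ∈ R ⊔ centralizerIn S R := fun x hx =>
      hk.forall_mem_sup le_sup_left le_sup_right
        (fun y hy => Subgroup.mem_sup_left (hb y hy ▸ autFn_mem b hy))
        (fun y hy => by
          have := mul_mem (Subgroup.mem_sup_right hy : y ∈ R ⊔ centralizerIn S R)
            (Subgroup.mem_sup_left (hbc y hy))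
          simpa using this) hx
    refine ⟨fun x => h (k x), hk.comp hh hmaps, fun x hx => ?_, fun c hc => ?_⟩
    · show h (k x) = _
      rw [hb x hx, ha _ (autFn_mem b hx), autFn_mul _ _ hx]
    · have hr := hbc c hc
      show c⁻¹ * h (k c) ∈ R
      rw [show k c = c * (c⁻¹ * k c) by group,
        hh.map_mul (Subgroup.mem_sup_right hc) (Subgroup.mem_sup_left hr), ← mul_assoc, ha _ hr]
      exact mul_mem (hac c hc) (autFn_mem a hr)
  inv_mem' := by
    rintro a ⟨h, hh, ha, hac⟩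
    have hS' : R ⊔ centralizerIn S R ≤ S := sup_le hR inf_le_left
    have himg : img h (R ⊔ centralizerIn S R) = R ⊔ centralizerIn S R :=
      eq_of_le_of_card hS' (hh.img_le le_rfl fun x hx => hh.forall_mem_sup le_sup_left le_sup_right
        (fun y hy => Subgroup.mem_sup_left (ha y hy ▸ autFn_mem a hy))
        (fun y hy => by
          have := mul_mem (Subgroup.mem_sup_right hy : y ∈ R ⊔ centralizerIn S R)
            (Subgroup.mem_sup_left (hac y hy))
          simpa using this) hx) (hh.card_img le_rfl).ge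
    obtain ⟨i, hi, hil, -⟩ := (show IsIso F _ _ h from ⟨hh, himg⟩).symm
    have hie : ∀ x ∈ R, i x = autFn a⁻¹ x := fun x hx => by
      have h1 := hil _ (Subgroup.mem_sup_left (autFn_mem a⁻¹ hx) : autFn a⁻¹ x ∈ R ⊔ _)
      rwa [ha _ (autFn_mem a⁻¹ hx), autFn_self_inv a hx] at h1
    refine ⟨i, hi.1, hie, fun c hc => ?_⟩
    have hr := hac c hc
    have h1 := hil c (Subgroup.mem_sup_right hc)
    rw [show h c = c * (c⁻¹ * h c) by group,
      hi.1.map_mul (Subgroup.mem_sup_right hc) (Subgroup.mem_sup_left hr), hie _ hr] at h1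
    have h2 : i c = c * (autFn a⁻¹ (c⁻¹ * h c))⁻¹ := eq_mul_inv_of_mul_eq h1
    rw [h2, inv_mul_cancel_left]
    exact inv_mem (autFn_mem _ hr)

variable [Finite S] [Fact p.Prime]

theorem fullyNormalized_of_invariant (hi : E.IsInvariantIn F) {R : Subgroup Ω} (hR : R ≤ T)
    (hn : F.IsFullyNormalized R) (hS : IsPGroup p S) (hF : F.IsSaturated p) :
    E.IsFullyNormalized R := by
  refine ⟨hR, fun X hX => ?_⟩
  obtain ⟨e, he⟩ := isConj_iff.1 hX
  have hXR : F.IsConj X R := isConj_symm (isConj_iff.2 ⟨e, FusionNormal.isIso_of_sub hi.1 he⟩)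
  obtain ⟨f, hf, hfX, -⟩ := exists_normalizer_map hS (fullyAutomized_of_fullyNormalized hS hF hn)
    (receptive_of_fullyNormalized hS hF hn) hXR
  have hle : normalizerIn T X ≤ normalizerIn S X := inf_le_inf_right _ hi.2.1.1
  rw [← hf.card_img hle]
  have := finite_of_le (S := S) (P := normalizerIn T R) (inf_le_left.trans hi.2.1.1)
  refine Subgroup.card_le_of_le (hf.img_le hle fun y hy => ?_)
  exact ⟨isMap_mem_of_stronglyClosed hi.2.1 hf (hle hy) hy.1,
    (map_normalizerIn hf (le_normalizerIn (isConj_le hXR).1) hfX (hle hy) (hle hy)).2⟩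

/-- Elements of `O^{p'}(Aut_E(R))` extend to `R C_S(R)`, moving `C_S(R)` only modulo `R`. -/
theorem ppAut_le_extAut (hS : IsPGroup p S) (hE : E.IsWeaklyNormalIn F p) {R : Subgroup Ω}
    (hc : E.IsCentric R) (hRS : R ≤ S) : ppAut E p R ≤ extAut F hRS := by
  obtain ⟨hEs, hF, hi⟩ := hE
  have hTS : T ≤ S := hi.2.1.1
  have : Finite T := finite_of_le hTS
  obtain ⟨R₀, f, hR₀, hf, hfR, -⟩ := exists_fullyNormalized_map hS hF hRS
  have hiso : IsIso F R R₀ f := ⟨hf.mono (le_normalizerIn hRS), hfR⟩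
  have hc₀ := isCentric_transport hi hc hiso
  have hR₀T : R₀ ≤ T := hc₀.1
  have := finite_mulAut hR₀.1
  have hC₀T : centralizerIn T R₀ ≤ R₀ := hc₀.2 R₀ (isConj_refl E hR₀T)
  have hbase : ppAut E p R₀ ≤ extAut F hR₀.1 := by
    rw [ppAut, Subgroup.closure_le]
    rintro α ⟨hα, k, hk⟩
    have hA := fullyAutomized_of_fullyNormalized (hS.to_le hTS) hEs
      (fullyNormalized_of_invariant hi hR₀T hR₀ hS hF)
    have hp : IsPGroup p (Subgroup.zpowers α) :=
      IsPGroup.of_card (n := k) ((Nat.card_zpowers α).trans hk)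
    obtain ⟨a, ha, hac⟩ := (isFullyAutomized_iff.1 hA).2.exists_conj_le hp (Subgroup.zpowers_le.2 hα)
    obtain ⟨t, ht, hte⟩ := mem_autInducedBy_iff.1 (hac _ (Subgroup.mem_zpowers α))
    have haF : a ∈ F.autGroup R₀ := FusionNormal.autGroup_le_of_sub hi.1 hR₀T ha
    obtain ⟨g, hg, hga⟩ := exists_extension (receptive_of_fullyNormalized hS hF hR₀) haF
      (centralizerIn_le_normalizerIn S R₀) fun c hc' => by
        have : normConj S R₀ ⟨c, centralizerIn_le_normalizerIn S R₀ hc'⟩ = 1 :=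
          (normConj_eq_one_iff _).2 hc'
        rw [this, mul_one, mul_inv_cancel]
        exact Subgroup.one_mem _
    set D := R₀ ⊔ centralizerIn S R₀ with hD
    have hDS : D ≤ S := sup_le hR₀.1 inf_le_left
    have hgR : img g R₀ = R₀ := by
      rw [img_congr hga]
      exact (isIso_autFn hR₀.1 haF).2
    have hgC : ∀ c ∈ centralizerIn S R₀, g c ∈ centralizerIn S R₀ := fun c hc' =>
      map_centralizerIn hg le_sup_left hgR (Subgroup.mem_sup_right hc') hc'
    have htN : t ∈ normalizerIn S R₀ :=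
      mem_normalizerIn_of_aut (α := a * α * a⁻¹) (hTS ht) hte
    have htC : ∀ c ∈ centralizerIn S R₀, c⁻¹ * (t * c * t⁻¹) ∈ R₀ := fun c hc' => by
      refine hC₀T (mem_centralizerIn_of_conj ?_ fun x hx => ?_)
      · have h1 := conj_mem_of_stronglyClosed hi.2.1 (inv_mem hc'.1) ht
        rw [inv_inv] at h1
        have h2 := mul_mem h1 (inv_mem ht)
        simpa [mul_assoc] using h2
      · have h1 := centralizerIn_conj hc' (normalizerIn_conj_inv htN hx)
        calc c⁻¹ * (t * c * t⁻¹) * x * (c⁻¹ * (t * c * t⁻¹))⁻¹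
            = c⁻¹ * (t * (c * (t⁻¹ * x * t) * c⁻¹) * t⁻¹) * c := by group
          _ = c⁻¹ * x * c := by rw [h1]; group
          _ = x := by
            have h2 := centralizerIn_conj (inv_mem hc') hx
            rwa [inv_inv] at h2
    have hgD : img g D = D :=
      eq_of_le_of_card hDS (hg.img_le le_rfl fun x hx => hg.forall_mem_sup le_sup_left le_sup_right
        (fun y hy => Subgroup.mem_sup_left (hga y hy ▸ autFn_mem a hy))
        (fun y hy => Subgroup.mem_sup_right (hgC y hy)) hx) (hg.card_img le_rfl).ge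
    obtain ⟨i, hi', hil, -⟩ := (show IsIso F D D g from ⟨hg, hgD⟩).symm
    have hct : IsMap F D (fun x => t * x * t⁻¹) := Fusion.IsMap.conj hDS (hTS ht)
    have hctD : ∀ x ∈ D, t * x * t⁻¹ ∈ D := fun x hx =>
      hct.forall_mem_sup le_sup_left le_sup_right
        (fun y hy => Subgroup.mem_sup_left (normalizerIn_conj htN hy))
        (fun y hy => by
          have := mul_mem (Subgroup.mem_sup_right hy : y ∈ D) (Subgroup.mem_sup_left (htC y hy))
          simpa [mul_assoc] using this) hx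
    have hgm : ∀ x ∈ D, g x ∈ D := fun x hx => hgD ▸ hg.mem_img hx
    refine ⟨fun x => i (t * g x * t⁻¹), (hg.comp hct hgm).comp hi'.1 fun x hx => hctD _ (hgm x hx),
      fun x hx => ?_, fun c hc' => ?_⟩
    · show i (t * g x * t⁻¹) = _
      have h1 := hte (a ⟨x, hx⟩)
      rw [MulAut.mul_apply, MulAut.mul_apply, MulAut.inv_apply_self] at h1
      rw [hga x hx, autFn_apply a hx, ← h1, autFn_apply α hx, ← autFn_apply a (α ⟨x, hx⟩).2,
        ← hga _ (α ⟨x, hx⟩).2]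
      exact hil _ (Subgroup.mem_sup_left (α ⟨x, hx⟩).2)
    · show c⁻¹ * i (t * g c * t⁻¹) ∈ R₀
      have hr := htC _ (hgC c hc')
      rw [show t * g c * t⁻¹ = g c * ((g c)⁻¹ * (t * g c * t⁻¹)) by group,
        hi'.1.map_mul (hgm c (Subgroup.mem_sup_right hc')) (Subgroup.mem_sup_left hr),
        hil c (Subgroup.mem_sup_right hc'), inv_mul_cancel_left]
      obtain ⟨r', hr', hre⟩ := (hg.mem_img_iff le_sup_left).1 (hgR.symm ▸ hr : _ ∈ img g R₀)
      rw [← hre, hil r' (Subgroup.mem_sup_left hr')]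
      exact hr'
  intro α hα
  obtain ⟨h₀, hh₀, h₀e, h₀c⟩ := hbase (congr_mem_ppAut_of_invariant hi hiso hc.1 hα)
  set D := R ⊔ centralizerIn S R with hD
  have hDN : D ≤ normalizerIn S R := sup_le (le_normalizerIn hRS) (centralizerIn_le_normalizerIn S R)
  have hfD : IsMap F D f := hf.mono hDN
  have hfm : ∀ x ∈ D, f x ∈ R₀ ⊔ centralizerIn S R₀ := fun x hx =>
    hfD.forall_mem_sup le_sup_left le_sup_right (fun y hy => Subgroup.mem_sup_left (hiso.mem hy))
      (fun y hy => Subgroup.mem_sup_right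
        (map_centralizerIn hfD le_sup_left hfR (Subgroup.mem_sup_right hy) hy)) hx
  obtain ⟨i, hi', hil, -⟩ := hfD.isIso.symm
  have hfh : IsMap F D (fun x => h₀ (f x)) := hfD.comp hh₀ hfm
  have hinR : R₀ ≤ img f D := hfR ▸ hfD.img_le le_sup_left fun x hx => hfD.mem_img
    (Subgroup.mem_sup_left hx : x ∈ D)
  have hinC : ∀ y ∈ centralizerIn S R, h₀ (f y) ∈ img f D := fun y hy => by
    have h1 := h₀c _ (map_centralizerIn hfD le_sup_left hfR (Subgroup.mem_sup_right hy) hy)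
    have := mul_mem (hfD.mem_img (Subgroup.mem_sup_right hy : y ∈ D)) (hinR h1)
    simpa using this
  have hmaps : ∀ x ∈ D, h₀ (f x) ∈ img f D := fun x hx =>
    hfh.forall_mem_sup le_sup_left le_sup_right (fun y hy => by
      show h₀ (f y) ∈ img f D
      rw [h₀e _ (hiso.mem hy)]
      exact hinR (autFn_mem _ (hiso.mem hy))) hinC hx
  refine ⟨fun x => i (h₀ (f x)), hfh.comp hi'.1 hmaps, fun x hx => ?_, fun c hc' => ?_⟩
  · show i (h₀ (f x)) = _
    rw [h₀e _ (hiso.mem hx), autFn_apply _ (hiso.mem hx)]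
    show i ((MulAut.congr hiso.equiv α (hiso.equiv ⟨x, hx⟩) : R₀) : Ω) = _
    rw [congr_apply_coe, autFn_apply α hx]
    exact hil _ (Subgroup.mem_sup_left (α ⟨x, hx⟩).2)
  · have hfc := map_centralizerIn hfD le_sup_left hfR (Subgroup.mem_sup_right hc') hc'
    have h1 := h₀c _ hfc
    show c⁻¹ * i (h₀ (f c)) ∈ R
    rw [show h₀ (f c) = f c * ((f c)⁻¹ * h₀ (f c)) by group,
      hi'.1.map_mul (hfD.mem_img (Subgroup.mem_sup_right hc' : c ∈ D)) (hinR h1),
      hil c (Subgroup.mem_sup_right hc'), inv_mul_cancel_left]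
    obtain ⟨r', hr', hre⟩ := hiso.exists_eq h1
    rw [← hre, hil r' (Subgroup.mem_sup_left hr')]
    exact hr'

/-- A map on `P` extending to `P C_S(T)`, moving `C_S(T)` only modulo `T`. -/
def Good (F : FusionSystem S) (T P : Subgroup Ω) (g : Ω → Ω) : Prop :=
  ∃ h, IsMap F (P ⊔ centralizerIn S T) h ∧ (∀ x ∈ P, h x = g x) ∧
    ∀ c ∈ centralizerIn S T, c⁻¹ * h c ∈ T

theorem good_of_gen (hS : IsPGroup p S) (hE : E.IsWeaklyNormalIn F p) {Q : Subgroup Ω} {g : Ω → Ω}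
    (hg : Gen E p Q g) : E.IsCentric Q → Good F T Q g := by
  have hi := hE.2.2
  have hTS : T ≤ S := hi.2.1.1
  induction hg with
  | @aut R Q α hR hα hQ =>
    intro _
    obtain ⟨h, hh, he, hc⟩ := ppAut_le_extAut hS hE hR (hR.1.trans hTS) hα
    have hCle : centralizerIn S T ≤ centralizerIn S R := fun c hc' =>
      mem_centralizerIn.2 ⟨hc'.1, fun x hx => (mem_centralizerIn.1 hc').2 x (hR.1 hx)⟩
    exact ⟨h, hh.mono (sup_le_sup hQ hCle), fun x hx => he x (hQ hx),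
      fun c hc' => hR.1 (hc c (hCle hc'))⟩
  | @conj Q t hQ ht =>
    intro _
    refine ⟨fun x => t * x * t⁻¹,
      Fusion.IsMap.conj (sup_le (hQ.trans hTS) inf_le_left) (hTS ht), fun _ _ => rfl, fun c hc => ?_⟩
    show c⁻¹ * (t * c * t⁻¹) ∈ T
    rw [show t * c * t⁻¹ = c by rw [← (mem_centralizerIn.1 hc).2 t ht, mul_inv_cancel_right],
      inv_mul_cancel]
    exact one_mem _
  | @comp Q f g hf hg ih₁ ih₂ =>
    intro hQ
    obtain ⟨h₁, hh₁, he₁, hc₁⟩ := ih₁ hQ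
    have hcent : E.IsCentric (img f Q) :=
      isCentric_of_isConj hQ (isConj_iff.2 ⟨f, hf.isMap.isIso⟩)
    obtain ⟨h₂, hh₂, he₂, hc₂⟩ := ih₂ hcent
    have hfQT : img f Q ≤ T := hcent.1
    have hCQ : ∀ c ∈ centralizerIn S T, c⁻¹ * h₁ c ∈ img f Q := by
      intro c hc
      refine hcent.2 _ (isConj_refl E hfQT) (mem_centralizerIn_of_conj (hc₁ c hc) fun y hy => ?_)
      obtain ⟨x, hx, rfl⟩ := (hf.isMap.mem_img_iff le_rfl).1 hy
      have hxc : c * x * c⁻¹ = x := centralizerIn_conj hc (hQ.1 hx)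
      have h3 := hh₁.map_conj (Subgroup.mem_sup_right hc : c ∈ Q ⊔ centralizerIn S T)
        (Subgroup.mem_sup_left hx)
      rw [hxc, he₁ x hx] at h3
      calc c⁻¹ * h₁ c * f x * (c⁻¹ * h₁ c)⁻¹
          = c⁻¹ * (h₁ c * f x * (h₁ c)⁻¹) * c := by group
        _ = c⁻¹ * f x * c := by rw [← h3]
        _ = f x := by
          have h4 := centralizerIn_conj (inv_mem hc) (hfQT (hf.isMap.mem_img hx) : f x ∈ T)
          rwa [inv_inv] at h4
    have hmaps : ∀ x ∈ Q ⊔ centralizerIn S T, h₁ x ∈ img f Q ⊔ centralizerIn S T := fun x hx =>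
      hh₁.forall_mem_sup le_sup_left le_sup_right
        (fun y hy => Subgroup.mem_sup_left (he₁ y hy ▸ hf.isMap.mem_img hy))
        (fun y hy => by
          have := mul_mem (Subgroup.mem_sup_right hy : y ∈ img f Q ⊔ centralizerIn S T)
            (Subgroup.mem_sup_left (hCQ y hy))
          simpa using this) hx
    refine ⟨fun x => h₂ (h₁ x), hh₁.comp hh₂ hmaps, fun x hx => ?_, fun c hc => ?_⟩
    · show h₂ (h₁ x) = g (f x)
      rw [he₁ x hx, he₂ _ (hf.isMap.mem_img hx)]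
    · show c⁻¹ * h₂ (h₁ c) ∈ T
      rw [show h₁ c = c * (c⁻¹ * h₁ c) by group,
        hh₂.map_mul (Subgroup.mem_sup_right hc) (Subgroup.mem_sup_left (hCQ c hc)), ← mul_assoc,
        he₂ _ (hCQ c hc)]
      exact mul_mem (hc₂ c hc) (hg.isMap.mem (hCQ c hc))
  | @congr Q f g _ e ih =>
    intro hQ
    obtain ⟨h, hh, he, hc⟩ := ih hQ
    exact ⟨h, hh, fun x hx => (he x hx).trans (e x hx), hc⟩

/-- Automorphisms of `R` trivial on `R/Q`. -/
def modSub (R Q : Subgroup Ω) : Subgroup (MulAut R) where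
  carrier := {ψ | ψ ∈ stab R Q ∧ ∀ x : R, ((x⁻¹ * ψ x : R) : Ω) ∈ Q}
  one_mem' := ⟨one_mem _, fun x => by simp⟩
  mul_mem' := by
    rintro a b ⟨ha, ha'⟩ ⟨hb, hb'⟩
    refine ⟨mul_mem ha hb, fun x => ?_⟩
    have h : x⁻¹ * (a * b) x = x⁻¹ * b x * ((b x)⁻¹ * a (b x)) := by
      rw [MulAut.mul_apply]; group
    rw [h, Subgroup.coe_mul]
    exact mul_mem (hb' x) (ha' (b x))
  inv_mem' := by
    rintro a ⟨ha, ha'⟩
    refine ⟨inv_mem ha, fun x => ?_⟩
    have h := ha' (a⁻¹ x)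
    rw [MulAut.apply_inv_self] at h
    have h2 : x⁻¹ * a⁻¹ x = ((a⁻¹ x)⁻¹ * x)⁻¹ := by group
    rw [h2, Subgroup.coe_inv]
    exact inv_mem h

theorem conj_mem_modSub {R Q : Subgroup Ω} {a b : MulAut R} (ha : a ∈ stab R Q)
    (hb : b ∈ modSub R Q) : a * b * a⁻¹ ∈ modSub R Q := by
  refine ⟨mul_mem (mul_mem ha hb.1) (inv_mem ha), fun x => ?_⟩
  obtain ⟨y, rfl⟩ := a.surjective x
  rw [MulAut.mul_apply, MulAut.mul_apply, MulAut.inv_apply_self, ← map_inv, ← map_mul]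
  exact (ha _).2 (hb.2 y)

omit [Finite S] in
theorem mem_sup_centralizer {P : Subgroup Ω} (hP : P ≤ T) {d : Ω}
    (hd : d ∈ P ⊔ centralizerIn S T) : ∃ x ∈ P, ∃ c ∈ centralizerIn S T, d = x * c := by
  have hn : centralizerIn S T ≤ Subgroup.normalizer (P : Set Ω) := fun c hc =>
    Subgroup.mem_normalizer_iff.2 fun x => by
      constructor
      · intro hx
        rwa [centralizerIn_conj hc (hP hx)]
      · intro hx
        have h1 := centralizerIn_conj (inv_mem hc) (hP hx)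
        have h2 : x = c * x * c⁻¹ := by simpa [mul_assoc] using h1
        rwa [h2]
  rw [← SetLike.mem_coe, Subgroup.coe_mul_of_right_le_normalizer_left P _ hn] at hd
  obtain ⟨x, hx, c, hc, rfl⟩ := hd
  exact ⟨x, hx, c, hc, rfl⟩

omit [Fact p.Prime] in
theorem autFn_pow_fix {R : Subgroup Ω} (ν : MulAut R) {x z : Ω} (hx : x ∈ R) (hz : z ∈ R)
    (he : autFn ν x = x * z) (hfz : autFn ν z = z) (j : ℕ) : autFn (ν ^ j) x = x * z ^ j := by
  induction j with
  | zero => rw [pow_zero, autFn_apply _ hx]; simp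
  | succ j ih =>
    rw [pow_succ, autFn_mul _ _ hx, he]
    have h1 : autFn (ν ^ j) (x * z) = autFn (ν ^ j) x * autFn (ν ^ j) z := by
      rw [autFn_apply _ (mul_mem hx hz), autFn_apply _ hx, autFn_apply _ hz, ← Subgroup.coe_mul,
        ← map_mul]
      rfl
    have h2 : ∀ k : ℕ, autFn (ν ^ k) z = z := by
      intro k
      induction k with
      | zero => rw [pow_zero, autFn_apply _ hz]; rfl
      | succ k ihk => rw [pow_succ, autFn_mul _ _ hz, hfz, ihk]
    rw [h1, ih, h2, pow_succ, mul_assoc]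

/-- The lifting step, with the centralizer abbreviated. -/
theorem exists_lift_step_aux (hS : IsPGroup p S) (hF : F.IsSaturated p) (hi : E.IsInvariantIn F)
    {P : Subgroup Ω} (hc : E.IsCentric P) {C D N : Subgroup Ω} (hC : C = centralizerIn S T)
    (hD : D = P ⊔ C) (hN : N = normalizerIn T P) {δ : MulAut D}
    (hδ : δ ∈ F.autGroup D) (hfix : ∀ x ∈ P, autFn δ x = x) (hord : (orderOf δ).Coprime p) :
    ∃ ν ∈ F.autGroup (N ⊔ C),
      (∀ x ∈ N, autFn ν x = x) ∧ (∀ x ∈ D, autFn ν x = autFn δ x) ∧ (orderOf ν).Coprime p := by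
  have hTS : T ≤ S := hi.2.1.1
  have hPT : P ≤ T := hc.1
  have hPD : P ≤ D := hD ▸ le_sup_left
  have hCD : C ≤ D := hD ▸ le_sup_right
  have hNT : N ≤ T := hN ▸ inf_le_left
  have hPN : P ≤ N := hN ▸ le_normalizerIn hPT
  have hDS : D ≤ S := hD ▸ sup_le (hPT.trans hTS) (hC ▸ inf_le_left)
  have := finite_of_le hDS
  have := finite_mulAut hDS
  have hCT : ∀ c ∈ C, c ∈ S ∧ ∀ x ∈ T, c * x = x * c := fun c hc' =>
    mem_centralizerIn.1 (hC ▸ hc' : c ∈ centralizerIn S T)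
  have hDN : D ≤ normalizerIn S P := hD ▸ sup_le (le_normalizerIn (hPT.trans hTS)) fun c hc' =>
    centralizerIn_le_normalizerIn S P
      (mem_centralizerIn.2 ⟨(hCT c hc').1, fun x hx => (hCT c hc').2 x (hPT hx)⟩)
  have hnC : ∀ n ∈ T, ∀ c ∈ C, n * c * n⁻¹ = c := fun n hn c hc' => by
    rw [← (hCT c hc').2 n hn, mul_inv_cancel_right]
  set M := N ⊔ C with hM
  have hMS : M ≤ S := sup_le (hNT.trans hTS) (hC ▸ inf_le_left)
  have hNN : N ≤ NN S D P := fun n hn => by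
    have hnT : n ∈ T := hNT hn
    have hnN : n ∈ normalizerIn T P := hN ▸ hn
    refine ⟨mem_normalizerIn_of_conj (hTS hnT) fun x hx => ?_, hTS hnT, hnN.2⟩
    exact (Fusion.IsMap.conj (F := F) hDS (hTS hnT)).forall_mem_sup hPD hCD
      (fun y hy => hPD (normalizerIn_conj hnN hy))
      (fun y hy => hCD (show n * y * n⁻¹ ∈ C by rw [hnC n hnT y hy]; exact hy)) (hD ▸ hx)
  have hMNN : M ≤ NN S D P := sup_le hNN (hCD.trans (le_NN hDN))
  have hDM : D ≤ M := hD ▸ sup_le (hPN.trans le_sup_left) le_sup_right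
  obtain ⟨R₀, hc₀, hA₀, hr₀⟩ := hF D hDS
  obtain ⟨D', P', a, ht, ha, haP⟩ := exists_pair_target hS hPD ⟨hA₀, hr₀⟩ hc₀
  obtain ⟨f, hf, hfD, hfP, hfN⟩ := pair_extension hS ht ha hPD haP hDN
  have hfM : IsMap F M f := hf.mono hMNN
  have hiD : IsIso F D D' f := ⟨hfM.mono hDM, hfD⟩
  have hiP : IsIso F P P' f := ⟨hfM.mono (hPD.trans hDM), hfP⟩
  have hcP' : E.IsCentric P' := isCentric_transport hi hc hiP
  have hD'S : D' ≤ S := ht.1.2.1
  have hP'D : P' ≤ D' := ht.2.1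
  have := finite_mulAut hD'S
  set δ' := MulAut.congr hiD.equiv δ with hδ'
  have hδ'A : δ' ∈ F.autGroup D' := congr_mem_autGroup hiD hδ
  have hδ'fix : δ' ∈ fixer D' P' := fun y hy => by
    obtain ⟨x, rfl⟩ := hiD.equiv.surjective y
    rw [← hfP, IsIso.equiv_apply, hfM.mem_img_iff (hPD.trans hDM)] at hy
    obtain ⟨v, hv, hve⟩ := hy
    have hxv : v = (x : Ω) := hfM.inj (hDM (hPD hv)) (hDM x.2) hve
    subst hxv
    refine Subtype.ext ?_
    rw [hδ', congr_apply_coe, IsIso.equiv_apply, ← autFn_apply δ x.2, hfix _ hv]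
  have hδ's : δ' ∈ stab D' P' := fun y => ⟨fun h => by
      have h2 := (inv_mem hδ'fix : _ ∈ fixer D' P') _ h
      rw [MulAut.inv_apply_self] at h2
      exact h2 ▸ h, fun h => by rw [hδ'fix y h]; exact h⟩
  set A := F.autGroup D' ⊓ stab D' P' with hA
  set U := A ⊓ fixer D' P' ⊓ modSub D' P' with hU
  have hUn : ∀ b ∈ A, ∀ ψ ∈ U, b * ψ * b⁻¹ ∈ U := by
    rintro b hb ψ ⟨⟨hψA, hψ⟩, hψm⟩
    refine ⟨⟨mul_mem (mul_mem hb hψA) (Subgroup.inv_mem _ hb), fun x hx => ?_⟩,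
      conj_mem_modSub hb.2 hψm⟩
    rw [MulAut.mul_apply, MulAut.mul_apply, hψ _ (((inv_mem hb.2 : _ ∈ stab D' P') x).2 hx),
      MulAut.apply_inv_self]
  obtain ⟨k0, hk0⟩ := IsPGroup.iff_card.1 hS
  have hz1 : ∀ z ∈ S, z ^ p ^ k0 = 1 := fun z hz => by
    have := congrArg Subtype.val (pow_card_eq_one' (x := (⟨z, hz⟩ : S)))
    simpa [hk0] using this
  have hUp : IsPGroup p U := by
    rintro ⟨ψ, ⟨-, hψ⟩, hψm⟩
    refine ⟨k0, Subtype.ext (MulEquiv.ext fun r => ?_)⟩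
    show (ψ ^ p ^ k0) r = r
    have h1 : autFn ψ r = (r : Ω) * ((r⁻¹ * ψ r : D') : Ω) := by
      rw [autFn_apply ψ r.2]; simp
    have h2 : autFn ψ ((r⁻¹ * ψ r : D') : Ω) = ((r⁻¹ * ψ r : D') : Ω) := by
      rw [autFn_apply ψ (r⁻¹ * ψ r).2]
      exact congrArg Subtype.val (hψ (r⁻¹ * ψ r) (hψm.2 r))
    apply Subtype.ext
    rw [← autFn_apply (ψ ^ p ^ k0) r.2, autFn_pow_fix ψ r.2 (r⁻¹ * ψ r).2 h1 h2,
      hz1 _ (hD'S (r⁻¹ * ψ r).2), mul_one]
  obtain ⟨b, hb, hbc⟩ := ht.2.2.exists_conj_le hUp (inf_le_left.trans inf_le_left)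
  have hUB : ∀ ψ ∈ U, ψ ∈ autInducedBy S D' := fun ψ hψ => by
    have h1 := hbc _ (hUn b⁻¹ (Subgroup.inv_mem _ hb) ψ hψ)
    simp [mul_assoc] at h1
    exact h1.1
  set N' := img f N with hN'
  have hNM : N ≤ M := le_sup_left
  have hN'N : N' ≤ normalizerIn S D' := hfM.img_le hNM fun y hy => (hfN y (hNN hy)).1
  obtain ⟨η, hη, hηe⟩ := exists_extension ht.1.2 hδ'A hN'N fun m hm => by
    obtain ⟨n, hn, hne⟩ := (hfM.mem_img_iff hNM).1 hm
    have hnN : n ∈ normalizerIn T P := hN ▸ hn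
    have hmP : m ∈ normalizerIn S P' := hne ▸ (hfN n (hNN hn)).2
    set c := normConj S D' ⟨m, hN'N hm⟩ with hcdef
    have hcB : c ∈ autInducedBy S D' := range_normConj S D' ▸ ⟨_, rfl⟩
    have hcs : c ∈ stab D' P' := fun x => by
      rw [hcdef, normConj_apply]
      exact ⟨fun h => by simpa [mul_assoc] using normalizerIn_conj_inv hmP h,
        fun h => normalizerIn_conj hmP h⟩
    have hcA : c ∈ A := ⟨autInducedBy_le_autGroup F le_rfl hD'S hcB, hcs⟩
    have hcmod : c ∈ modSub D' P' := by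
      refine ⟨hcs, fun x => ?_⟩
      obtain ⟨d, hd, hde⟩ := (hfM.mem_img_iff hDM).1 (hfD.symm ▸ x.2 : (x : Ω) ∈ img f D)
      obtain ⟨u, hu, w, hw, rfl⟩ := mem_sup_centralizer hPT (hC ▸ hD ▸ hd : _ ∈ P ⊔ centralizerIn S T)
      have hdM : u * w ∈ M := hDM hd
      have hwu : w⁻¹ * (u⁻¹ * (n * u * n⁻¹)) * w = u⁻¹ * (n * u * n⁻¹) := by
        have h1 := centralizerIn_conj (inv_mem hw)
          (hPT (mul_mem (inv_mem hu) (normalizerIn_conj hnN hu)))
        rwa [inv_inv] at h1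
      have key : (u * w)⁻¹ * (n * (u * w) * n⁻¹) = u⁻¹ * (n * u * n⁻¹) := by
        calc (u * w)⁻¹ * (n * (u * w) * n⁻¹)
            = w⁻¹ * (u⁻¹ * (n * u * n⁻¹)) * (n * w * n⁻¹) := by group
          _ = _ := by rw [hnC n (hNT hn) w (hC ▸ hw), hwu]
      show ((x : Ω))⁻¹ * (m * x * m⁻¹) ∈ P'
      rw [← hde, ← hne, ← hfM.map_conj (hNM hn) hdM, ← hfM.map_inv hdM,
        ← hfM.map_mul (inv_mem hdM) (mul_mem (mul_mem (hNM hn) hdM) (inv_mem (hNM hn))), key, ← hfP]
      exact hfM.mem_img (mul_mem (inv_mem hu) (normalizerIn_conj hnN hu))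
    have hu : δ' * c * δ'⁻¹ * c⁻¹ ∈ U := by
      refine ⟨⟨mul_mem (mul_mem (mul_mem ⟨hδ'A, hδ's⟩ hcA) (Subgroup.inv_mem _ ⟨hδ'A, hδ's⟩))
        (Subgroup.inv_mem _ hcA), fun x hx => ?_⟩,
        Subgroup.mul_mem _ (conj_mem_modSub hδ's hcmod) (Subgroup.inv_mem _ hcmod)⟩
      have h1 : (((c⁻¹ : MulAut D') x : D') : Ω) ∈ P' := ((inv_mem hcs : _ ∈ stab D' P') x).2 hx
      rw [MulAut.mul_apply, MulAut.mul_apply, MulAut.mul_apply,
        (inv_mem hδ'fix : _ ∈ fixer D' P') _ h1, MulAut.apply_inv_self, hδ'fix x hx]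
    have := mul_mem (hUB _ hu) hcB
    simpa [mul_assoc] using this
  have hηD : ∀ x ∈ D, η (f x) = f (autFn δ x) := fun x hx => by
    rw [hηe _ (hiD.mem hx), autFn_apply δ' (hiD.mem hx)]
    show ((MulAut.congr hiD.equiv δ (hiD.equiv ⟨x, hx⟩) : D') : Ω) = _
    rw [congr_apply_coe, autFn_apply δ hx]
  have hPM : P ≤ M := hPN.trans hNM
  have hN'T : N' ≤ T := hfM.img_le hNM fun x hx =>
    isMap_mem_of_stronglyClosed hi.2.1 hfM (hNM hx) (hNT hx)
  have hP'N' : P' ≤ N' := hfP ▸ hfM.img_le hPM fun x hx => hfM.mem_img (hPN hx)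
  have hmem : ∀ x ∈ M, f x ∈ D' ⊔ N' := fun x hx => hfM.forall_mem_sup le_sup_left le_sup_right
    (fun y hy => Subgroup.mem_sup_right (hfM.mem_img hy))
    (fun y hy => Subgroup.mem_sup_left (hiD.mem (hCD hy))) hx
  have hfη : IsMap F M (fun x => η (f x)) := hfM.comp hη hmem
  have hNη : ∀ n ∈ N, η (f n) ∈ img f M := by
    intro n hn
    have hfn : f n ∈ D' ⊔ N' := hmem n (hNM hn)
    have hηT : η (f n) ∈ T :=
      isMap_mem_of_stronglyClosed hi.2.1 hη hfn (hN'T (hfM.mem_img hn))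
    have hz : (f n)⁻¹ * η (f n) ∈ P' := by
      refine hcP'.2 P' (isConj_refl E hcP'.1) (mem_centralizerIn_of_conj
        (mul_mem (inv_mem (hN'T (hfM.mem_img hn))) hηT) fun y hy => ?_)
      obtain ⟨x, hx, rfl⟩ := hiP.exists_eq hy
      have hnx : n * x * n⁻¹ ∈ P := normalizerIn_conj (hN ▸ hn) hx
      have h1 : ∀ z ∈ P, η (f z) = f z := fun z hz => by rw [hηD z (hPD hz), hfix z hz]
      have h2 := hη.map_conj hfn (Subgroup.mem_sup_left (hiD.mem (hPD hx)) : f x ∈ D' ⊔ N')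
      rw [h1 x hx, ← hfM.map_conj (hNM hn) (hPM hx), h1 _ hnx, hfM.map_conj (hNM hn) (hPM hx)] at h2
      calc (f n)⁻¹ * η (f n) * f x * ((f n)⁻¹ * η (f n))⁻¹
          = (f n)⁻¹ * (η (f n) * f x * (η (f n))⁻¹) * f n := by group
        _ = f x := by rw [← h2]; group
    have h3 := mul_mem (hfM.mem_img hn : f n ∈ N') (hP'N' hz)
    rw [mul_inv_cancel_left] at h3
    exact hfM.img_le hNM (fun z hz => hfM.mem_img (hNM hz)) h3
  have hmaps : ∀ x ∈ M, η (f x) ∈ img f M := fun x hx =>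
    hfη.forall_mem_sup le_sup_left le_sup_right hNη (fun y hy => by
      show η (f y) ∈ img f M
      rw [hηD y (hCD hy)]
      exact hfM.mem_img (hDM (autFn_mem δ (hCD hy)))) hx
  obtain ⟨i, hi', hil, hir⟩ := hfM.isIso.symm
  have hm : IsMap F M (fun x => i (η (f x))) := hfη.comp hi'.1 hmaps
  have hmM : img (fun x => i (η (f x))) M = M :=
    eq_of_le_of_card hMS (hm.img_le le_rfl fun x hx => hi'.mem (hmaps x hx)) (hm.card_img le_rfl).ge
  obtain ⟨ν, hν, hνe⟩ := exists_aut_of_isIso (show IsIso F M M _ from ⟨hm, hmM⟩)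
  have hνD : ∀ x ∈ D, autFn ν x = autFn δ x := fun x hx => by
    rw [autFn_apply ν (hDM hx), hνe]
    show i (η (f x)) = _
    rw [hηD x hx, hil _ (hDM (autFn_mem δ hx))]
  have := finite_of_le hMS
  have := finite_mulAut hMS
  have hiter : ∀ (j : ℕ), ∀ x ∈ D, autFn (ν ^ j) x = autFn (δ ^ j) x := by
    intro j
    induction j with
    | zero =>
      intro x hx
      rw [pow_zero, pow_zero, autFn_apply _ (hDM hx), autFn_apply _ hx]
      rfl
    | succ j ih =>
      intro x hx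
      rw [pow_succ, pow_succ, autFn_mul _ _ (hDM hx), autFn_mul _ _ hx, hνD x hx,
        ih _ (autFn_mem δ hx)]
  have hδfix : ∀ (j : ℕ), ∀ x ∈ P, autFn (δ ^ j) x = x := by
    intro j
    induction j with
    | zero => intro x hx; rw [pow_zero, autFn_apply _ (hPD hx)]; rfl
    | succ j ih => intro x hx; rw [pow_succ, autFn_mul _ _ (hPD hx), hfix x hx, ih x hx]
  have hp : p.Prime := Fact.out
  set w := orderOf δ with hw
  obtain ⟨e, r, hr, hre⟩ := Nat.exists_eq_pow_mul_and_not_dvd (orderOf_pos ν).ne' p hp.ne_one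
  have hrp : r.Coprime p := ((Nat.Prime.coprime_iff_not_dvd hp).2 hr).symm
  obtain ⟨i0, hi1, hi2⟩ := Nat.chineseRemainder
    ((hrp.symm.pow_left e).mul_right (hord.symm.pow_left e)) 0 1
  set ν₁ := ν ^ i0 with hν₁
  have hν₁δ : ∀ x ∈ D, autFn ν₁ x = autFn δ x := fun x hx => by
    have h1 : δ ^ i0 = δ := by
      conv_rhs => rw [← pow_one δ]
      exact pow_eq_pow_iff_modEq.2 (hi2.of_dvd (dvd_mul_left _ _))
    rw [hν₁, hiter i0 x hx, h1]
  have hν₁r : ν₁ ^ r = 1 := by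
    rw [hν₁, ← pow_mul]
    refine orderOf_dvd_iff_pow_eq_one.1 ?_
    rw [hre]
    exact mul_dvd_mul_right (Nat.modEq_zero_iff_dvd.1 hi1) r
  have hν₁A : ν₁ ∈ F.autGroup M := pow_mem hν i0
  refine ⟨ν₁, hν₁A, fun n hn => ?_, hν₁δ, hrp.coprime_dvd_left (orderOf_dvd_of_pow_eq_one hν₁r)⟩
  have hm₁ : IsMap F M (autFn ν₁) := (mem_autGroup_iff hMS).1 hν₁A
  have hnN : n ∈ normalizerIn T P := hN ▸ hn
  have hnM : n ∈ M := hNM hn
  have hfixP : ∀ x ∈ P, autFn ν₁ x = x := fun x hx => by rw [hν₁δ x (hPD hx), hfix x hx]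
  set z := n⁻¹ * autFn ν₁ n with hz
  have hzP : z ∈ P := by
    refine hc.2 P (isConj_refl E hPT) (mem_centralizerIn_of_conj (mul_mem (inv_mem (hNT hn))
      (isMap_mem_of_stronglyClosed hi.2.1 hm₁ hnM (hNT hn))) fun x hx => ?_)
    have h2 := hm₁.map_conj hnM (hPM hx)
    rw [hfixP x hx, hfixP _ (normalizerIn_conj hnN hx)] at h2
    calc z * x * z⁻¹ = n⁻¹ * (autFn ν₁ n * x * (autFn ν₁ n)⁻¹) * n := by rw [hz]; group
      _ = x := by rw [← h2]; group
  have hzM : z ∈ M := hPM hzP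
  have hpow := autFn_pow_fix ν₁ hnM hzM (by rw [hz, mul_inv_cancel_left]) (hfixP z hzP) r
  rw [hν₁r, autFn_apply _ hnM] at hpow
  have hzr : z ^ r = 1 := by simpa using hpow.symm
  have hz_ : z = 1 := by
    refine orderOf_eq_one_iff.1 (Nat.eq_one_of_dvd_coprimes (hrp.pow_right k0)
      (orderOf_dvd_of_pow_eq_one hzr) (orderOf_dvd_of_pow_eq_one (hz1 z (hMS hzM))))
  calc autFn ν₁ n = n * z := by rw [hz, mul_inv_cancel_left]
    _ = n := by rw [hz_, mul_one]

/-- An automorphism of order prime to `p` of `P C_S(T)` fixing `P` extends to `T C_S(T)` fixing `T`. -/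
theorem exists_lift (hS : IsPGroup p S) (hF : F.IsSaturated p) (hi : E.IsInvariantIn F) :
    ∀ {P : Subgroup Ω}, E.IsCentric P → ∀ {δ : MulAut (P ⊔ centralizerIn S T : Subgroup Ω)},
      δ ∈ F.autGroup (P ⊔ centralizerIn S T) → (∀ x ∈ P, autFn δ x = x) → (orderOf δ).Coprime p →
      ∃ ε ∈ F.autGroup (T ⊔ centralizerIn S T),
        (∀ x ∈ T, autFn ε x = x) ∧ ∀ x ∈ P ⊔ centralizerIn S T, autFn ε x = autFn δ x := by
  intro P
  have hTS : T ≤ S := hi.2.1.1
  have := finite_of_le hTS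
  induction hn : Nat.card T - Nat.card P using Nat.strong_induction_on generalizing P with
  | _ n ih =>
  intro hc δ hδ hfix hord
  by_cases hPT : P = T
  · subst hPT
    exact ⟨δ, hδ, hfix, fun _ _ => rfl⟩
  obtain ⟨ν, hν, hνN, hνD, hνo⟩ := exists_lift_step_aux hS hF hi hc rfl rfl rfl hδ hfix hord
  have hlt : P < normalizerIn T P :=
    lt_normalizerIn (hS.to_le hTS) le_rfl (lt_of_le_of_ne hc.1 hPT)
  have h1 : Nat.card P < Nat.card (normalizerIn T P) := card_lt inf_le_left hlt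
  have h2 : Nat.card (normalizerIn T P) ≤ Nat.card T := Subgroup.card_le_of_le inf_le_left
  obtain ⟨ε, hε, hεT, hεN⟩ := ih _ (by omega) rfl (isCentric_of_le hc hlt.le inf_le_left) hν hνN hνo
  exact ⟨ε, hε, hεT, fun x hx => by
    rw [hεN x (sup_le_sup_right hlt.le _ hx), hνD x hx]⟩

end Cfsg.Agent.FusionCrit
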