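import Cfsg.Agent.Lib.FusionCrit.Pairs
import Cfsg.Agent.Lib.Fusion.KSystem
import Cfsg.Prelude.Def_FusionComponents

/-
Direct products of saturated fusion systems.
Main results (namespace `Cfsg.Agent.FusionCrit`): `isMap_product_iff`, `far_prod`, `isSaturated_product`.
-/

set_option autoImplicit false

namespace Cfsg.Agent.FusionCrit

open Cfsg Cfsg.FusionSystem Cfsg.Agent.Fusion

variable {Ω₁ Ω₂ : Type*} [Group Ω₁] [Group Ω₂] {S₁ : Subgroup Ω₁} {S₂ : Subgroup Ω₂}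
  {F₁ : FusionSystem S₁} {F₂ : FusionSystem S₂} {E : FusionSystem (S₁.prod S₂)} {p : ℕ}

/-- The first projection of a subgroup. -/
abbrev pr₁ (P : Subgroup (Ω₁ × Ω₂)) : Subgroup Ω₁ := P.map (MonoidHom.fst Ω₁ Ω₂)

/-- The second projection of a subgroup. -/
abbrev pr₂ (P : Subgroup (Ω₁ × Ω₂)) : Subgroup Ω₂ := P.map (MonoidHom.snd Ω₁ Ω₂)

theorem le_pr_prod (P : Subgroup (Ω₁ × Ω₂)) : P ≤ (pr₁ P).prod (pr₂ P) :=
  fun x hx => ⟨⟨x, hx, rfl⟩, ⟨x, hx, rfl⟩⟩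

theorem isMap_product_iff (hE : IsProductSystem F₁ F₂ E) {P : Subgroup (Ω₁ × Ω₂)}
    {f : Ω₁ × Ω₂ → Ω₁ × Ω₂} : IsMap E P f ↔ P ≤ S₁.prod S₂ ∧ ∃ f₁ f₂, IsMap F₁ (pr₁ P) f₁ ∧
      IsMap F₂ (pr₂ P) f₂ ∧ ∀ x ∈ P, f x = (f₁ x.1, f₂ x.2) := by
  constructor
  · rintro ⟨φ, hφ, e⟩
    obtain ⟨hP, φ₁, h₁, φ₂, h₂, he⟩ := (hE P φ).1 hφ
    refine ⟨hP, toFn φ₁, toFn φ₂, isMap_toFn h₁, isMap_toFn h₂, fun x hx => ?_⟩
    rw [← e x hx, he ⟨x, hx⟩ ⟨x, hx, rfl⟩ ⟨x, hx, rfl⟩]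
    exact Prod.ext (toFn_apply φ₁ (x := x.1) ⟨x, hx, rfl⟩).symm
      (toFn_apply φ₂ (x := x.2) ⟨x, hx, rfl⟩).symm
  · rintro ⟨hP, f₁, f₂, ⟨φ₁, h₁, e₁⟩, ⟨φ₂, h₂, e₂⟩, e⟩
    refine ⟨MonoidHom.mk' (fun x : P => (φ₁ ⟨(x : Ω₁ × Ω₂).1, ⟨x, x.2, rfl⟩⟩,
      φ₂ ⟨(x : Ω₁ × Ω₂).2, ⟨x, x.2, rfl⟩⟩)) ?_, ?_, fun x hx => ?_⟩
    · intro a b
      rw [Prod.mk_mul_mk, ← map_mul, ← map_mul]
      rfl
    · exact (hE P _).2 ⟨hP, φ₁, h₁, φ₂, h₂, fun x _ _ => rfl⟩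
    · rw [e x hx]
      exact Prod.ext (e₁ x.1 ⟨x, hx, rfl⟩) (e₂ x.2 ⟨x, hx, rfl⟩)

theorem pr₁_prod (A : Subgroup Ω₁) (B : Subgroup Ω₂) : pr₁ (A.prod B) = A :=
  le_antisymm (fun _ ⟨x, hx, e⟩ => e ▸ hx.1) fun a ha => ⟨(a, 1), ⟨ha, B.one_mem⟩, rfl⟩

theorem pr₂_prod (A : Subgroup Ω₁) (B : Subgroup Ω₂) : pr₂ (A.prod B) = B :=
  le_antisymm (fun _ ⟨x, hx, e⟩ => e ▸ hx.2) fun b hb => ⟨(1, b), ⟨A.one_mem, hb⟩, rfl⟩

theorem card_prod (A : Subgroup Ω₁) (B : Subgroup Ω₂) :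
    Nat.card (A.prod B) = Nat.card A * Nat.card B := by
  rw [Nat.card_congr (Subgroup.prodEquiv A B).toEquiv, Nat.card_prod]

/-- Pairs of automorphisms as automorphisms of the product. -/
def prodAut (A : Subgroup Ω₁) (B : Subgroup Ω₂) : MulAut A × MulAut B →* MulAut (A.prod B) where
  toFun α :=
    { toFun := fun x => ⟨((α.1 ⟨(x : Ω₁ × Ω₂).1, x.2.1⟩ : A), (α.2 ⟨(x : Ω₁ × Ω₂).2, x.2.2⟩ : B)),
        (α.1 _).2, (α.2 _).2⟩
      invFun := fun x => ⟨((α.1⁻¹ ⟨(x : Ω₁ × Ω₂).1, x.2.1⟩ : A), (α.2⁻¹ ⟨(x : Ω₁ × Ω₂).2, x.2.2⟩ : B)),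
        (α.1⁻¹ _).2, (α.2⁻¹ _).2⟩
      left_inv := fun x => Subtype.ext (Prod.ext
        (by simp) (by simp))
      right_inv := fun x => Subtype.ext (Prod.ext
        (by simp) (by simp))
      map_mul' := fun x y => Subtype.ext (Prod.ext
        (congrArg Subtype.val (α.1.map_mul ⟨(x : Ω₁ × Ω₂).1, x.2.1⟩ ⟨(y : Ω₁ × Ω₂).1, y.2.1⟩) :)
        (congrArg Subtype.val (α.2.map_mul ⟨(x : Ω₁ × Ω₂).2, x.2.2⟩ ⟨(y : Ω₁ × Ω₂).2, y.2.2⟩) :)) }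
  map_one' := rfl
  map_mul' _ _ := rfl

theorem prodAut_apply {A : Subgroup Ω₁} {B : Subgroup Ω₂} (α : MulAut A × MulAut B)
    (x : A.prod B) : ((prodAut A B α x : A.prod B) : Ω₁ × Ω₂) =
      (((α.1 ⟨(x : Ω₁ × Ω₂).1, x.2.1⟩ : A) : Ω₁), ((α.2 ⟨(x : Ω₁ × Ω₂).2, x.2.2⟩ : B) : Ω₂)) := rfl

theorem prodAut_injective (A : Subgroup Ω₁) (B : Subgroup Ω₂) :
    Function.Injective (prodAut A B) := by
  intro α β h
  refine Prod.ext (MulEquiv.ext fun a => Subtype.ext ?_) (MulEquiv.ext fun b => Subtype.ext ?_)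
  · exact congrArg (fun γ : MulAut (A.prod B) =>
      ((γ ⟨(a, 1), a.2, B.one_mem⟩ : A.prod B) : Ω₁ × Ω₂).1) h
  · exact congrArg (fun γ : MulAut (A.prod B) =>
      ((γ ⟨(1, b), A.one_mem, b.2⟩ : A.prod B) : Ω₁ × Ω₂).2) h

variable [Finite S₁] [Finite S₂] [Fact p.Prime]

theorem autGroup_prod (hE : IsProductSystem F₁ F₂ E) {A : Subgroup Ω₁} {B : Subgroup Ω₂}
    (hA : A ≤ S₁) (hB : B ≤ S₂) :
    E.autGroup (A.prod B) = ((F₁.autGroup A).prod (F₂.autGroup B)).map (prodAut A B) := by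
  have hle : A.prod B ≤ S₁.prod S₂ := Subgroup.prod_mono hA hB
  ext γ
  constructor
  · intro hγ
    obtain ⟨-, f₁, f₂, h₁, h₂, he⟩ := (isMap_product_iff hE).1 ((mem_autGroup_iff hle).1 hγ)
    rw [pr₁_prod] at h₁
    rw [pr₂_prod] at h₂
    have him₁ : img f₁ A = A := eq_of_le_of_card hA (h₁.img_le le_rfl fun a ha => by
      have h := he (a, 1) ⟨ha, B.one_mem⟩
      have h' := autFn_mem γ (show (a, 1) ∈ A.prod B from ⟨ha, B.one_mem⟩)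
      rw [h] at h'
      exact h'.1) (h₁.card_img le_rfl).ge
    have him₂ : img f₂ B = B := eq_of_le_of_card hB (h₂.img_le le_rfl fun b hb => by
      have h := he (1, b) ⟨A.one_mem, hb⟩
      have h' := autFn_mem γ (show (1, b) ∈ A.prod B from ⟨A.one_mem, hb⟩)
      rw [h] at h'
      exact h'.2) (h₂.card_img le_rfl).ge
    obtain ⟨α, hα, hαe⟩ := exists_aut_of_isIso (show IsIso F₁ A A f₁ from ⟨h₁, him₁⟩)
    obtain ⟨β, hβ, hβe⟩ := exists_aut_of_isIso (show IsIso F₂ B B f₂ from ⟨h₂, him₂⟩)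
    refine ⟨(α, β), ⟨hα, hβ⟩, MulEquiv.ext fun x => Subtype.ext ?_⟩
    rw [prodAut_apply, hαe, hβe, ← autFn_apply γ x.2, he _ x.2]
  · rintro ⟨⟨α, β⟩, ⟨hα, hβ⟩, rfl⟩
    refine (mem_autGroup_iff hle).2 ((isMap_product_iff hE).2 ⟨hle, autFn α, autFn β, ?_, ?_, ?_⟩)
    · rw [pr₁_prod]
      exact (mem_autGroup_iff hA).1 hα
    · rw [pr₂_prod]
      exact (mem_autGroup_iff hB).1 hβ
    · intro x hx
      rw [autFn_apply _ hx, prodAut_apply, autFn_apply α hx.1, autFn_apply β hx.2]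

omit [Finite S₁] [Finite S₂] [Fact p.Prime] in
theorem autInducedBy_prod {A : Subgroup Ω₁} {B : Subgroup Ω₂} :
    autInducedBy (S₁.prod S₂) (A.prod B) =
      ((autInducedBy S₁ A).prod (autInducedBy S₂ B)).map (prodAut A B) := by
  ext γ
  constructor
  · intro hγ
    obtain ⟨g, hg, he⟩ := mem_autInducedBy_iff.1 hγ
    have h1 : g.1 ∈ normalizerIn S₁ A := by
      refine mem_normalizerIn.2 ⟨hg.1, fun a => ⟨fun ha => ?_, fun ha => ?_⟩⟩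
      · have h := (γ ⟨(a, 1), ha, B.one_mem⟩).2
        rw [he] at h
        exact h.1
      · have h := he (γ⁻¹ ⟨(g.1 * a * g.1⁻¹, 1), ha, B.one_mem⟩)
        rw [MulAut.apply_inv_self] at h
        have h' := congrArg Prod.fst h
        simp only [Prod.fst_mul, Prod.fst_inv] at h'
        exact (mul_left_cancel (mul_right_cancel h')) ▸ (γ⁻¹ _).2.1
    have h2 : g.2 ∈ normalizerIn S₂ B := by
      refine mem_normalizerIn.2 ⟨hg.2, fun b => ⟨fun hb => ?_, fun hb => ?_⟩⟩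
      · have h := (γ ⟨(1, b), A.one_mem, hb⟩).2
        rw [he] at h
        exact h.2
      · have h := he (γ⁻¹ ⟨(1, g.2 * b * g.2⁻¹), A.one_mem, hb⟩)
        rw [MulAut.apply_inv_self] at h
        have h' := congrArg Prod.snd h
        simp only [Prod.snd_mul, Prod.snd_inv] at h'
        exact (mul_left_cancel (mul_right_cancel h')) ▸ (γ⁻¹ _).2.2
    refine ⟨(normConj S₁ A ⟨g.1, h1⟩, normConj S₂ B ⟨g.2, h2⟩),
      ⟨range_normConj S₁ A ▸ ⟨_, rfl⟩, range_normConj S₂ B ▸ ⟨_, rfl⟩⟩,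
      MulEquiv.ext fun x => Subtype.ext ?_⟩
    rw [prodAut_apply, normConj_apply, normConj_apply, he]
    rfl
  · rintro ⟨⟨α, β⟩, ⟨hα, hβ⟩, rfl⟩
    obtain ⟨a, ha, hae⟩ := mem_autInducedBy_iff.1 hα
    obtain ⟨b, hb, hbe⟩ := mem_autInducedBy_iff.1 hβ
    refine mem_autInducedBy_iff.2 ⟨(a, b), ⟨ha, hb⟩, fun x => ?_⟩
    rw [prodAut_apply, hae, hbe]
    rfl

/-- A product of good subgroups is good. -/
theorem far_prod (hE : IsProductSystem F₁ F₂ E) {A : Subgroup Ω₁} {B : Subgroup Ω₂}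
    (hA : FAR F₁ p A) (hB : FAR F₂ p B) : FAR E p (A.prod B) := by
  have hAS := hA.2.1
  have hBS := hB.2.1
  have hle : A.prod B ≤ S₁.prod S₂ := Subgroup.prod_mono hAS hBS
  have : Finite (S₁.prod S₂) := Finite.of_equiv _ (Subgroup.prodEquiv S₁ S₂).symm.toEquiv
  have := finite_mulAut hle
  have := finite_mulAut hAS
  have := finite_mulAut hBS
  refine ⟨isFullyAutomized_iff.2 ⟨hle, ?_⟩, isReceptive_iff.2 ⟨hle, fun P f hf => ?_⟩⟩
  · have h1 := (isFullyAutomized_iff.1 hA.1).2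
    have h2 := (isFullyAutomized_iff.1 hB.1).2
    have hc : IsSylowIn p ((autInducedBy S₁ A).prod (autInducedBy S₂ B))
        ((F₁.autGroup A).prod (F₂.autGroup B)) := by
      rw [isSylowIn_iff_card (Subgroup.prod_mono h1.le h2.le), card_prod, card_prod, h1.card, h2.card,
        Nat.factorization_mul Nat.card_pos.ne' Nat.card_pos.ne', Finsupp.add_apply, pow_add]
    rw [autGroup_prod hE hAS hBS, autInducedBy_prod]
    exact hc.image (prodAut A B)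
  · obtain ⟨hP, f₁, f₂, h₁, h₂, he⟩ := (isMap_product_iff hE).1 hf.1
    have him₁ : img f₁ (pr₁ P) = A := by
      refine IsIso.img_eq_of h₁ le_rfl ?_ fun a ha => ?_
      · rintro _ ⟨x, hx, rfl⟩
        have h := hf.mem hx
        rw [he x hx] at h
        exact h.1
      · obtain ⟨x, hx, hxe⟩ := hf.exists_eq (show (a, (1 : Ω₂)) ∈ A.prod B from ⟨ha, B.one_mem⟩)
        rw [he x hx] at hxe
        exact ⟨x.1, ⟨x, hx, rfl⟩, (Prod.ext_iff.1 hxe).1⟩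
    have him₂ : img f₂ (pr₂ P) = B := by
      refine IsIso.img_eq_of h₂ le_rfl ?_ fun b hb => ?_
      · rintro _ ⟨x, hx, rfl⟩
        have h := hf.mem hx
        rw [he x hx] at h
        exact h.2
      · obtain ⟨x, hx, hxe⟩ := hf.exists_eq (show ((1 : Ω₁), b) ∈ A.prod B from ⟨A.one_mem, hb⟩)
        rw [he x hx] at hxe
        exact ⟨x.2, ⟨x, hx, rfl⟩, (Prod.ext_iff.1 hxe).2⟩
    have hQS : (pr₁ P).prod (pr₂ P) ≤ S₁.prod S₂ := Subgroup.prod_mono h₁.le h₂.le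
    have hPeq : P = (pr₁ P).prod (pr₂ P) :=
      eq_of_le_of_card hQS (le_pr_prod P) (by
        rw [card_prod, ← hf.card_eq, card_prod, ← him₁, ← him₂, h₁.card_img le_rfl,
          h₂.card_img le_rfl])
    obtain ⟨g₁, hg₁, hge₁⟩ := (isReceptive_iff.1 hA.2).2 _ f₁ ⟨h₁, him₁⟩
    obtain ⟨g₂, hg₂, hge₂⟩ := (isReceptive_iff.1 hB.2).2 _ f₂ ⟨h₂, him₂⟩
    set N := Nx (S₁.prod S₂) P f with hN
    have hN1 : pr₁ N ≤ Nx S₁ (pr₁ P) f₁ := by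
      rintro _ ⟨g, hg, rfl⟩
      obtain ⟨hgN, t, ht, hte⟩ := mem_Nx.1 hg
      refine mem_Nx.2 ⟨mem_normalizerIn.2 ⟨hgN.1.1, fun a => ?_⟩, t.1, ht.1, ?_⟩
      · constructor
        · rintro ⟨x, hx, rfl⟩
          exact ⟨g * x * g⁻¹, normalizerIn_conj hgN hx, rfl⟩
        · rintro ⟨x, hx, hxe⟩
          refine ⟨g⁻¹ * x * g, normalizerIn_conj_inv hgN hx, ?_⟩
          show g.1⁻¹ * x.1 * g.1 = a
          rw [show x.1 = g.1 * a * g.1⁻¹ from hxe]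
          group
      · rintro _ ⟨x, hx, rfl⟩
        have h := congrArg Prod.fst (hte x hx)
        rw [he _ (normalizerIn_conj hgN hx), he x hx] at h
        exact h
    have hN2 : pr₂ N ≤ Nx S₂ (pr₂ P) f₂ := by
      rintro _ ⟨g, hg, rfl⟩
      obtain ⟨hgN, t, ht, hte⟩ := mem_Nx.1 hg
      refine mem_Nx.2 ⟨mem_normalizerIn.2 ⟨hgN.1.2, fun a => ?_⟩, t.2, ht.2, ?_⟩
      · constructor
        · rintro ⟨x, hx, rfl⟩
          exact ⟨g * x * g⁻¹, normalizerIn_conj hgN hx, rfl⟩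
        · rintro ⟨x, hx, hxe⟩
          refine ⟨g⁻¹ * x * g, normalizerIn_conj_inv hgN hx, ?_⟩
          show g.2⁻¹ * x.2 * g.2 = a
          rw [show x.2 = g.2 * a * g.2⁻¹ from hxe]
          group
      · rintro _ ⟨x, hx, rfl⟩
        have h := congrArg Prod.snd (hte x hx)
        rw [he _ (normalizerIn_conj hgN hx), he x hx] at h
        exact h
    refine ⟨fun x => (g₁ x.1, g₂ x.2), (isMap_product_iff hE).2
      ⟨(Nx_le_normalizerIn _ _ _).trans inf_le_left, g₁, g₂, hg₁.mono hN1, hg₂.mono hN2,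
        fun _ _ => rfl⟩, fun x hx => ?_⟩
    rw [he x hx]
    exact Prod.ext (hge₁ _ ⟨x, hx, rfl⟩) (hge₂ _ ⟨x, hx, rfl⟩)

/-- The product of saturated systems is saturated. -/
theorem isSaturated_product (h₁ : IsPGroup p S₁) (h₂ : IsPGroup p S₂) (hF₁ : F₁.IsSaturated p)
    (hF₂ : F₂.IsSaturated p) (hE : IsProductSystem F₁ F₂ E) : E.IsSaturated p := by
  have : Finite (S₁.prod S₂) := Finite.of_equiv _ (Subgroup.prodEquiv S₁ S₂).symm.toEquiv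
  obtain ⟨a₁, ha₁⟩ := IsPGroup.iff_card.1 h₁
  obtain ⟨a₂, ha₂⟩ := IsPGroup.iff_card.1 h₂
  have hS : IsPGroup p (S₁.prod S₂) :=
    IsPGroup.of_card (n := a₁ + a₂) (by rw [card_prod, ha₁, ha₂, pow_add])
  intro P hP
  have hP₁ : pr₁ P ≤ S₁ := fun a ⟨x, hx, e⟩ => e ▸ (hP hx).1
  have hP₂ : pr₂ P ≤ S₂ := fun a ⟨x, hx, e⟩ => e ▸ (hP hx).2
  set H := (pr₁ P).prod (pr₂ P) with hH
  obtain ⟨R₁, hc₁, hA₁, hr₁⟩ := hF₁ _ hP₁
  obtain ⟨R₂, hc₂, hA₂, hr₂⟩ := hF₂ _ hP₂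
  obtain ⟨e₁, he₁⟩ := isConj_iff.1 hc₁
  obtain ⟨e₂, he₂⟩ := isConj_iff.1 hc₂
  have hHc : E.IsConj H (R₁.prod R₂) := by
    have hm : IsMap E H (fun x => (e₁ x.1, e₂ x.2)) := (isMap_product_iff hE).2
      ⟨Subgroup.prod_mono hP₁ hP₂, e₁, e₂, by rw [hH, pr₁_prod]; exact he₁.1,
        by rw [hH, pr₂_prod]; exact he₂.1, fun _ _ => rfl⟩
    refine isConj_iff.2 ⟨_, hm, IsIso.img_eq_of hm le_rfl (fun x hx => ⟨he₁.mem hx.1, he₂.mem hx.2⟩)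
      fun y hy => ?_⟩
    obtain ⟨a, ha, hae⟩ := he₁.exists_eq hy.1
    obtain ⟨b, hb, hbe⟩ := he₂.exists_eq hy.2
    exact ⟨(a, b), ⟨ha, hb⟩, Prod.ext hae hbe⟩
  obtain ⟨R, Q, f, ht, hf, hfQ⟩ := exists_pair_target hS (le_pr_prod P)
    (far_prod hE ⟨hA₁, hr₁⟩ ⟨hA₂, hr₂⟩) hHc
  have hRS : R ≤ S₁.prod S₂ := ht.1.2.1
  have hQR : Q ≤ R := ht.2.1
  have hQS := hQR.trans hRS
  have hcPQ : E.IsConj P Q := isConj_iff.2 ⟨f, hf.1.mono (le_pr_prod P), hfQ⟩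
  obtain ⟨-, f₁, f₂, hf₁, hf₂, hfe⟩ := (isMap_product_iff hE).1 hf.1
  rw [pr₁_prod] at hf₁
  rw [pr₂_prod] at hf₂
  have hR : R = (pr₁ Q).prod (pr₂ Q) := by
    refine le_antisymm (fun z hz => ?_) fun z hz => ?_
    · obtain ⟨y, hy, rfl⟩ := hf.exists_eq hz
      rw [hfe y hy]
      obtain ⟨⟨x₁, hx₁, e1⟩, ⟨x₂, hx₂, e2⟩⟩ := hy
      have m₁ := hfQ ▸ hf.1.mem_img (Q := P) hx₁
      have m₂ := hfQ ▸ hf.1.mem_img (Q := P) hx₂
      refine ⟨⟨f x₁, m₁, ?_⟩, ⟨f x₂, m₂, ?_⟩⟩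
      · show (f x₁).1 = f₁ y.1
        rw [hfe x₁ (le_pr_prod P hx₁)]
        exact congrArg f₁ e1
      · show (f x₂).2 = f₂ y.2
        rw [hfe x₂ (le_pr_prod P hx₂)]
        exact congrArg f₂ e2
    · obtain ⟨⟨u, hu, e1⟩, ⟨v, hv, e2⟩⟩ := hz
      obtain ⟨x, hx, rfl⟩ := hf.exists_eq (hQR hu)
      obtain ⟨y, hy, rfl⟩ := hf.exists_eq (hQR hv)
      rw [hfe x hx] at e1
      rw [hfe y hy] at e2
      have hxy : (x.1, y.2) ∈ H := ⟨hx.1, hy.2⟩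
      have := hf.mem hxy
      rw [hfe _ hxy] at this
      rwa [show z = (f₁ x.1, f₂ y.2) from Prod.ext e1.symm e2.symm]
  -- maps on the hull are determined by their restrictions
  have huniq : ∀ {W : Subgroup (Ω₁ × Ω₂)} {a b : Ω₁ × Ω₂ → Ω₁ × Ω₂},
      IsMap E ((pr₁ W).prod (pr₂ W)) a → IsMap E ((pr₁ W).prod (pr₂ W)) b →
      (∀ x ∈ W, a x = b x) → ∀ x ∈ (pr₁ W).prod (pr₂ W), a x = b x := by
    intro W a b ha hb hab x hx
    obtain ⟨-, a₁, a₂, -, -, hae⟩ := (isMap_product_iff hE).1 ha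
    obtain ⟨-, b₁, b₂, -, -, hbe⟩ := (isMap_product_iff hE).1 hb
    obtain ⟨⟨u, hu, e1⟩, ⟨v, hv, e2⟩⟩ := id hx
    have h1 := hab u hu
    have h2 := hab v hv
    rw [hae u (le_pr_prod W hu), hbe u (le_pr_prod W hu)] at h1
    rw [hae v (le_pr_prod W hv), hbe v (le_pr_prod W hv)] at h2
    rw [hae x hx, hbe x hx, ← show u.1 = x.1 from e1, ← show v.2 = x.2 from e2]
    exact Prod.ext (Prod.ext_iff.1 h1).1 (Prod.ext_iff.1 h2).2
  have hhull : ∀ {W : Subgroup (Ω₁ × Ω₂)} {a : Ω₁ × Ω₂ → Ω₁ × Ω₂}, IsMap E W a →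
      ∃ b, IsMap E ((pr₁ W).prod (pr₂ W)) b ∧ ∀ x ∈ W, b x = a x := by
    intro W a ha
    obtain ⟨-, a₁, a₂, ha₁, ha₂, hae⟩ := (isMap_product_iff hE).1 ha
    exact ⟨fun x => (a₁ x.1, a₂ x.2), (isMap_product_iff hE).2
      ⟨Subgroup.prod_mono ha₁.le ha₂.le, a₁, a₂, by rw [pr₁_prod]; exact ha₁,
        by rw [pr₂_prod]; exact ha₂, fun _ _ => rfl⟩, fun x hx => (hae x hx).symm⟩
  have hnorm : ∀ {W : Subgroup (Ω₁ × Ω₂)}, W ≤ S₁.prod S₂ → ∀ {g : Ω₁ × Ω₂},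
      g ∈ normalizerIn (S₁.prod S₂) W → g ∈ normalizerIn (S₁.prod S₂) ((pr₁ W).prod (pr₂ W)) := by
    intro W hW g hg
    have : Finite ((pr₁ W).prod (pr₂ W)) := finite_of_le (Subgroup.prod_mono
      (show pr₁ W ≤ S₁ from fun a ⟨x, hx, e⟩ => e ▸ (hW hx).1)
      (show pr₂ W ≤ S₂ from fun a ⟨x, hx, e⟩ => e ▸ (hW hx).2))
    refine mem_normalizerIn_of_conj hg.1 fun x hx => ?_
    obtain ⟨⟨u, hu, e1⟩, ⟨v, hv, e2⟩⟩ := hx
    exact ⟨⟨g * u * g⁻¹, normalizerIn_conj hg hu, by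
        show g.1 * u.1 * g.1⁻¹ = g.1 * x.1 * g.1⁻¹
        rw [show u.1 = x.1 from e1]⟩,
      ⟨g * v * g⁻¹, normalizerIn_conj hg hv, by
        show g.2 * v.2 * g.2⁻¹ = g.2 * x.2 * g.2⁻¹
        rw [show v.2 = x.2 from e2]⟩⟩
  have := finite_mulAut hRS
  have := finite_mulAut hQS
  refine ⟨Q, hcPQ, isFullyAutomized_iff.2 ⟨hQS, ?_⟩, isReceptive_iff.2 ⟨hQS, fun W φ hφ => ?_⟩⟩
  · have hres : ∀ (ψ : stab R Q) (γ : MulAut Q),
        (∀ x ∈ Q, autFn (ψ : MulAut R) x = autFn γ x) → restr hQR ψ = γ := fun ψ γ e =>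
      MulEquiv.ext fun x => Subtype.ext (by
        rw [restr_apply, ← autFn_apply (ψ : MulAut R) (hQR x.2), e x x.2, autFn_apply γ x.2])
    have h1 := (ht.2.2.subgroupOf (W := stab R Q) inf_le_right).image (restr hQR)
    convert h1 using 1
    · ext γ
      constructor
      · intro hγ
        obtain ⟨t, ht', hte⟩ := mem_autInducedBy_iff.1 hγ
        have htQ : t ∈ normalizerIn (S₁.prod S₂) Q := mem_normalizerIn_of_aut ht' hte
        have htR : t ∈ normalizerIn (S₁.prod S₂) R := hR.symm ▸ hnorm hQS htQ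
        have hs : normConj (S₁.prod S₂) R ⟨t, htR⟩ ∈ stab R Q := fun z => by
          rw [normConj_apply]
          exact ⟨fun h => by simpa [mul_assoc] using normalizerIn_conj_inv htQ h,
            fun h => normalizerIn_conj htQ h⟩
        refine ⟨⟨_, hs⟩, ⟨range_normConj (S₁.prod S₂) R ▸ ⟨_, rfl⟩, hs⟩, hres _ _ fun x hx => ?_⟩
        rw [autFn_apply _ (hQR hx), autFn_apply _ hx, normConj_apply, hte]
      · rintro ⟨ψ, hψ, rfl⟩
        obtain ⟨t, ht', hte⟩ := mem_autInducedBy_iff.1 hψ.1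
        refine mem_autInducedBy_iff.2 ⟨t, ht', fun x => ?_⟩
        rw [restr_apply]
        exact hte ⟨x, hQR x.2⟩
    · ext γ
      constructor
      · intro hγ
        obtain ⟨b, hb, hbe⟩ := hhull ((mem_autGroup_iff hQS).1 hγ)
        rw [← hR] at hb
        have hbR : img b R = R := eq_of_le_of_card hRS (hb.img_le le_rfl fun x hx => by
          obtain ⟨-, b₁, b₂, -, -, hbb⟩ := (isMap_product_iff hE).1 hb
          rw [hR] at hx
          obtain ⟨⟨u, hu, e1⟩, ⟨v, hv, e2⟩⟩ := id hx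
          have hu' := autFn_mem γ hu
          have hv' := autFn_mem γ hv
          rw [← hbe u hu, hbb u (hQR hu)] at hu'
          rw [← hbe v hv, hbb v (hQR hv)] at hv'
          rw [hbb x (hR.symm ▸ hx), hR]
          exact ⟨⟨_, hu', congrArg b₁ e1⟩, ⟨_, hv', congrArg b₂ e2⟩⟩) (hb.card_img le_rfl).ge
        obtain ⟨χ, hχ, hχe⟩ := exists_aut_of_isIso (show IsIso E R R b from ⟨hb, hbR⟩)
        have hχQ : ∀ x ∈ Q, autFn χ x = autFn γ x := fun x hx => by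
          rw [autFn_apply χ (hQR hx), hχe, hbe x hx]
        have hχs : χ ∈ stab R Q := fun x => by
          rw [hχe]
          constructor
          · intro h
            have h2 := hbe _ (autFn_mem γ⁻¹ h)
            rw [autFn_self_inv γ h] at h2
            exact hb.inj (hQR (autFn_mem γ⁻¹ h)) x.2 h2 ▸ autFn_mem γ⁻¹ h
          · intro h
            rw [hbe _ h]
            exact autFn_mem γ h
        exact ⟨⟨χ, hχs⟩, ⟨hχ, hχs⟩, hres _ _ hχQ⟩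
      · rintro ⟨ψ, hψ, rfl⟩
        refine (mem_autGroup_iff hQS).2 ((((mem_autGroup_iff hRS).1 hψ.1).mono hQR).congr
          fun x hx => ?_)
        rw [autFn_apply _ (hQR hx), autFn_apply _ hx, restr_apply]
        rfl
  · set K := (pr₁ W).prod (pr₂ W) with hK
    obtain ⟨b, hb, hbe⟩ := hhull hφ.1
    have hbR : img b K = R := by
      obtain ⟨-, b₁, b₂, -, -, hbb⟩ := (isMap_product_iff hE).1 hb
      refine IsIso.img_eq_of hb le_rfl (fun x hx => ?_) fun z hz => ?_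
      · obtain ⟨⟨u, hu, e1⟩, ⟨v, hv, e2⟩⟩ := id hx
        have hu' := hφ.mem hu
        have hv' := hφ.mem hv
        rw [← hbe u hu, hbb u (le_pr_prod W hu)] at hu'
        rw [← hbe v hv, hbb v (le_pr_prod W hv)] at hv'
        rw [hbb x hx, hR]
        exact ⟨⟨_, hu', congrArg b₁ e1⟩, ⟨_, hv', congrArg b₂ e2⟩⟩
      · rw [hR] at hz
        obtain ⟨⟨u, hu, e1⟩, ⟨v, hv, e2⟩⟩ := id hz
        obtain ⟨x, hx, rfl⟩ := hφ.exists_eq hu
        obtain ⟨y, hy, rfl⟩ := hφ.exists_eq hv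
        have hxy : (x.1, y.2) ∈ K := ⟨⟨x, hx, rfl⟩, ⟨y, hy, rfl⟩⟩
        refine ⟨(x.1, y.2), hxy, ?_⟩
        rw [hbb _ hxy]
        rw [← hbe x hx, hbb x (le_pr_prod W hx)] at e1
        rw [← hbe y hy, hbb y (le_pr_prod W hy)] at e2
        exact Prod.ext e1 e2
    obtain ⟨g, hg, hge⟩ := (isReceptive_iff.1 ht.1.2).2 K b ⟨hb, hbR⟩
    have hWK : W ≤ K := le_pr_prod W
    have hKS : K ≤ S₁.prod S₂ := hb.le
    have hWS : W ≤ S₁.prod S₂ := hφ.le_left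
    refine ⟨g, hg.mono fun y hy => ?_, fun x hx => (hge x (hWK hx)).trans (hbe x hx)⟩
    obtain ⟨hyN, t, ht', hte⟩ := mem_Nx.1 hy
    have hyK : y ∈ normalizerIn (S₁.prod S₂) K := hnorm hWS hyN
    refine mem_Nx.2 ⟨hyK, t, ht', ?_⟩
    have hl : IsMap E K (fun x => b (y * x * y⁻¹)) :=
      (Fusion.IsMap.conj hKS hyN.1).comp hb fun x hx => normalizerIn_conj hyK hx
    have hr : IsMap E K (fun x => t * b x * t⁻¹) :=
      hb.comp (Fusion.IsMap.conj hRS ht') fun x hx => hbR ▸ hb.mem_img hx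
    exact huniq hl hr fun x hx => by
      show b (y * x * y⁻¹) = t * b x * t⁻¹
      rw [hbe _ (normalizerIn_conj hyN hx), hbe x hx, hte x hx]

end Cfsg.Agent.FusionCrit
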